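/-
Rig-closed primes of complete Noetherian rings.
-/
import Mathlib
import Groth.Agent.S0544
import Groth.Agent.AdicLim.Noetherian
import Groth.Agent.EGA418Base.Model

set_option autoImplicit false
set_option linter.style.haveILetI false
set_option backward.isDefEq.respectTransparency false

universe u

noncomputable section

namespace Groth.Agent.RigPts

variable {A : Type u} [CommRing A]

/-- `I ⊄ q` and `q` maximal among such primes. -/
def RigClosed (I : Ideal A) (q : PrimeSpectrum A) : Prop :=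
  ¬ I ≤ q.asIdeal ∧ ∀ q' : PrimeSpectrum A, q ≤ q' → ¬ I ≤ q'.asIdeal → q' = q

theorem le_of_prime_ne_bot [IsNoetherianRing A] [IsDomain A] {J : Ideal A} (hJ : J ≠ ⊥)
    (h : ∀ P : Ideal A, P.IsPrime → P ≠ ⊥ → J ≤ P) : ringKrullDim A ≤ 1 := by
  suffices hd : Ring.KrullDimLE 1 A by
    have := (Ring.krullDimLE_iff (n := 1) (R := A)).1 hd
    exact_mod_cast this
  rw [Ring.krullDimLE_one_iff]
  intro P hP
  rcases eq_or_ne P ⊥ with rfl | hP0
  · exact Or.inl (by simp [minimalPrimes, Ideal.minimalPrimes_eq_subsingleton_self])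
  right
  by_contra hmax
  obtain ⟨M, hM, hPM⟩ := Ideal.exists_le_maximal P hP.ne_top
  have hlt : P < M := lt_of_le_of_ne hPM fun e => hmax (e ▸ hM)
  obtain ⟨a, haJ, ha0⟩ := Submodule.exists_mem_ne_zero_of_ne_bot hJ
  have hfin : ((Ideal.span {a}).minimalPrimes).Finite := Ideal.finite_minimalPrimes_of_isNoetherianRing A _
  obtain ⟨x, hxM, hx⟩ : ∃ x ∈ M, ∀ Q ∈ (Ideal.span {a}).minimalPrimes, x ∉ Q := by
    by_contra! hall
    obtain ⟨Q, hQ, hMQ⟩ := (Ideal.subset_union_prime (s := hfin.toFinset) ⊥ ⊥ fun Q hQ _ _ =>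
      (hfin.mem_toFinset.1 hQ).1.1).1
      (show (M : Set A) ⊆ ⋃ Q ∈ (hfin.toFinset : Set (Ideal A)), (Q : Set A) from fun y hy => by
        obtain ⟨Q, hQ, hyQ⟩ := hall y hy
        exact Set.mem_iUnion₂.2 ⟨Q, hfin.mem_toFinset.2 hQ, hyQ⟩)
    have hQ' := hfin.mem_toFinset.1 hQ
    haveI := hQ'.1.1
    exact absurd (hQ'.2 ⟨hP, (Ideal.span_singleton_le_iff_mem (I := P)).2 (h P hP hP0 haJ)⟩
      (hlt.le.trans hMQ)) fun hQP => (lt_irrefl P) (hlt.trans_le (hMQ.trans hQP))
  obtain ⟨Q, hQ, hQM⟩ := Ideal.exists_minimalPrimes_le ((Ideal.span_singleton_le_iff_mem (I := M)).2 hxM)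
  haveI := hQ.1.1
  have hQh : Q.height ≤ 1 := Ideal.height_le_one_of_isPrincipal_of_mem_minimalPrimes _ Q hQ
  have hx0 : x ≠ 0 := by
    rintro rfl
    obtain ⟨Q', hQ', -⟩ := Ideal.exists_minimalPrimes_le ((Ideal.span_singleton_le_iff_mem (I := P)).2 (h P hP hP0 haJ))
    exact hx Q' hQ' (Ideal.zero_mem _)
  have hxQ : x ∈ Q := hQ.1.2 (Ideal.mem_span_singleton_self x)
  have hQ0 : Q ≠ ⊥ := fun e => hx0 (by simpa [e] using hxQ)
  refine hx Q ⟨⟨inferInstance, (Ideal.span_singleton_le_iff_mem (I := Q)).2 (h Q inferInstance hQ0 haJ)⟩,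
    fun Q' ⟨hQ'p, hQ'a⟩ hle => ?_⟩ hxQ
  by_contra hne
  haveI := hQ'p
  have hQ'0 : (⊥ : Ideal A) < Q' := bot_lt_iff_ne_bot.2 fun e => ha0 (by simpa [e] using hQ'a)
  have h1 := Ideal.height_strict_mono_of_isPrime hQ'0
  have h2 := Ideal.height_strict_mono_of_isPrime (lt_of_le_not_ge hle hne)
  have h3 : Q'.height < 1 := lt_of_lt_of_le h2 hQh
  rw [ENat.lt_one_iff_eq_zero] at h3
  rw [h3] at h1
  exact not_lt_bot h1

/-- A complete Noetherian domain of dimension one is local with maximal ideal the radical. -/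
theorem maximal_eq_radical {A : Type u} [CommRing A] [IsDomain A] [IsNoetherianRing A] (J : Ideal A)
    [IsAdicComplete J A] (hJ : J ≠ ⊥) (hdim : ringKrullDim A ≤ 1) (m : Ideal A) (hm : m.IsMaximal) :
    m = J.radical := by
  haveI : Ring.KrullDimLE 1 A := (Ring.krullDimLE_iff (n := 1) (R := A)).2 (by exact_mod_cast hdim)
  have hjac := IsAdicComplete.le_jacobson_bot J
  have hJm : ∀ P : Ideal A, P.IsMaximal → J ≤ P := fun P hP x hx => Ideal.mem_sInf.1 (hjac hx) ⟨bot_le, hP⟩
  have hprime : ∀ P : Ideal A, P.IsPrime → J ≤ P → P.IsMaximal := fun P hP hle =>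
    hP.isMaximal_of_ne_bot fun e => hJ (le_bot_iff.1 (e ▸ hle))
  have huniq : ∀ P : Ideal A, P.IsMaximal → P = m := by
    intro P hP
    by_contra hne
    obtain ⟨x, hxP, hxm⟩ : ∃ x ∈ P, x ∉ m := by
      by_contra! hle
      exact hne (hP.eq_of_le hm.ne_top hle)
    -- an idempotent of `A/J` separating `P` from the other primes
    have hfin : ∀ Q : Ideal (A ⧸ J), Q.IsPrime → Q.IsMaximal := fun Q hQ => by
      have h1 := hprime (Q.comap (Ideal.Quotient.mk J)) inferInstance (fun y hy => by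
        rw [Ideal.mem_comap, Ideal.Quotient.eq_zero_iff_mem.2 hy]; exact Q.zero_mem)
      have h2 := Ideal.map_eq_top_or_isMaximal_of_surjective (Ideal.Quotient.mk J) Ideal.Quotient.mk_surjective h1
      rw [Ideal.map_comap_of_surjective _ Ideal.Quotient.mk_surjective] at h2
      exact h2.resolve_left hQ.ne_top
    haveI : Ring.KrullDimLE 0 (A ⧸ J) := Ring.krullDimLE_zero_iff.2 hfin
    haveI : IsArtinianRing (A ⧸ J) := isArtinianRing_iff_krullDimLE_zero.2 inferInstance
    obtain ⟨n, hn⟩ := IsArtinian.exists_pow_succ_smul_dvd (R := A ⧸ J) (M := A ⧸ J) (Ideal.Quotient.mk J x) 1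
    obtain ⟨w, hw⟩ := hn
    rw [smul_eq_mul, smul_eq_mul, mul_one] at hw
    let e := (Ideal.Quotient.mk J x) ^ n * w ^ n
    have hee : e * e = e := by
      have key : ∀ j, (Ideal.Quotient.mk J x) ^ n = (Ideal.Quotient.mk J x) ^ (n + j) * w ^ j := by
        intro j
        induction j with
        | zero => simp
        | succ j ih =>
          calc (Ideal.Quotient.mk J x) ^ n = (Ideal.Quotient.mk J x) ^ (n + j) * w ^ j := ih
            _ = (Ideal.Quotient.mk J x) ^ j * (Ideal.Quotient.mk J x) ^ n * w ^ j := by ring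
            _ = (Ideal.Quotient.mk J x) ^ j * ((Ideal.Quotient.mk J x) ^ n.succ * w) * w ^ j := by rw [hw]
            _ = _ := by rw [Nat.succ_eq_add_one]; ring
      calc e * e = (Ideal.Quotient.mk J x) ^ (n + n) * w ^ n * w ^ n := by ring
        _ = e := by rw [← key]
    obtain ⟨a, ha⟩ := Ideal.Quotient.mk_surjective e
    obtain ⟨r, hr, hra⟩ := HenselianRing.is_henselian (I := J) (Polynomial.X ^ 2 - Polynomial.X) (by monicity!) a
      (by
        rw [← Ideal.Quotient.eq_zero_iff_mem]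
        simp [ha, sq, hee])
      (by
        refine IsUnit.of_mul_eq_one (2 * e - 1) ?_
        simp only [Polynomial.derivative_sub, Polynomial.derivative_X_pow, Polynomial.derivative_X, Polynomial.eval_sub,
          Polynomial.eval_mul, Polynomial.eval_pow, Polynomial.eval_X, Polynomial.eval_one, Polynomial.eval_C, Polynomial.eval_ofNat,
          map_sub, map_mul, map_one, Nat.cast_ofNat, map_ofNat, pow_one, show (2 : ℕ) - 1 = 1 from rfl, ha]
        linear_combination 4 * hee)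
    have hr' : r * r = r := sub_eq_zero.1 (by simpa [Polynomial.IsRoot, sq] using hr)
    have hre : Ideal.Quotient.mk J r = e := by rw [← ha]; exact Ideal.Quotient.eq.2 hra
    rcases IsIdempotentElem.iff_eq_zero_or_one.1 (show IsIdempotentElem r from hr') with rfl | rfl
    · -- then `x` is nilpotent modulo `J`, hence in `m`
      rw [map_zero] at hre
      have hxn : (Ideal.Quotient.mk J x) ^ n = 0 := by
        have key : ∀ j, (Ideal.Quotient.mk J x) ^ n = (Ideal.Quotient.mk J x) ^ (n + j) * w ^ j := by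
          intro j
          induction j with
          | zero => simp
          | succ j ih =>
            calc (Ideal.Quotient.mk J x) ^ n = (Ideal.Quotient.mk J x) ^ (n + j) * w ^ j := ih
              _ = (Ideal.Quotient.mk J x) ^ j * (Ideal.Quotient.mk J x) ^ n * w ^ j := by ring
              _ = (Ideal.Quotient.mk J x) ^ j * ((Ideal.Quotient.mk J x) ^ n.succ * w) * w ^ j := by rw [hw]
              _ = _ := by rw [Nat.succ_eq_add_one]; ring
        rw [key n, pow_add, mul_assoc, ← show e = (Ideal.Quotient.mk J x) ^ n * w ^ n from rfl, ← hre, mul_zero]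
      rw [← map_pow, Ideal.Quotient.eq_zero_iff_mem] at hxn
      exact hxm (hm.isPrime.mem_of_pow_mem n (hJm m hm hxn))
    · rw [map_one] at hre
      rcases Nat.eq_zero_or_pos n with rfl | hn0
      · rw [pow_zero, pow_succ, pow_zero, one_mul] at hw
        obtain ⟨v, rfl⟩ := Ideal.Quotient.mk_surjective w
        rw [← map_mul, ← map_one (Ideal.Quotient.mk J), Ideal.Quotient.eq] at hw
        exact hP.ne_top ((Ideal.eq_top_iff_one _).2 (by
          have := sub_mem (Ideal.mul_mem_right v P hxP) (hJm P hP hw)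
          rwa [sub_sub_cancel] at this))
      · obtain ⟨v, rfl⟩ := Ideal.Quotient.mk_surjective w
        have h1 : x ^ n * v ^ n - 1 ∈ J := Ideal.Quotient.eq.1 (by rw [map_mul, map_pow, map_pow, map_one]; exact hre.symm)
        exact hP.ne_top ((Ideal.eq_top_iff_one _).2 (by
          have := sub_mem (Ideal.mul_mem_right (v ^ n) P (P.pow_mem_of_mem hxP n hn0)) (hJm P hP h1)
          rwa [sub_sub_cancel] at this))
  refine le_antisymm (fun y hy => ?_) ((Ideal.radical_mono (hJm m hm)).trans (hm.isPrime.radical).le)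
  rw [Ideal.radical_eq_sInf, Submodule.mem_sInf]
  rintro P ⟨hle, hP⟩
  rwa [huniq P (hprime P hP hle)]

theorem quotient_setup [IsNoetherianRing A] (I : Ideal A) [IsAdicComplete I A] (q : Ideal A) :
    IsAdicComplete (I.map (Ideal.Quotient.mk q)) (A ⧸ q) := by
  have h := AdicLim.isAdicComplete_of_finite I (A ⧸ q)
  rw [← IsAdicComplete.map_algebraMap_iff (S := A ⧸ q)] at h
  exact h

theorem map_ne_bot {I q : Ideal A} (h : ¬ I ≤ q) : I.map (Ideal.Quotient.mk q) ≠ ⊥ := fun e => h (by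
  rwa [Ideal.map_eq_bot_iff_le_ker, Ideal.mk_ker] at e)

theorem dim_eq_one_of_rigClosed [IsNoetherianRing A] (I : Ideal A) [IsAdicComplete I A] {q : PrimeSpectrum A}
    (h : RigClosed I q) : ringKrullDim (A ⧸ q.asIdeal) = 1 := by
  haveI := quotient_setup I q.asIdeal
  haveI := q.isPrime
  refine le_antisymm (le_of_prime_ne_bot (map_ne_bot h.1) fun P hP hP0 => ?_) ?_
  · rw [Ideal.map_le_iff_le_comap]
    by_contra hle
    haveI := hP
    have h2 := h.2 ⟨P.comap (Ideal.Quotient.mk q.asIdeal), inferInstance⟩ (fun x hx => by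
      show Ideal.Quotient.mk _ x ∈ P
      rw [Ideal.Quotient.eq_zero_iff_mem.2 hx]; exact P.zero_mem) hle
    refine hP0 ?_
    rw [← Ideal.map_comap_of_surjective _ Ideal.Quotient.mk_surjective P, show P.comap (Ideal.Quotient.mk q.asIdeal) = q.asIdeal from
      congrArg PrimeSpectrum.asIdeal h2, Ideal.map_quotient_self]
  · rw [show ringKrullDim (A ⧸ q.asIdeal) = Order.krullDim (PrimeSpectrum (A ⧸ q.asIdeal)) from rfl]
    obtain ⟨m, hm, -⟩ := Ideal.exists_le_maximal (⊥ : Ideal (A ⧸ q.asIdeal)) bot_ne_top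
    have hm0 : (⊥ : Ideal (A ⧸ q.asIdeal)) < m := by
      refine bot_lt_iff_ne_bot.2 fun e => map_ne_bot h.1 (le_bot_iff.1 ?_)
      intro x hx
      have := Ideal.mem_sInf.1 (IsAdicComplete.le_jacobson_bot (I.map (Ideal.Quotient.mk q.asIdeal)) hx) ⟨bot_le, hm⟩
      rwa [e] at this
    exact Order.one_le_krullDim_iff.2 ⟨⟨⊥, Ideal.isPrime_bot⟩, ⟨m, hm.isPrime⟩, hm0⟩

theorem rigClosed_of_dim {I : Ideal A} {q : PrimeSpectrum A} (hI : ¬ I ≤ q.asIdeal)
    (hdim : ringKrullDim (A ⧸ q.asIdeal) ≤ 1)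
    (hJ : ∀ m : Ideal (A ⧸ q.asIdeal), m.IsMaximal → I.map (Ideal.Quotient.mk q.asIdeal) ≤ m) : RigClosed I q := by
  refine ⟨hI, fun q' hle hI' => ?_⟩
  by_contra hne
  haveI := q.isPrime
  haveI : Ring.KrullDimLE 1 (A ⧸ q.asIdeal) := (Ring.krullDimLE_iff (n := 1)).2 (by exact_mod_cast hdim)
  haveI := q'.isPrime
  have hker : RingHom.ker (Ideal.Quotient.mk q.asIdeal) ≤ q'.asIdeal := by rw [Ideal.mk_ker]; exact hle
  haveI := Ideal.map_isPrime_of_surjective Ideal.Quotient.mk_surjective hker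
  have hmax := Ideal.IsPrime.isMaximal_of_ne_bot (I := q'.asIdeal.map (Ideal.Quotient.mk q.asIdeal)) inferInstance (by
    rw [Ne, Ideal.map_eq_bot_iff_le_ker, Ideal.mk_ker]
    exact fun h => hne (PrimeSpectrum.ext (le_antisymm h hle)))
  refine hI' fun x hx => ?_
  have := hJ _ hmax (Ideal.mem_map_of_mem _ hx)
  rw [← Ideal.mem_comap, Ideal.comap_map_of_surjective _ Ideal.Quotient.mk_surjective, ← RingHom.ker_eq_comap_bot,
    sup_eq_left.2 hker] at this
  exact this

theorem le_maximal [IsNoetherianRing A] (I : Ideal A) [IsAdicComplete I A] (q : Ideal A) (m : Ideal (A ⧸ q))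
    (hm : m.IsMaximal) : I.map (Ideal.Quotient.mk q) ≤ m :=
  haveI := quotient_setup I q
  fun _ hx => Ideal.mem_sInf.1 (IsAdicComplete.le_jacobson_bot (I.map (Ideal.Quotient.mk q)) hx) ⟨bot_le, hm⟩

theorem rigClosed_iff_dim [IsNoetherianRing A] (I : Ideal A) [IsAdicComplete I A] (q : PrimeSpectrum A) :
    RigClosed I q ↔ ringKrullDim (A ⧸ q.asIdeal) = 1 ∧ ¬ I ≤ q.asIdeal :=
  ⟨fun h => ⟨dim_eq_one_of_rigClosed I h, h.1⟩, fun h => rigClosed_of_dim h.2 h.1.le (le_maximal I _)⟩

theorem tfae [IsNoetherianRing A] (I : Ideal A) [IsAdicComplete I A] (q : PrimeSpectrum A) :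
    List.TFAE [RigClosed I q, ringKrullDim (A ⧸ q.asIdeal) = 1 ∧ ¬ I ≤ q.asIdeal,
      ringKrullDim (A ⧸ q.asIdeal) = 1 ∧
        (∀ m : Ideal (A ⧸ q.asIdeal), m.IsMaximal → m = (I.map (Ideal.Quotient.mk q.asIdeal)).radical) ∧
        IsAdicComplete (I.map (Ideal.Quotient.mk q.asIdeal)).radical (A ⧸ q.asIdeal)] := by
  haveI := quotient_setup I q.asIdeal
  haveI := q.isPrime
  tfae_have 1 ↔ 2 := rigClosed_iff_dim I q
  tfae_have 2 → 3 := by
    rintro ⟨hd, hI⟩
    refine ⟨hd, maximal_eq_radical _ (map_ne_bot hI) hd.le, ?_⟩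
    obtain ⟨c, hc⟩ := Ideal.exists_pow_le_of_le_radical_of_fg (I := (I.map (Ideal.Quotient.mk q.asIdeal)).radical)
      (J := I.map (Ideal.Quotient.mk q.asIdeal)) le_rfl (IsNoetherian.noetherian _)
    exact EGA418Base.isAdicComplete_of_pow_le (c := c + 1) (Nat.succ_pos c)
      ((Ideal.pow_le_pow_right (Nat.le_succ c)).trans hc) Ideal.le_radical
  tfae_have 3 → 2 := by
    rintro ⟨hd, hm, -⟩
    refine ⟨hd, fun hle => ?_⟩
    have h0 : I.map (Ideal.Quotient.mk q.asIdeal) = ⊥ := by rwa [Ideal.map_eq_bot_iff_le_ker, Ideal.mk_ker]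
    obtain ⟨m, hmax, -⟩ := Ideal.exists_le_maximal (⊥ : Ideal (A ⧸ q.asIdeal)) bot_ne_top
    have hmb : m = ⊥ := by rw [hm m hmax, h0]; exact (Ideal.isPrime_bot (α := A ⧸ q.asIdeal)).radical
    have hf : IsField (A ⧸ q.asIdeal) := by
      by_contra hf
      exact Ring.ne_bot_of_isMaximal_of_not_isField hmax hf hmb
    rw [ringKrullDim_eq_zero_of_isField hf] at hd
    exact zero_ne_one hd
  tfae_finish

end Groth.Agent.RigPts
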