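/-
Completions of two algebras which agree modulo all powers of the ideals.
-/
import Mathlib.RingTheory.AdicCompletion.Algebra

set_option autoImplicit false
set_option linter.style.haveILetI false
set_option backward.isDefEq.respectTransparency false

universe u

noncomputable section

namespace Groth.Agent.RigPts

theorem evalₐ_compat {R : Type u} [CommRing R] (I : Ideal R) {m n : ℕ} (hle : m ≤ n) (x : AdicCompletion I R) :
    Ideal.Quotient.factorPow I hle (AdicCompletion.evalₐ I n x) = AdicCompletion.evalₐ I m x := by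
  obtain ⟨c, rfl⟩ := AdicCompletion.mk_surjective I R x
  rw [AdicCompletion.evalₐ_mk, AdicCompletion.evalₐ_mk]
  exact AdicCompletion.Ideal.mk_eq_mk I hle c

theorem adicCompletion_algEquiv {A B D : Type u} [CommRing A] [CommRing B] [CommRing D] [Algebra A B] [Algebra A D]
    (f : B →ₐ[A] D) (I : Ideal B) (K : Ideal D) (hle : ∀ n, I ^ n ≤ (K ^ n).comap f.toRingHom)
    (hmem : ∀ (n : ℕ) (b : B), f b ∈ K ^ n → b ∈ I ^ n) (hsurj : ∀ (n : ℕ) (d : D), ∃ b, f b - d ∈ K ^ n) :
    Nonempty (AdicCompletion I B ≃ₐ[A] AdicCompletion K D) := by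
  let q : ∀ n, B ⧸ I ^ n →+* D ⧸ K ^ n := fun n => Ideal.quotientMap (K ^ n) f.toRingHom (hle n)
  have hq : ∀ n, Function.Bijective (q n) := fun n => by
    refine ⟨(injective_iff_map_eq_zero _).2 fun x hx => ?_, fun y => ?_⟩
    · obtain ⟨b, rfl⟩ := Ideal.Quotient.mk_surjective x
      exact Ideal.Quotient.eq_zero_iff_mem.2 (hmem n b (Ideal.Quotient.eq_zero_iff_mem.1 hx))
    · obtain ⟨d, rfl⟩ := Ideal.Quotient.mk_surjective y
      obtain ⟨b, hb⟩ := hsurj n d
      exact ⟨Ideal.Quotient.mk _ b, Ideal.Quotient.eq.2 hb⟩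
  let g : ∀ n, B ⧸ I ^ n ≃+* D ⧸ K ^ n := fun n => RingEquiv.ofBijective (q n) (hq n)
  have hqc : ∀ {m n : ℕ} (h : m ≤ n) (y : B ⧸ I ^ n),
      Ideal.Quotient.factorPow K h (g n y) = g m (Ideal.Quotient.factorPow I h y) := by
    intro m n h y
    obtain ⟨b, rfl⟩ := Ideal.Quotient.mk_surjective y
    rfl
  have hqc' : ∀ {m n : ℕ} (h : m ≤ n) (y : D ⧸ K ^ n),
      Ideal.Quotient.factorPow I h ((g n).symm y) = (g m).symm (Ideal.Quotient.factorPow K h y) := by
    intro m n h y
    apply (g m).injective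
    rw [← hqc h, RingEquiv.apply_symm_apply, RingEquiv.apply_symm_apply]
  let F : AdicCompletion I B →+* AdicCompletion K D :=
    AdicCompletion.liftRingHom K (fun n => (g n).toRingHom.comp (AdicCompletion.evalₐ I n).toRingHom) fun {m n} h =>
      RingHom.ext fun x => (hqc h (AdicCompletion.evalₐ I n x)).trans (congrArg (g m) (evalₐ_compat I h x))
  let G : AdicCompletion K D →+* AdicCompletion I B :=
    AdicCompletion.liftRingHom I (fun n => (g n).symm.toRingHom.comp (AdicCompletion.evalₐ K n).toRingHom) fun {m n} h =>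
      RingHom.ext fun x => (hqc' h (AdicCompletion.evalₐ K n x)).trans (congrArg (g m).symm (evalₐ_compat K h x))
  have hF : ∀ n x, AdicCompletion.evalₐ K n (F x) = g n (AdicCompletion.evalₐ I n x) := fun n x =>
    AdicCompletion.evalₐ_liftRingHom K _ _ n x
  have hG : ∀ n x, AdicCompletion.evalₐ I n (G x) = (g n).symm (AdicCompletion.evalₐ K n x) := fun n x =>
    AdicCompletion.evalₐ_liftRingHom I _ _ n x
  refine ⟨AlgEquiv.ofRingEquiv (f := RingEquiv.ofRingHom F G
    (RingHom.ext fun x => AdicCompletion.ext_evalₐ fun n => ?_)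
    (RingHom.ext fun x => AdicCompletion.ext_evalₐ fun n => ?_)) fun a => AdicCompletion.ext_evalₐ fun n => ?_⟩
  · rw [RingHom.comp_apply, hF, hG, RingEquiv.apply_symm_apply]; rfl
  · rw [RingHom.comp_apply, hG, hF, RingEquiv.symm_apply_apply]; rfl
  · show AdicCompletion.evalₐ K n (F _) = _
    rw [hF, IsScalarTower.algebraMap_apply A B (AdicCompletion I B), AlgHom.commutes,
      IsScalarTower.algebraMap_apply A D (AdicCompletion K D), AlgHom.commutes]
    show Ideal.Quotient.mk (K ^ n) (f (algebraMap A B a)) = Ideal.Quotient.mk (K ^ n) (algebraMap A D a)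
    rw [f.commutes]

end Groth.Agent.RigPts
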