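/-
Rig-closed primes along adic morphisms topologically of finite type.
-/
import Groth.Agent.RigPts.Basic
import Groth.Agent.SegreDim.Noether

set_option autoImplicit false
set_option linter.style.haveILetI false
set_option backward.isDefEq.respectTransparency false

universe u

noncomputable section

namespace Groth.Agent.RigPts

variable {A : Type u} [CommRing A] [IsNoetherianRing A] {I : Ideal A} [IsAdicComplete I A]
  {B : Type u} [CommRing B] [Algebra A B] [IsNoetherianRing B] [IsAdicComplete (I.map (algebraMap A B)) B]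

theorem map_not_le {q : PrimeSpectrum B} (h : ¬ I.map (algebraMap A B) ≤ q.asIdeal) :
    ¬ I ≤ (PrimeSpectrum.comap (algebraMap A B) q).asIdeal := fun hle => h (Ideal.map_le_iff_le_comap.2 hle)

omit [IsNoetherianRing A] [IsAdicComplete I A] in
theorem exists_maximal {q : PrimeSpectrum B} (hq : RigClosed (I.map (algebraMap A B)) q) :
    ∃ m : Ideal B, m.IsMaximal ∧ q.asIdeal ≤ m ∧ I.map (algebraMap A B) ≤ m ∧
      m = (q.asIdeal ⊔ I.map (algebraMap A B)).radical := by
  haveI := q.isPrime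
  haveI := quotient_setup (I.map (algebraMap A B)) q.asIdeal
  obtain ⟨m, hm, hqm⟩ := Ideal.exists_le_maximal q.asIdeal q.isPrime.ne_top
  have hIm : I.map (algebraMap A B) ≤ m := fun x hx =>
    Ideal.mem_sInf.1 (IsAdicComplete.le_jacobson_bot (I.map (algebraMap A B)) hx) ⟨bot_le, hm⟩
  refine ⟨m, hm, hqm, hIm, le_antisymm ?_ ((Ideal.radical_mono (sup_le hqm hIm)).trans hm.isPrime.radical.le)⟩
  have hker : RingHom.ker (Ideal.Quotient.mk q.asIdeal) ≤ m := by rwa [Ideal.mk_ker]
  have h3 := maximal_eq_radical ((I.map (algebraMap A B)).map (Ideal.Quotient.mk q.asIdeal)) (map_ne_bot hq.1)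
    (dim_eq_one_of_rigClosed _ hq).le _
    ((Ideal.map_eq_top_or_isMaximal_of_surjective _ Ideal.Quotient.mk_surjective hm).resolve_left fun e => by
      have := congrArg (Ideal.comap (Ideal.Quotient.mk q.asIdeal)) e
      rw [Ideal.comap_map_of_surjective _ Ideal.Quotient.mk_surjective, Ideal.comap_top, ← RingHom.ker_eq_comap_bot,
        sup_eq_left.2 hker] at this
      exact hm.ne_top this)
  intro x hx
  have hx' := h3.le (Ideal.mem_map_of_mem (Ideal.Quotient.mk q.asIdeal) hx)
  obtain ⟨k, hk⟩ := hx'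
  rw [← map_pow, ← Ideal.mem_comap, Ideal.comap_map_of_surjective _ Ideal.Quotient.mk_surjective,
    ← RingHom.ker_eq_comap_bot, Ideal.mk_ker, sup_comm] at hk
  exact ⟨k, hk⟩

/-- A zero-dimensional local algebra with finite residue field is finite. -/
theorem finite_quotient_of_finite_residue {K m : Ideal B} [m.IsMaximal] (hKm : K ≤ m) (hmK : m ≤ K.radical)
    [Module.Finite A (B ⧸ m)] : Module.Finite A (B ⧸ K) := by
  obtain ⟨c, hc⟩ := Ideal.exists_pow_le_of_le_radical_of_fg hmK (IsNoetherian.noetherian m)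
  letI := Ideal.Quotient.field m
  haveI : IsNoetherianRing (B ⧸ K) := inferInstance
  suffices h : ∀ j, Module.Finite A (B ⧸ (K ⊔ m ^ j)) by
    have := h c
    rwa [sup_eq_left.2 hc] at this
  intro j
  induction j with
  | zero =>
    rw [pow_zero, Ideal.one_eq_top, sup_top_eq]
    exact Module.Finite.of_surjective (0 : A →ₗ[A] B ⧸ (⊤ : Ideal B)) fun x =>
      ⟨0, Subsingleton.elim (h := Ideal.Quotient.subsingleton_iff.2 rfl) _ _⟩
  | succ j ih =>
    let K1 := K ⊔ m ^ (j + 1)
    let K2 := K ⊔ m ^ j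
    have hle : K1 ≤ K2 := sup_le_sup_left (Ideal.pow_le_pow_right (Nat.le_succ j)) _
    let N : Submodule B (B ⧸ K1) := Submodule.map (Submodule.mkQ K1) K2
    have hN : Module.IsTorsionBySet B N (m : Set B) := by
      rintro ⟨_, x, hx, rfl⟩ ⟨a, ha⟩
      refine Subtype.ext ?_
      show a • Submodule.Quotient.mk x = 0
      rw [← Submodule.Quotient.mk_smul, Submodule.Quotient.mk_eq_zero]
      obtain ⟨k, hk, y, hy, rfl⟩ := Submodule.mem_sup.1 hx
      rw [smul_eq_mul, mul_add]
      exact add_mem (Ideal.mem_sup_left (Ideal.mul_mem_left _ _ hk))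
        (Ideal.mem_sup_right (by rw [pow_succ']; exact Ideal.mul_mem_mul ha hy))
    letI : Module (B ⧸ m) N := hN.module
    haveI : IsScalarTower B (B ⧸ m) N := hN.isScalarTower
    haveI : Module.Finite B N := Module.Finite.iff_fg.2 (IsNoetherian.noetherian N)
    haveI : Module.Finite (B ⧸ m) N := Module.Finite.of_restrictScalars_finite B (B ⧸ m) N
    haveI : IsScalarTower A (B ⧸ m) N := IsScalarTower.of_algebraMap_smul fun r x => by
      rw [IsScalarTower.algebraMap_apply A B (B ⧸ m)]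
      exact (algebraMap_smul (B ⧸ m) (algebraMap A B r) x).trans (algebraMap_smul B r x)
    haveI : Module.Finite A N := Module.Finite.trans (B ⧸ m) N
    let f : (B ⧸ K1) →ₗ[A] B ⧸ K2 := (Submodule.factor hle).restrictScalars A
    haveI : Module.Finite A (B ⧸ K2) := ih
    have hf : LinearMap.range (N.subtype.restrictScalars A) = LinearMap.ker f := by
      refine Submodule.ext fun z => ⟨?_, fun hz => ?_⟩
      · rintro ⟨⟨_, x, hx, rfl⟩, rfl⟩
        exact (Submodule.Quotient.mk_eq_zero K2).2 hx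
      · obtain ⟨x, rfl⟩ := Submodule.Quotient.mk_surjective K1 z
        exact ⟨⟨_, x, (Submodule.Quotient.mk_eq_zero K2).1 hz, rfl⟩, rfl⟩
    refine ⟨Submodule.fg_of_fg_map_of_fg_inf_ker f ?_ ?_⟩
    · rw [Submodule.map_top, LinearMap.range_eq_top.2 (show Function.Surjective f from Submodule.factor_surjective hle)]
      exact Module.Finite.fg_top
    · rw [top_inf_eq, ← hf, LinearMap.range_eq_map]
      exact Module.Finite.fg_top.map _

theorem finite_quotient_of_residue_finite {q : PrimeSpectrum B} (hq : RigClosed (I.map (algebraMap A B)) q)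
    (h : ∀ m : Ideal B, m.IsMaximal → q.asIdeal ≤ m → Module.Finite A (B ⧸ m)) : Module.Finite A (B ⧸ q.asIdeal) := by
  haveI := q.isPrime
  haveI := quotient_setup (I.map (algebraMap A B)) q.asIdeal
  obtain ⟨m, hm, hqm, hIm, hrad⟩ := exists_maximal hq
  haveI := h m hm hqm
  haveI h1 : Module.Finite A (B ⧸ (q.asIdeal ⊔ I.map (algebraMap A B))) :=
    finite_quotient_of_finite_residue (sup_le hqm hIm) hrad.le
  haveI : IsHausdorff I (B ⧸ q.asIdeal) := by
    refine IsHausdorff.map_algebraMap_iff.1 (?_ : IsHausdorff (I.map (algebraMap A (B ⧸ q.asIdeal))) (B ⧸ q.asIdeal))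
    rw [IsScalarTower.algebraMap_eq A B (B ⧸ q.asIdeal), ← Ideal.map_map]
    exact (quotient_setup (I.map (algebraMap A B)) q.asIdeal).toIsHausdorff
  refine S0544.result A I _ ?_
  have hle : (q.asIdeal ⊔ I.map (algebraMap A B)).map (Ideal.Quotient.mk q.asIdeal) =
      I.map (algebraMap A (B ⧸ q.asIdeal)) := by
    rw [Ideal.map_sup, Ideal.map_quotient_self, bot_sup_eq, Ideal.map_map]
    rfl
  let f2 : B →ₗ[A] (B ⧸ q.asIdeal) ⧸ (I • ⊤ : Submodule A (B ⧸ q.asIdeal)) :=
    (I • ⊤ : Submodule A (B ⧸ q.asIdeal)).mkQ.comp ((Ideal.Quotient.mkₐ A q.asIdeal).toLinearMap)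
  have hf2 : (q.asIdeal ⊔ I.map (algebraMap A B)).restrictScalars A ≤ LinearMap.ker f2 := fun x hx =>
    (Submodule.Quotient.mk_eq_zero _).2 (by
      rw [Ideal.smul_top_eq_map, Submodule.restrictScalars_mem, ← hle]
      exact Ideal.mem_map_of_mem _ hx)
  refine Module.Finite.of_surjective ((Submodule.liftQ _ f2 hf2) ∘ₗ
    (Submodule.Quotient.restrictScalarsEquiv A (q.asIdeal ⊔ I.map (algebraMap A B))).symm.toLinearMap) fun z => ?_
  obtain ⟨y, rfl⟩ := Submodule.Quotient.mk_surjective _ z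
  obtain ⟨x, rfl⟩ := Ideal.Quotient.mk_surjective y
  exact ⟨(Submodule.Quotient.restrictScalarsEquiv A _) (Submodule.Quotient.mk x), by
    rw [LinearMap.comp_apply, LinearEquiv.coe_coe, LinearEquiv.symm_apply_apply]; rfl⟩

theorem rigClosed_comap_of_finite {q : PrimeSpectrum B} (hq : RigClosed (I.map (algebraMap A B)) q)
    (hfin : Module.Finite A (B ⧸ q.asIdeal)) : RigClosed I (PrimeSpectrum.comap (algebraMap A B) q) := by
  haveI := q.isPrime
  haveI := hfin
  have hdim := dim_eq_one_of_rigClosed _ hq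
  set p := (PrimeSpectrum.comap (algebraMap A B) q).asIdeal
  let i : A ⧸ p →+* B ⧸ q.asIdeal := Ideal.quotientMap q.asIdeal (algebraMap A B) le_rfl
  letI := i.toAlgebra
  haveI : IsScalarTower A (A ⧸ p) (B ⧸ q.asIdeal) := IsScalarTower.of_algebraMap_eq fun _ => rfl
  haveI : Module.Finite (A ⧸ p) (B ⧸ q.asIdeal) := Module.Finite.of_restrictScalars_finite A _ _
  haveI : FaithfulSMul (A ⧸ p) (B ⧸ q.asIdeal) :=
    (faithfulSMul_iff_algebraMap_injective _ _).2 Ideal.quotientMap_injective
  rw [rigClosed_iff_dim]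
  exact ⟨by rw [← hdim]; exact (SegreDim.ringKrullDim_eq_of_injective_integral (A := A ⧸ p) (B := B ⧸ q.asIdeal) Ideal.quotientMap_injective), map_not_le hq.1⟩

theorem residue_finite_of_rigClosed_comap (hft : Algebra.FiniteType A (B ⧸ I.map (algebraMap A B)))
    {q : PrimeSpectrum B} (hq : RigClosed (I.map (algebraMap A B)) q)
    (hp : RigClosed I (PrimeSpectrum.comap (algebraMap A B) q)) (m : Ideal B) (hm : m.IsMaximal)
    (hqm : q.asIdeal ≤ m) : Module.Finite A (B ⧸ m) := by
  haveI := hm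
  have hIm : I.map (algebraMap A B) ≤ m := fun x hx =>
    Ideal.mem_sInf.1 (IsAdicComplete.le_jacobson_bot (I.map (algebraMap A B)) hx) ⟨bot_le, hm⟩
  set p := (PrimeSpectrum.comap (algebraMap A B) q).asIdeal
  haveI : p.IsPrime := (PrimeSpectrum.comap (algebraMap A B) q).isPrime
  haveI : Ring.KrullDimLE 1 (A ⧸ p) :=
    (Ring.krullDimLE_iff (n := 1)).2 (by exact_mod_cast (dim_eq_one_of_rigClosed I hp).le)
  let n := m.comap (algebraMap A B)
  have hker : RingHom.ker (Ideal.Quotient.mk p) ≤ n := by rw [Ideal.mk_ker]; exact Ideal.comap_mono hqm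
  haveI : n.IsPrime := Ideal.comap_isPrime (algebraMap A B) m
  haveI := Ideal.map_isPrime_of_surjective Ideal.Quotient.mk_surjective hker
  haveI : n.IsMaximal := by
    have hmax := Ideal.IsPrime.isMaximal_of_ne_bot (I := n.map (Ideal.Quotient.mk p)) inferInstance (by
      rw [Ne, Ideal.map_eq_bot_iff_le_ker, Ideal.mk_ker]
      exact fun h => hp.1 ((Ideal.map_le_iff_le_comap.1 hIm).trans h))
    have := Ideal.comap_isMaximal_of_surjective (Ideal.Quotient.mk p) Ideal.Quotient.mk_surjective (K := n.map (Ideal.Quotient.mk p))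
    rwa [Ideal.comap_map_of_surjective _ Ideal.Quotient.mk_surjective, ← RingHom.ker_eq_comap_bot, sup_eq_left.2 hker] at this
  letI := Ideal.Quotient.field n
  letI := Ideal.Quotient.field m
  haveI : Algebra.FiniteType A (B ⧸ m) :=
    Algebra.FiniteType.of_surjective (Ideal.Quotient.factorₐ A hIm) (Ideal.Quotient.factor_surjective hIm)
  letI := (Ideal.quotientMap m (algebraMap A B) le_rfl : A ⧸ n →+* B ⧸ m).toAlgebra
  haveI : IsScalarTower A (A ⧸ n) (B ⧸ m) := IsScalarTower.of_algebraMap_eq fun _ => rfl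
  haveI : Algebra.FiniteType (A ⧸ n) (B ⧸ m) := Algebra.FiniteType.of_restrictScalars_finiteType A _ _
  haveI : Module.Finite (A ⧸ n) (B ⧸ m) := finite_of_finite_type_of_isJacobsonRing _ _
  haveI : Module.Finite A (A ⧸ n) := inferInstance
  exact Module.Finite.trans (A ⧸ n) (B ⧸ m)

theorem residue_finite_of_jacobson (hft : Algebra.FiniteType A (B ⧸ I.map (algebraMap A B)))
    (hJ : IsJacobsonRing (A ⧸ I)) (m : Ideal B) (hm : m.IsMaximal) : Module.Finite A (B ⧸ m) := by
  haveI := hm
  haveI := hJ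
  have hIm : I.map (algebraMap A B) ≤ m := fun x hx =>
    Ideal.mem_sInf.1 (IsAdicComplete.le_jacobson_bot (I.map (algebraMap A B)) hx) ⟨bot_le, hm⟩
  letI := Ideal.Quotient.field m
  haveI : Algebra.FiniteType A (B ⧸ m) :=
    Algebra.FiniteType.of_surjective (Ideal.Quotient.factorₐ A hIm) (Ideal.Quotient.factor_surjective hIm)
  letI := (Ideal.quotientMap m (algebraMap A B) (Ideal.map_le_iff_le_comap.1 hIm) : A ⧸ I →+* B ⧸ m).toAlgebra
  haveI : IsScalarTower A (A ⧸ I) (B ⧸ m) := IsScalarTower.of_algebraMap_eq fun _ => rfl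
  haveI : Algebra.FiniteType (A ⧸ I) (B ⧸ m) := Algebra.FiniteType.of_restrictScalars_finiteType A _ _
  haveI : Module.Finite (A ⧸ I) (B ⧸ m) := finite_of_finite_type_of_isJacobsonRing _ _
  exact Module.Finite.trans (A ⧸ I) (B ⧸ m)

end Groth.Agent.RigPts
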