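/-
Completed principal localisations and rig-closed primes.
-/
import Groth.Agent.RigPts.Finite
import Groth.Agent.AdicRingLib.Lift
import Groth.Agent.ResExt.Completion

set_option autoImplicit false
set_option linter.style.haveILetI false
set_option backward.isDefEq.respectTransparency false

universe u

noncomputable section

namespace Groth.Agent.RigPts

variable {A : Type u} [CommRing A] [IsNoetherianRing A]

/-- `A_{f}`. -/
abbrev CompLoc (I : Ideal A) (f : A) : Type u :=
  AdicCompletion (I.map (algebraMap A (Localization.Away f))) (Localization.Away f)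

theorem isNoetherianRing_compLoc (I : Ideal A) (f : A) : IsNoetherianRing (CompLoc I f) := by
  haveI : IsNoetherianRing (Localization.Away f) := IsLocalization.isNoetherianRing (Submonoid.powers f) _ inferInstance
  exact ResExt.isNoetherianRing_adicCompletion _ (IsNoetherian.noetherian _)

theorem isAdicComplete_compLoc (I : Ideal A) (f : A) :
    IsAdicComplete (I.map (algebraMap A (CompLoc I f))) (CompLoc I f) := by
  have h1 := AdicCompletion.isAdicComplete (I := I.map (algebraMap A (Localization.Away f))) (M := Localization.Away f)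
    (Ideal.FG.map (IsNoetherian.noetherian I) _)
  have h2 := (IsAdicComplete.map_algebraMap_iff (I := I.map (algebraMap A (Localization.Away f)))
    (M := CompLoc I f) (S := CompLoc I f)).2 h1
  rw [Ideal.map_map, ← IsScalarTower.algebraMap_eq] at h2
  exact h2

theorem quotient_compLoc (I : Ideal A) [IsAdicComplete I A] (p : Ideal A) {f : A}
    (hf : IsUnit (Ideal.Quotient.mk p f)) :
    Function.Bijective (Ideal.quotientMap (p.map (algebraMap A (CompLoc I f))) (algebraMap A (CompLoc I f))
      Ideal.le_comap_map) := by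
  haveI : IsAdicComplete (I.map (algebraMap A (A ⧸ p))) (A ⧸ p) := quotient_setup I p
  haveI := isNoetherianRing_compLoc I f
  haveI := isAdicComplete_compLoc I f
  let g : Localization.Away f →ₐ[A] A ⧸ p :=
    { toRingHom := IsLocalization.Away.lift f (g := Ideal.Quotient.mk p) hf
      commutes' := fun a => IsLocalization.Away.lift_eq f hf a }
  let Φ : CompLoc I f →ₐ[A] A ⧸ p := AdicRingLib.completionLift I g
  refine ⟨(injective_iff_map_eq_zero _).2 fun z hz => ?_, ?_⟩
  · obtain ⟨a, rfl⟩ := Ideal.Quotient.mk_surjective z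
    rw [Ideal.quotientMap_mk, Ideal.Quotient.eq_zero_iff_mem] at hz
    have hle : p.map (algebraMap A (CompLoc I f)) ≤ RingHom.ker Φ.toRingHom := by
      rw [Ideal.map_le_iff_le_comap]
      intro x hx
      show Φ (algebraMap A _ x) = 0
      rw [AlgHom.commutes, Ideal.Quotient.algebraMap_eq, Ideal.Quotient.eq_zero_iff_mem.2 hx]
    have h1 : Φ (algebraMap A _ a) = 0 := hle hz
    rwa [AlgHom.commutes] at h1
  · let Q := CompLoc I f ⧸ p.map (algebraMap A (CompLoc I f))
    let ℓ : (A ⧸ p) →ₗ[A] Q :=
      { toFun := Ideal.quotientMap (p.map (algebraMap A (CompLoc I f))) (algebraMap A (CompLoc I f)) Ideal.le_comap_map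
        map_add' := map_add _
        map_smul' := fun a x => by
          obtain ⟨b, rfl⟩ := Ideal.Quotient.mk_surjective x
          rw [Algebra.smul_def, Algebra.smul_def, map_mul, Ideal.Quotient.algebraMap_eq, Ideal.quotientMap_mk]
          rfl }
    haveI : IsAdicComplete I (A ⧸ p) := (IsAdicComplete.map_algebraMap_iff (I := I) (M := A ⧸ p) (S := A ⧸ p)).1 inferInstance
    haveI : IsHausdorff I Q := by
      refine IsHausdorff.map_algebraMap_iff.1 (?_ : IsHausdorff (I.map (algebraMap A Q)) Q)
      rw [IsScalarTower.algebraMap_eq A (CompLoc I f) Q, ← Ideal.map_map]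
      exact (quotient_setup (I.map (algebraMap A (CompLoc I f))) _).toIsHausdorff
    refine surjective_of_mkQ_comp_surjective (I := I) (f := ℓ) fun z => ?_
    obtain ⟨y, rfl⟩ := Submodule.Quotient.mk_surjective _ z
    obtain ⟨x, rfl⟩ := Ideal.Quotient.mk_surjective y
    obtain ⟨s, hs⟩ := Submodule.Quotient.mk_surjective _
      (AdicCompletion.eval (I.map (algebraMap A (Localization.Away f))) (Localization.Away f) 1 x)
    obtain ⟨a, n, han⟩ := IsLocalization.Away.surj f s
    obtain ⟨g', hg'⟩ := Ideal.Quotient.mk_surjective (↑(hf.unit⁻¹) : A ⧸ p)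
    have hfg : f * g' - 1 ∈ p := Ideal.Quotient.eq.1 (by rw [map_mul, hg', map_one, IsUnit.mul_val_inv])
    refine ⟨Ideal.Quotient.mk p (n * g' ^ a), ?_⟩
    refine (Submodule.Quotient.eq _).2 ?_
    show Ideal.Quotient.mk _ (algebraMap A (CompLoc I f) (n * g' ^ a)) - Ideal.Quotient.mk _ x ∈ _
    rw [Ideal.smul_top_eq_map, Submodule.restrictScalars_mem, ← map_sub, IsScalarTower.algebraMap_eq A (CompLoc I f) Q,
      ← Ideal.map_map]
    have h1 : algebraMap (Localization.Away f) (CompLoc I f) s - x ∈ I.map (algebraMap A (CompLoc I f)) := by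
      have h2 : algebraMap (Localization.Away f) (CompLoc I f) s - x ∈
          LinearMap.ker (AdicCompletion.eval (I.map (algebraMap A (Localization.Away f))) (Localization.Away f) 1) := by
        rw [LinearMap.mem_ker, map_sub, sub_eq_zero, ← hs]
        rfl
      rw [← AdicCompletion.pow_smul_top_eq_ker_eval (Ideal.FG.map (IsNoetherian.noetherian I) _), pow_one,
        Ideal.smul_top_eq_map, Submodule.restrictScalars_mem, Ideal.map_map, ← IsScalarTower.algebraMap_eq] at h2
      exact h2
    have h3 : Ideal.Quotient.mk (p.map (algebraMap A (CompLoc I f))) (algebraMap A (CompLoc I f) (n * g' ^ a)) =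
        Ideal.Quotient.mk _ (algebraMap (Localization.Away f) (CompLoc I f) s) := by
      have hu : Ideal.Quotient.mk (p.map (algebraMap A (CompLoc I f))) (algebraMap A (CompLoc I f) f) *
          Ideal.Quotient.mk _ (algebraMap A (CompLoc I f) g') = 1 := by
        rw [← map_mul, ← map_mul, ← map_one (Ideal.Quotient.mk (p.map (algebraMap A (CompLoc I f)))), Ideal.Quotient.eq,
          ← map_one (algebraMap A (CompLoc I f)), ← map_sub]
        exact Ideal.mem_map_of_mem _ hfg
      rw [map_mul, map_mul, IsScalarTower.algebraMap_apply A (Localization.Away f) (CompLoc I f) n, ← han, map_mul,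
        map_mul, map_pow, map_pow, map_pow, map_pow, ← IsScalarTower.algebraMap_apply, mul_assoc, ← mul_pow, hu,
        one_pow, mul_one]
    rw [map_sub, h3, ← map_sub]
    exact Ideal.mem_map_of_mem _ h1

theorem isPrime_map_compLoc (I : Ideal A) [IsAdicComplete I A] (p : Ideal A) [p.IsPrime] {f : A}
    (hf : IsUnit (Ideal.Quotient.mk p f)) : (p.map (algebraMap A (CompLoc I f))).IsPrime := by
  let e := RingEquiv.ofBijective _ (quotient_compLoc I p hf)
  rw [← Ideal.Quotient.isDomain_iff_prime]
  exact Function.Injective.isDomain e.symm.toRingHom e.symm.injective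

theorem rigClosed_map_compLoc (I : Ideal A) [IsAdicComplete I A] {q : PrimeSpectrum A} (hq : RigClosed I q) {f : A}
    (hf : IsUnit (Ideal.Quotient.mk q.asIdeal f)) :
    RigClosed (I.map (algebraMap A (CompLoc I f)))
      ⟨q.asIdeal.map (algebraMap A (CompLoc I f)), haveI := q.isPrime; isPrime_map_compLoc I _ hf⟩ := by
  haveI := q.isPrime
  haveI := isNoetherianRing_compLoc I f
  haveI := isAdicComplete_compLoc I f
  refine (rigClosed_iff_dim _ _).2 ⟨?_, fun hle => hq.1 fun x hx => ?_⟩
  · exact (ringKrullDim_eq_of_ringEquiv (RingEquiv.ofBijective _ (quotient_compLoc I q.asIdeal hf))).symm.trans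
      (dim_eq_one_of_rigClosed I hq)
  · refine Ideal.Quotient.eq_zero_iff_mem.1 ((quotient_compLoc I q.asIdeal hf).1 ?_)
    rw [map_zero, Ideal.quotientMap_mk, Ideal.Quotient.eq_zero_iff_mem]
    exact hle (Ideal.mem_map_of_mem _ hx)

theorem exists_unit_rigClosed_comap (I : Ideal A) [IsAdicComplete I A] {B : Type u} [CommRing B] [Algebra A B]
    [IsNoetherianRing B] [IsAdicComplete (I.map (algebraMap A B)) B]
    (hft : Algebra.FiniteType A (B ⧸ I.map (algebraMap A B))) {q : PrimeSpectrum B}
    (hq : RigClosed (I.map (algebraMap A B)) q) :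
    ∃ f : A, IsUnit (Ideal.Quotient.mk q.asIdeal (algebraMap A B f)) ∧
      ∀ ψ : CompLoc I f →+* CompLoc (I.map (algebraMap A B)) (algebraMap A B f),
        ψ.comp (algebraMap (Localization.Away f) (CompLoc I f)) =
          (algebraMap (Localization.Away (algebraMap A B f)) (CompLoc (I.map (algebraMap A B)) (algebraMap A B f))).comp
            (Localization.awayMap (algebraMap A B) f) →
        ∀ hp, RigClosed (I.map (algebraMap A (CompLoc I f)))
          ⟨(q.asIdeal.map (algebraMap B (CompLoc (I.map (algebraMap A B)) (algebraMap A B f)))).comap ψ, hp⟩ := by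
  classical
  haveI := q.isPrime
  obtain ⟨m, hm, hqm, hIm, hrad⟩ := exists_maximal hq
  haveI := hm
  letI := Ideal.Quotient.field m
  haveI : Algebra.FiniteType A (B ⧸ m) :=
    Algebra.FiniteType.of_surjective (Ideal.Quotient.factorₐ A hIm) (Ideal.Quotient.factor_surjective hIm)
  let P := m.comap (algebraMap A B)
  haveI : P.IsPrime := Ideal.comap_isPrime _ _
  let i : A ⧸ P →+* B ⧸ m := Ideal.quotientMap m (algebraMap A B) le_rfl
  letI := i.toAlgebra
  haveI : IsScalarTower A (A ⧸ P) (B ⧸ m) := IsScalarTower.of_algebraMap_eq fun _ => rfl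
  haveI : FaithfulSMul (A ⧸ P) (B ⧸ m) := (faithfulSMul_iff_algebraMap_injective _ _).2 Ideal.quotientMap_injective
  let K := FractionRing (A ⧸ P)
  letI : Algebra K (B ⧸ m) := FractionRing.liftAlgebra _ _
  haveI : Algebra.FiniteType (A ⧸ P) (B ⧸ m) := Algebra.FiniteType.of_restrictScalars_finiteType A _ _
  haveI : Algebra.FiniteType K (B ⧸ m) := Algebra.FiniteType.of_restrictScalars_finiteType (A ⧸ P) _ _
  haveI : Module.Finite K (B ⧸ m) := finite_of_finite_type_of_isJacobsonRing _ _
  have halg : ∀ x : B ⧸ m, ∃ p : Polynomial A, p.leadingCoeff ∉ P ∧ Polynomial.aeval x p = 0 := fun x => by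
    obtain ⟨p, hp0, hp⟩ := (IsFractionRing.isAlgebraic_iff (A ⧸ P) K (B ⧸ m)).2 (Algebra.IsAlgebraic.isAlgebraic x)
    obtain ⟨p', hp', hdeg⟩ := Polynomial.mem_lifts_and_degree_eq
      ((Polynomial.mem_lifts p).2 (Polynomial.map_surjective (Ideal.Quotient.mk P) Ideal.Quotient.mk_surjective p) :
        p ∈ Polynomial.lifts (Ideal.Quotient.mk P))
    refine ⟨p', fun h => hp0 (Polynomial.leadingCoeff_eq_zero.1 ?_), ?_⟩
    · rw [← hp', Polynomial.leadingCoeff, Polynomial.coeff_map]
      rw [show (Polynomial.map (Ideal.Quotient.mk P) p').natDegree = p'.natDegree from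
        Polynomial.natDegree_eq_of_degree_eq (by rw [hdeg, hp'])]
      exact Ideal.Quotient.eq_zero_iff_mem.2 h
    · rw [← hp] ; rw [← hp', ← Ideal.Quotient.algebraMap_eq, Polynomial.aeval_map_algebraMap]
  obtain ⟨s, hs⟩ := (inferInstance : Algebra.FiniteType A (B ⧸ m)).out
  choose p hpP hp using halg
  let f := ∏ x ∈ s, (p x).leadingCoeff
  have hfP : f ∉ P := fun h => by
    obtain ⟨x, -, hx⟩ := Ideal.IsPrime.prod_mem_iff.1 h
    exact hpP x hx
  have hfm : algebraMap A B f ∉ m := hfP
  have hfq : IsUnit (Ideal.Quotient.mk q.asIdeal (algebraMap A B f)) := by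
    obtain ⟨b, j, hj, hbj⟩ := hm.exists_inv hfm
    obtain ⟨c, hc⟩ := hrad.le hj
    have h1 : IsUnit (Ideal.Quotient.mk q.asIdeal (b * algebraMap A B f)) := by
      haveI := quotient_setup (I.map (algebraMap A B)) q.asIdeal
      have hj' : Ideal.Quotient.mk q.asIdeal j ∈ ((I.map (algebraMap A B)).map (Ideal.Quotient.mk q.asIdeal)).radical := by
        refine ⟨c, ?_⟩
        rw [← map_pow]
        have := Ideal.mem_map_of_mem (Ideal.Quotient.mk q.asIdeal) hc
        rwa [Ideal.map_sup, Ideal.map_quotient_self, bot_sup_eq] at this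
      have h2 : Ideal.Quotient.mk q.asIdeal j ∈ Ideal.jacobson (⊥ : Ideal (B ⧸ q.asIdeal)) := by
        refine Ideal.mem_sInf.2 fun M hM => ?_
        exact hM.2.isPrime.radical.le (Ideal.radical_mono (le_maximal _ _ M hM.2) hj')
      have h4 := (Ideal.mem_jacobson_bot.1 h2) (-1)
      rw [show b * algebraMap A B f = 1 - j from eq_sub_of_add_eq hbj, map_sub, map_one]
      simpa [sub_eq_neg_add] using h4
    rw [map_mul] at h1
    exact isUnit_of_mul_isUnit_right h1
  refine ⟨f, hfq, fun ψ hψ hp' => ?_⟩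
  let B' := CompLoc (I.map (algebraMap A B)) (algebraMap A B f)
  let A' := CompLoc I f
  haveI := isNoetherianRing_compLoc I f
  haveI := isAdicComplete_compLoc I f
  haveI := isNoetherianRing_compLoc (I.map (algebraMap A B)) (algebraMap A B f)
  haveI hcB := isAdicComplete_compLoc (I.map (algebraMap A B)) (algebraMap A B f)
  letI : Algebra A' B' := ψ.toAlgebra
  have hψA : ∀ a, ψ (algebraMap A A' a) = algebraMap B B' (algebraMap A B a) := fun a => by
    rw [IsScalarTower.algebraMap_apply A (Localization.Away f) A', ← RingHom.comp_apply ψ, hψ, RingHom.comp_apply,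
      show Localization.awayMap (algebraMap A B) f (algebraMap A (Localization.Away f) a) =
        algebraMap B (Localization.Away (algebraMap A B f)) (algebraMap A B a) from IsLocalization.map_eq _ _,
      ← IsScalarTower.algebraMap_apply]
  have hI' : (I.map (algebraMap A A')).map (algebraMap A' B') = (I.map (algebraMap A B)).map (algebraMap B B') := by
    refine (Ideal.map_map _ _).trans (Eq.trans ?_ (Ideal.map_map _ _).symm)
    exact congrArg (fun g => I.map g) (RingHom.ext hψA)
  haveI : IsAdicComplete ((I.map (algebraMap A A')).map (algebraMap A' B')) B' := by rw [hI']; exact hcB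
  let q' : PrimeSpectrum B' := ⟨q.asIdeal.map (algebraMap B B'), isPrime_map_compLoc _ _ hfq⟩
  have hq' : RigClosed ((I.map (algebraMap A A')).map (algebraMap A' B')) q' := by
    rw [hI']; exact rigClosed_map_compLoc _ hq hfq
  refine rigClosed_comap_of_finite hq' (finite_quotient_of_residue_finite hq' fun M hM hqM => ?_)
  haveI := hM
  have hbij := quotient_compLoc (I.map (algebraMap A B)) q.asIdeal hfq
  have hM1 : M.comap (algebraMap B B') = m := by
    haveI : (M.comap (algebraMap B B')).IsMaximal := by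
      let g := (Ideal.Quotient.factor hqM).comp
        (Ideal.quotientMap (q.asIdeal.map (algebraMap B B')) (algebraMap B B') Ideal.le_comap_map)
      have hg : Function.Surjective g := (Ideal.Quotient.factor_surjective hqM).comp hbij.2
      have e : M.comap (algebraMap B B') = RingHom.ker (g.comp (Ideal.Quotient.mk q.asIdeal)) :=
        Ideal.ext fun x => (Ideal.Quotient.eq_zero_iff_mem (I := M) (a := algebraMap B B' x)).symm
      rw [e]
      letI := Ideal.Quotient.field M
      exact RingHom.ker_isMaximal_of_surjective _ (hg.comp Ideal.Quotient.mk_surjective)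
    refine (hm.eq_of_le (Ideal.IsMaximal.ne_top inferInstance) ?_).symm
    rw [hrad]
    refine (Ideal.radical_mono (sup_le ?_ ?_)).trans (Ideal.IsPrime.radical inferInstance).le
    · exact fun x hx => hqM (Ideal.mem_map_of_mem _ hx)
    · intro x hx
      exact Ideal.mem_sInf.1 (IsAdicComplete.le_jacobson_bot ((I.map (algebraMap A A')).map (algebraMap A' B'))
        (hI' ▸ Ideal.mem_map_of_mem (algebraMap B B') hx)) ⟨bot_le, hM⟩
  let θ : B ⧸ m →+* B' ⧸ M := Ideal.quotientMap M (algebraMap B B') hM1.ge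
  have hθ : Function.Surjective θ := fun z => by
    obtain ⟨y, rfl⟩ := Ideal.Quotient.mk_surjective z
    obtain ⟨w, hw⟩ := hbij.2 (Ideal.Quotient.mk _ y)
    obtain ⟨b, rfl⟩ := Ideal.Quotient.mk_surjective w
    refine ⟨Ideal.Quotient.mk m b, ?_⟩
    rw [Ideal.quotientMap_mk] at hw
    exact Ideal.Quotient.eq.2 (hqM (Ideal.Quotient.eq.1 hw))
  have hfu : IsUnit (algebraMap A A' f) := by
    rw [IsScalarTower.algebraMap_apply A (Localization.Away f) A']
    exact (IsLocalization.Away.algebraMap_isUnit f).map _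
  haveI : IsScalarTower A A' (B' ⧸ M) := IsScalarTower.of_algebraMap_eq fun a =>
    (congrArg (Ideal.Quotient.mk M) ((IsScalarTower.algebraMap_apply A B B' a).trans (hψA a).symm))
  have hcomp : ∀ a : A, θ (algebraMap A (B ⧸ m) a) = algebraMap A (B' ⧸ M) a := fun a =>
    (Ideal.quotientMap_mk (f := algebraMap B B') (x := algebraMap A B a)).trans
      (congrArg (Ideal.Quotient.mk M) (IsScalarTower.algebraMap_apply A B B' a).symm)
  let θₐ : (B ⧸ m) →ₐ[A] (B' ⧸ M) := { θ with commutes' := hcomp }
  let t : Finset (B' ⧸ M) := s.image θₐ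
  have ht : Algebra.adjoin A' (t : Set (B' ⧸ M)) = ⊤ := by
    refine eq_top_iff.2 fun z _ => ?_
    obtain ⟨y, rfl⟩ := hθ z
    have hy : y ∈ Algebra.adjoin A (s : Set (B ⧸ m)) := hs ▸ trivial
    have hmem : θₐ y ∈ Algebra.adjoin A (t : Set (B' ⧸ M)) := by
      have := (Subalgebra.mem_map (S := Algebra.adjoin A (s : Set (B ⧸ m))) (f := θₐ)).2 ⟨y, hy, rfl⟩
      rwa [AlgHom.map_adjoin, ← Finset.coe_image] at this
    exact (Algebra.adjoin_le Algebra.subset_adjoin :
      Algebra.adjoin A (t : Set (B' ⧸ M)) ≤ (Algebra.adjoin A' (t : Set (B' ⧸ M))).restrictScalars A) hmem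
  have hint : ∀ z ∈ t, IsIntegral A' z := fun z hz => by
    obtain ⟨x, hx, rfl⟩ := Finset.mem_image.1 hz
    have hu : IsUnit (algebraMap A A' (p x).leadingCoeff) :=
      isUnit_of_dvd_unit (map_dvd _ (Finset.dvd_prod_of_mem (fun x => (p x).leadingCoeff) hx)) hfu
    refine ⟨Polynomial.C (↑hu.unit⁻¹ : A') * (p x).map (algebraMap A A'), ?_, ?_⟩
    · refine Polynomial.monic_C_mul_of_mul_leadingCoeff_eq_one ?_
      haveI : Nontrivial A' := RingHom.domain_nontrivial (algebraMap A' (B' ⧸ M))
      rw [Polynomial.leadingCoeff_map_of_leadingCoeff_ne_zero _ hu.ne_zero, IsUnit.val_inv_mul]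
    · rw [Polynomial.eval₂_mul, Polynomial.eval₂_map, ← IsScalarTower.algebraMap_eq]
      refine mul_eq_zero_of_right _ ?_
      show Polynomial.aeval (θₐ x) (p x) = 0
      rw [Polynomial.aeval_algHom_apply, hp x, map_zero]
  have hfg := Algebra.finite_adjoin_of_finite_of_isIntegral (R := A') t.finite_toSet hint
  refine Module.Finite.of_surjective (Algebra.adjoin A' (t : Set (B' ⧸ M))).val.toLinearMap fun z => ?_
  exact ⟨⟨z, ht ▸ trivial⟩, rfl⟩

theorem exists_rigClosed_over_iff (I : Ideal A) [IsAdicComplete I A] {B : Type u} [CommRing B] [Algebra A B]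
    [IsNoetherianRing B] [IsAdicComplete (I.map (algebraMap A B)) B] [Module.Flat A B] (p : PrimeSpectrum A)
    (hp : RigClosed I p) :
    (∃ Q : PrimeSpectrum B, I.map (algebraMap A B) ≤ Q.asIdeal ∧ p.asIdeal ≤ (PrimeSpectrum.comap (algebraMap A B) Q).asIdeal ∧
      (PrimeSpectrum.comap (algebraMap A B) Q).asIdeal.IsMaximal) ↔
    ∃ q : PrimeSpectrum B, RigClosed (I.map (algebraMap A B)) q ∧ PrimeSpectrum.comap (algebraMap A B) q = p := by
  haveI := p.isPrime
  constructor
  · rintro ⟨Q, -, hpQ, -⟩
    haveI := Q.isPrime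
    haveI : Q.asIdeal.LiesOver (Q.asIdeal.comap (algebraMap A B)) := ⟨rfl⟩
    obtain ⟨q0, -, hq0, ⟨hq0p⟩⟩ := Ideal.exists_ideal_le_liesOver_of_le (p := p.asIdeal) Q.asIdeal hpQ
    have h0 : ¬ I.map (algebraMap A B) ≤ q0 := fun h => hp.1 (hq0p ▸ Ideal.map_le_iff_le_comap.1 h)
    obtain ⟨J, ⟨hJp, hJ0, hJI⟩, hmax⟩ := (set_has_maximal_iff_noetherian.2 (inferInstance : IsNoetherian B B))
      {J : Ideal B | J.IsPrime ∧ q0 ≤ J ∧ ¬ I.map (algebraMap A B) ≤ J} ⟨q0, hq0, le_rfl, h0⟩
    let q : PrimeSpectrum B := ⟨J, hJp⟩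
    refine ⟨q, ⟨hJI, fun y hy hyI => ?_⟩, ?_⟩
    · by_contra hne
      exact hmax y.asIdeal ⟨y.isPrime, hJ0.trans hy, hyI⟩
        (lt_of_le_of_ne (show J ≤ y.asIdeal from hy) fun e => hne (PrimeSpectrum.ext e.symm))
    · refine hp.2 _ ?_ (map_not_le (q := q) hJI)
      show p.asIdeal ≤ Ideal.comap (algebraMap A B) q.asIdeal
      exact hq0p.le.trans (Ideal.comap_mono hJ0)
  · rintro ⟨q, hq, rfl⟩
    obtain ⟨m, hm, hqm, hIm, -⟩ := exists_maximal hq
    haveI := hm
    refine ⟨⟨m, hm.isPrime⟩, hIm, Ideal.comap_mono hqm, ?_⟩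
    show (m.comap (algebraMap A B)).IsMaximal
    set p0 := (PrimeSpectrum.comap (algebraMap A B) q).asIdeal
    haveI : Ring.KrullDimLE 1 (A ⧸ p0) :=
      (Ring.krullDimLE_iff (n := 1)).2 (by exact_mod_cast (dim_eq_one_of_rigClosed I hp).le)
    let n := m.comap (algebraMap A B)
    have hker : RingHom.ker (Ideal.Quotient.mk p0) ≤ n := by rw [Ideal.mk_ker]; exact Ideal.comap_mono hqm
    haveI : n.IsPrime := Ideal.comap_isPrime (algebraMap A B) m
    haveI := Ideal.map_isPrime_of_surjective Ideal.Quotient.mk_surjective hker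
    have hmax := Ideal.IsPrime.isMaximal_of_ne_bot (I := n.map (Ideal.Quotient.mk p0)) inferInstance (by
      rw [Ne, Ideal.map_eq_bot_iff_le_ker, Ideal.mk_ker]
      exact fun h => hp.1 ((Ideal.map_le_iff_le_comap.1 hIm).trans h))
    have := Ideal.comap_isMaximal_of_surjective (Ideal.Quotient.mk p0) Ideal.Quotient.mk_surjective
      (K := n.map (Ideal.Quotient.mk p0))
    rwa [Ideal.comap_map_of_surjective _ Ideal.Quotient.mk_surjective, ← RingHom.ker_eq_comap_bot,
      sup_eq_left.2 hker] at this

end Groth.Agent.RigPts
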