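/-
Quotients of a completed finite type algebra by ideals with finite quotient.
-/
import Groth.Agent.RigPts.Localize
import Groth.Agent.FinAdic.Basic

set_option autoImplicit false
set_option linter.style.haveILetI false
set_option backward.isDefEq.respectTransparency false

universe u

noncomputable section

namespace Groth.Agent.RigPts

variable {A : Type u} [CommRing A] [IsNoetherianRing A] (I : Ideal A) (P : Type u) [CommRing P] [Algebra A P]

/-- The `I`-adic completion of `P`. -/
abbrev Comp : Type u := AdicCompletion (I.map (algebraMap A P)) P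

theorem isNoetherianRing_comp [IsNoetherianRing P] : IsNoetherianRing (Comp I P) :=
  ResExt.isNoetherianRing_adicCompletion _ (IsNoetherian.noetherian _)

theorem isAdicComplete_comp :
    IsAdicComplete (I.map (algebraMap A (Comp I P))) (Comp I P) := by
  have h1 := AdicCompletion.isAdicComplete (I := I.map (algebraMap A P)) (M := P)
    (Ideal.FG.map (IsNoetherian.noetherian I) _)
  have h2 := (IsAdicComplete.map_algebraMap_iff (I := I.map (algebraMap A P))
    (M := Comp I P) (S := Comp I P)).2 h1
  rw [Ideal.map_map, ← IsScalarTower.algebraMap_eq] at h2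
  exact h2

theorem exists_sub_mem_comp (x : Comp I P) :
    ∃ s : P, algebraMap P (Comp I P) s - x ∈ I.map (algebraMap A (Comp I P)) := by
  obtain ⟨s, hs⟩ := Submodule.Quotient.mk_surjective _ (AdicCompletion.eval (I.map (algebraMap A P)) P 1 x)
  refine ⟨s, ?_⟩
  have h2 : algebraMap P (Comp I P) s - x ∈ LinearMap.ker (AdicCompletion.eval (I.map (algebraMap A P)) P 1) := by
    rw [LinearMap.mem_ker, map_sub, sub_eq_zero, ← hs]
    rfl
  rw [← AdicCompletion.pow_smul_top_eq_ker_eval (Ideal.FG.map (IsNoetherian.noetherian I) _), pow_one,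
    Ideal.smul_top_eq_map, Submodule.restrictScalars_mem, Ideal.map_map, ← IsScalarTower.algebraMap_eq] at h2
  exact h2

theorem finiteType_quotient_comp [Algebra.FiniteType A P] :
    Algebra.FiniteType A (Comp I P ⧸ I.map (algebraMap A (Comp I P))) := by
  refine Algebra.FiniteType.of_surjective (A := P)
    ((Ideal.Quotient.mkₐ A (I.map (algebraMap A (Comp I P)))).comp (IsScalarTower.toAlgHom A _ _)) fun z => ?_
  obtain ⟨x, rfl⟩ := Ideal.Quotient.mk_surjective z
  obtain ⟨s, hs⟩ := exists_sub_mem_comp I P x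
  exact ⟨s, Ideal.Quotient.eq.2 hs⟩

variable {P}

theorem finite_quotient_pow [Algebra.FiniteType A P] (K : Ideal P) [Module.Finite A (P ⧸ K)] (j : ℕ) :
    Module.Finite A (P ⧸ K ^ j) := by
  haveI : Algebra.FiniteType A (P ⧸ K ^ j) :=
    Algebra.FiniteType.of_surjective (Ideal.Quotient.mkₐ A (K ^ j)) (Ideal.Quotient.mkₐ_surjective A _)
  haveI : Algebra.IsIntegral A (P ⧸ K ^ j) := ⟨fun z => by
    obtain ⟨x, rfl⟩ := Ideal.Quotient.mk_surjective z
    obtain ⟨g, hg, hg0⟩ := Algebra.IsIntegral.isIntegral (R := A) (Ideal.Quotient.mk K x)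
    refine ⟨g ^ j, hg.pow j, ?_⟩
    have h1 : Polynomial.aeval x g ∈ K := by
      rw [← Ideal.Quotient.eq_zero_iff_mem, ← Ideal.Quotient.mkₐ_eq_mk A, ← Polynomial.aeval_algHom_apply]
      exact hg0
    show Polynomial.aeval (Ideal.Quotient.mk (K ^ j) x) (g ^ j) = 0
    rw [← Ideal.Quotient.mkₐ_eq_mk A, Polynomial.aeval_algHom_apply, map_pow, Ideal.Quotient.mkₐ_eq_mk,
      Ideal.Quotient.eq_zero_iff_mem]
    exact Ideal.pow_mem_pow h1 j⟩
  exact Algebra.IsIntegral.finite

theorem quotient_comp [IsAdicComplete I A] [IsNoetherianRing P] (K : Ideal P) [Module.Finite A (P ⧸ K)] :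
    Function.Bijective (Ideal.quotientMap (K.map (algebraMap P (Comp I P))) (algebraMap P (Comp I P))
      Ideal.le_comap_map) := by
  haveI : IsAdicComplete I (P ⧸ K) := FinAdic.isAdicComplete_of_finite I _
  haveI : IsAdicComplete (I.map (algebraMap A (P ⧸ K))) (P ⧸ K) :=
    (IsAdicComplete.map_algebraMap_iff (I := I) (M := P ⧸ K) (S := P ⧸ K)).2 inferInstance
  haveI := isNoetherianRing_comp I P
  haveI := isAdicComplete_comp I P
  let Φ : Comp I P →ₐ[A] P ⧸ K := AdicRingLib.completionLift I (Ideal.Quotient.mkₐ A K)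
  refine ⟨(injective_iff_map_eq_zero _).2 fun z hz => ?_, ?_⟩
  · obtain ⟨a, rfl⟩ := Ideal.Quotient.mk_surjective z
    rw [Ideal.quotientMap_mk, Ideal.Quotient.eq_zero_iff_mem] at hz
    have hle : K.map (algebraMap P (Comp I P)) ≤ RingHom.ker Φ.toRingHom := by
      rw [Ideal.map_le_iff_le_comap]
      intro x hx
      show Φ (algebraMap P _ x) = 0
      exact (AdicRingLib.completionLift_of I _ x).trans (Ideal.Quotient.eq_zero_iff_mem.2 hx)
    exact (AdicRingLib.completionLift_of I _ a).symm.trans (hle hz)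
  · let Q := Comp I P ⧸ K.map (algebraMap P (Comp I P))
    let ℓ : (P ⧸ K) →ₗ[A] Q := (Ideal.quotientMapₐ (K.map (algebraMap P (Comp I P)))
      (IsScalarTower.toAlgHom A P (Comp I P)) Ideal.le_comap_map).toLinearMap
    haveI : IsHausdorff I Q := by
      refine IsHausdorff.map_algebraMap_iff.1 (?_ : IsHausdorff (I.map (algebraMap A Q)) Q)
      rw [IsScalarTower.algebraMap_eq A (Comp I P) Q, ← Ideal.map_map]
      exact (quotient_setup (I.map (algebraMap A (Comp I P))) _).toIsHausdorff
    refine surjective_of_mkQ_comp_surjective (I := I) (f := ℓ) fun z => ?_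
    obtain ⟨y, rfl⟩ := Submodule.Quotient.mk_surjective _ z
    obtain ⟨x, rfl⟩ := Ideal.Quotient.mk_surjective y
    obtain ⟨s, hs⟩ := exists_sub_mem_comp I P x
    refine ⟨Ideal.Quotient.mk K s, (Submodule.Quotient.eq _).2 ?_⟩
    show Ideal.Quotient.mk _ (algebraMap P (Comp I P) s) - Ideal.Quotient.mk _ x ∈ _
    rw [Ideal.smul_top_eq_map, Submodule.restrictScalars_mem, ← map_sub, IsScalarTower.algebraMap_eq A (Comp I P) Q,
      ← Ideal.map_map]
    exact Ideal.mem_map_of_mem _ hs

theorem comap_map_comp [IsAdicComplete I A] [IsNoetherianRing P] (K : Ideal P) [Module.Finite A (P ⧸ K)] :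
    (K.map (algebraMap P (Comp I P))).comap (algebraMap P (Comp I P)) = K := by
  refine le_antisymm (fun x hx => ?_) Ideal.le_comap_map
  rw [← Ideal.Quotient.eq_zero_iff_mem]
  refine (quotient_comp I K).1 ?_
  rw [map_zero, Ideal.quotientMap_mk, Ideal.Quotient.eq_zero_iff_mem]
  exact hx

theorem exists_sub_mem_map_comp [IsAdicComplete I A] [IsNoetherianRing P] (K : Ideal P) [Module.Finite A (P ⧸ K)]
    (c : Comp I P) : ∃ a : P, c - algebraMap P (Comp I P) a ∈ K.map (algebraMap P (Comp I P)) := by
  obtain ⟨w, hw⟩ := (quotient_comp I K).2 (Ideal.Quotient.mk _ c)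
  obtain ⟨a, rfl⟩ := Ideal.Quotient.mk_surjective w
  rw [Ideal.quotientMap_mk] at hw
  exact ⟨a, Ideal.Quotient.eq.1 hw.symm⟩

theorem eq_map_comap_comp [IsAdicComplete I A] [IsNoetherianRing P] (q : Ideal (Comp I P))
    [Module.Finite A (P ⧸ q.comap (algebraMap P (Comp I P)))] :
    (q.comap (algebraMap P (Comp I P))).map (algebraMap P (Comp I P)) = q := by
  refine le_antisymm Ideal.map_comap_le fun c hc => ?_
  obtain ⟨a, ha⟩ := exists_sub_mem_map_comp I (q.comap (algebraMap P (Comp I P))) c
  have h1 : algebraMap P (Comp I P) a ∈ q := by simpa using q.sub_mem hc (Ideal.map_comap_le ha)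
  simpa using add_mem ha (Ideal.mem_map_of_mem (algebraMap P (Comp I P)) (Ideal.mem_comap.2 h1))

theorem finite_quotient_comap_comp [IsAdicComplete I A] [IsNoetherianRing P] [Algebra.FiniteType A P]
    {q : PrimeSpectrum (Comp I P)} (hq : RigClosed (I.map (algebraMap A (Comp I P))) q)
    (hp : RigClosed I (PrimeSpectrum.comap (algebraMap A (Comp I P)) q)) :
    Module.Finite A (P ⧸ q.asIdeal.comap (algebraMap P (Comp I P))) := by
  haveI := isNoetherianRing_comp I P
  haveI := isAdicComplete_comp I P
  haveI := finite_quotient_of_residue_finite hq fun m hm hqm =>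
    residue_finite_of_rigClosed_comap (finiteType_quotient_comp I P) hq hp m hm hqm
  let g := Ideal.quotientMapₐ (R₁ := A) q.asIdeal (IsScalarTower.toAlgHom A P (Comp I P)) le_rfl
  exact Module.Finite.of_injective g.toLinearMap Ideal.quotientMap_injective

end Groth.Agent.RigPts

namespace Groth.Agent.RigPts

theorem localRingHom_bijective_pow {P : Type u} [CommRing P] {C : Type u} [CommRing C] [Algebra P C] (q : Ideal C)
    [q.IsPrime] (hq : (q.comap (algebraMap P C)).map (algebraMap P C) = q) (m : ℕ) (hm : 1 ≤ m)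
    (hsur : ∀ c : C, ∃ a : P, c - algebraMap P C a ∈ ((q.comap (algebraMap P C)) ^ m).map (algebraMap P C))
    (hinj : (((q.comap (algebraMap P C)) ^ m).map (algebraMap P C)).comap (algebraMap P C) ≤
      (q.comap (algebraMap P C)) ^ m) :
    (∀ x : Localization.AtPrime (q.comap (algebraMap P C)),
      Localization.localRingHom (q.comap (algebraMap P C)) q (algebraMap P C) rfl x ∈
        IsLocalRing.maximalIdeal (Localization.AtPrime q) ^ m →
      x ∈ IsLocalRing.maximalIdeal (Localization.AtPrime (q.comap (algebraMap P C))) ^ m) ∧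
    ∀ y : Localization.AtPrime q, ∃ x : Localization.AtPrime (q.comap (algebraMap P C)),
      y - Localization.localRingHom (q.comap (algebraMap P C)) q (algebraMap P C) rfl x ∈
        IsLocalRing.maximalIdeal (Localization.AtPrime q) ^ m := by
  set q' := q.comap (algebraMap P C) with hq'
  have hpow : (q' ^ m).map (algebraMap P C) = q ^ m := by rw [Ideal.map_pow, hq]
  have hmax : IsLocalRing.maximalIdeal (Localization.AtPrime q) ^ m =
      (q ^ m).map (algebraMap C (Localization.AtPrime q)) := by
    rw [Ideal.map_pow, Localization.AtPrime.map_eq_maximalIdeal]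
  have hmax' : IsLocalRing.maximalIdeal (Localization.AtPrime q') ^ m =
      (q' ^ m).map (algebraMap P (Localization.AtPrime q')) := by
    rw [Ideal.map_pow, Localization.AtPrime.map_eq_maximalIdeal]
  refine ⟨fun x hx => ?_, fun y => ?_⟩
  · obtain ⟨a, s, rfl⟩ := IsLocalization.exists_mk'_eq q'.primeCompl x
    rw [Localization.localRingHom_mk', hmax, IsLocalization.mk'_mem_map_algebraMap_iff q.primeCompl] at hx
    obtain ⟨t, ht, hta⟩ := hx
    obtain ⟨u, hu⟩ := hsur t
    rw [hpow] at hu
    have huq : u ∉ q' := fun h => ht (by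
      have := q.add_mem (Ideal.pow_le_self (Nat.one_le_iff_ne_zero.1 hm) hu) (Ideal.mem_comap.1 h)
      rwa [sub_add_cancel] at this)
    have hua : u * a ∈ q' ^ m := hinj (Ideal.mem_comap.2 (by
      rw [hpow, map_mul]
      have h1 := sub_mem hta ((q ^ m).mul_mem_right (algebraMap P C a) hu)
      rwa [show t * algebraMap P C a - (t - algebraMap P C u) * algebraMap P C a =
        algebraMap P C u * algebraMap P C a by ring] at h1))
    rw [hmax', IsLocalization.mk'_mem_map_algebraMap_iff q'.primeCompl]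
    exact ⟨u, huq, hua⟩
  · obtain ⟨c, t, rfl⟩ := IsLocalization.exists_mk'_eq q.primeCompl y
    obtain ⟨c0, hc0⟩ := hsur c
    obtain ⟨t0, ht0⟩ := hsur t
    rw [hpow] at hc0 ht0
    have ht0q : t0 ∈ q'.primeCompl := fun h => t.2 (by
      have := q.add_mem (Ideal.pow_le_self (Nat.one_le_iff_ne_zero.1 hm) ht0) (Ideal.mem_comap.1 h)
      rwa [sub_add_cancel] at this)
    refine ⟨IsLocalization.mk' _ c0 ⟨t0, ht0q⟩, ?_⟩
    rw [Localization.localRingHom_mk', ← IsLocalization.mk'_sub, hmax,
      IsLocalization.mk'_mem_map_algebraMap_iff q.primeCompl]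
    refine ⟨1, q.primeCompl.one_mem, ?_⟩
    rw [one_mul]
    have h := sub_mem ((q ^ m).mul_mem_right (algebraMap P C t0) hc0) ((q ^ m).mul_mem_left (algebraMap P C c0) ht0)
    convert h using 1
    ring

end Groth.Agent.RigPts
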