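/-
Naive rig-flatness implies rig-flatness over a Jacobson reduction.
-/
import Groth.Agent.RigPts.Localize
import Groth.Agent.TopFin.Flatness

set_option autoImplicit false
set_option linter.style.haveILetI false
set_option backward.isDefEq.respectTransparency false

universe u

open scoped TensorProduct

noncomputable section

namespace Groth.Agent.RigPts

theorem flat_quotient_tensor {A A' : Type u} [CommRing A] [CommRing A'] [Algebra A A'] (J : Ideal A)
    (h : ∀ y : A', ∃ a : A, y - algebraMap A A' a ∈ J.map (algebraMap A A'))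
    (M : Type u) [AddCommGroup M] [Module A M] [Module A' M] [IsScalarTower A A' M] [Module.Flat A M] :
    Module.Flat (A' ⧸ J.map (algebraMap A A')) ((A' ⧸ J.map (algebraMap A A')) ⊗[A'] M) := by
  let T := A' ⧸ J.map (algebraMap A A')
  let Φ : T ⊗[A] M →ₗ[T] T ⊗[A'] M :=
    ((TensorProduct.mk A' T M 1).restrictScalars A).liftBaseChange T
  have hone : ∀ z : T ⊗[A] M, ∃ x : M, z = (1 : T) ⊗ₜ x := by
    intro z
    induction z using TensorProduct.induction_on with
    | zero => exact ⟨0, (TensorProduct.tmul_zero M 1).symm⟩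
    | add a b ha hb =>
      obtain ⟨x, rfl⟩ := ha
      obtain ⟨y, rfl⟩ := hb
      exact ⟨x + y, (TensorProduct.tmul_add _ _ _).symm⟩
    | tmul s x =>
      obtain ⟨y, rfl⟩ := Ideal.Quotient.mk_surjective s
      obtain ⟨a, ha⟩ := h y
      refine ⟨a • x, ?_⟩
      rw [TensorProduct.tmul_smul, TensorProduct.smul_tmul', Algebra.smul_def, mul_one,
        IsScalarTower.algebraMap_apply A A' T, Ideal.Quotient.algebraMap_eq, Ideal.Quotient.eq.2 ha]
  have hsurj : Function.Surjective Φ := by
    intro z
    induction z using TensorProduct.induction_on with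
    | zero => exact ⟨0, map_zero _⟩
    | add a b ha hb =>
      obtain ⟨p, rfl⟩ := ha
      obtain ⟨q, rfl⟩ := hb
      exact ⟨p + q, map_add _ _ _⟩
    | tmul s x => exact ⟨s ⊗ₜ x, by simp [Φ, TensorProduct.smul_tmul']⟩
  have hinj : Function.Injective Φ := by
    refine (injective_iff_map_eq_zero _).2 fun z hz => ?_
    obtain ⟨x, rfl⟩ := hone z
    have hz' : (1 : T) ⊗ₜ[A'] x = 0 := by simpa [Φ] using hz
    have hx : x ∈ (J.map (algebraMap A A')) • (⊤ : Submodule A' M) := by
      have h1 := congrArg (TensorProduct.quotTensorEquivQuotSMul M (J.map (algebraMap A A'))) hz'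
      rw [map_zero, show (1 : T) = Ideal.Quotient.mk _ 1 from rfl, TensorProduct.quotTensorEquivQuotSMul_mk_tmul,
        one_smul, Submodule.Quotient.mk_eq_zero] at h1
      exact h1
    have hx' : x ∈ J • (⊤ : Submodule A M) := by
      rw [← Submodule.restrictScalars_mem A, Ideal.smul_restrictScalars] at hx
      exact hx
    refine Submodule.smul_induction_on hx' (fun a ha y _ => ?_) fun a b ha hb => by
      rw [TensorProduct.tmul_add, ha, hb, add_zero]
    rw [TensorProduct.tmul_smul, TensorProduct.smul_tmul', Algebra.smul_def, mul_one,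
      IsScalarTower.algebraMap_apply A A' T, Ideal.Quotient.algebraMap_eq,
      Ideal.Quotient.eq_zero_iff_mem.2 (Ideal.mem_map_of_mem _ ha), TensorProduct.zero_tmul]
  exact Module.Flat.of_linearEquiv (LinearEquiv.ofBijective Φ ⟨hinj, hsurj⟩).symm

/-- Every element of `A_{f}` is congruent to an element of `A_f` modulo `I`. -/
theorem exists_sub_mem_compLoc {A : Type u} [CommRing A] [IsNoetherianRing A] (I : Ideal A) (f : A)
    (x : CompLoc I f) :
    ∃ s : Localization.Away f,
      algebraMap (Localization.Away f) (CompLoc I f) s - x ∈ I.map (algebraMap A (CompLoc I f)) := by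
  obtain ⟨s, hs⟩ := Submodule.Quotient.mk_surjective _
    (AdicCompletion.eval (I.map (algebraMap A (Localization.Away f))) (Localization.Away f) 1 x)
  refine ⟨s, ?_⟩
  have h2 : algebraMap (Localization.Away f) (CompLoc I f) s - x ∈
      LinearMap.ker (AdicCompletion.eval (I.map (algebraMap A (Localization.Away f))) (Localization.Away f) 1) := by
    rw [LinearMap.mem_ker, map_sub, sub_eq_zero, ← hs]
    rfl
  rw [← AdicCompletion.pow_smul_top_eq_ker_eval (Ideal.FG.map (IsNoetherian.noetherian I) _), pow_one,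
    Ideal.smul_top_eq_map, Submodule.restrictScalars_mem, Ideal.map_map, ← IsScalarTower.algebraMap_eq] at h2
  exact h2

theorem finiteType_compLoc_quotient {A : Type u} [CommRing A] [IsNoetherianRing A] (I : Ideal A) (f : A) :
    Algebra.FiniteType A (CompLoc I f ⧸ I.map (algebraMap A (CompLoc I f))) := by
  refine Algebra.FiniteType.of_surjective (A := Localization.Away f)
    ((Ideal.Quotient.mkₐ A (I.map (algebraMap A (CompLoc I f)))).comp (IsScalarTower.toAlgHom A _ _)) fun z => ?_
  obtain ⟨x, rfl⟩ := Ideal.Quotient.mk_surjective z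
  obtain ⟨s, hs⟩ := exists_sub_mem_compLoc I f x
  exact ⟨s, Ideal.Quotient.eq.2 hs⟩

theorem finiteType_quotient_map {A B B' : Type u} [CommRing A] [CommRing B] [CommRing B'] [Algebra A B] [Algebra B B']
    [Algebra A B'] [IsScalarTower A B B'] (J : Ideal B) (hft : Algebra.FiniteType A (B ⧸ J))
    (h : Algebra.FiniteType B (B' ⧸ J.map (algebraMap B B'))) :
    Algebra.FiniteType A (B' ⧸ J.map (algebraMap B B')) := by
  letI : Algebra (B ⧸ J) (B' ⧸ J.map (algebraMap B B')) :=
    (Ideal.quotientMap _ (algebraMap B B') Ideal.le_comap_map).toAlgebra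
  haveI : IsScalarTower B (B ⧸ J) (B' ⧸ J.map (algebraMap B B')) := IsScalarTower.of_algebraMap_eq fun _ => rfl
  haveI : IsScalarTower A (B ⧸ J) (B' ⧸ J.map (algebraMap B B')) := IsScalarTower.of_algebraMap_eq fun a =>
    congrArg (Ideal.Quotient.mk _) (IsScalarTower.algebraMap_apply A B B' a)
  haveI := h
  haveI : Algebra.FiniteType (B ⧸ J) (B' ⧸ J.map (algebraMap B B')) :=
    Algebra.FiniteType.of_restrictScalars_finiteType B _ _
  exact Algebra.FiniteType.trans (S := B ⧸ J) hft inferInstance

theorem isUnit_mk_of_le {A : Type u} [CommRing A] [IsNoetherianRing A] (I : Ideal A) [IsAdicComplete I A]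
    {p : PrimeSpectrum A} (hp : RigClosed I p) {f : A} {A' : Type u} [CommRing A'] [Algebra A A']
    [IsAdicComplete (I.map (algebraMap A A')) A'] (hfu : IsUnit (algebraMap A A' f)) {P : Ideal A'} (hP : P ≠ ⊤)
    (hpP : p.asIdeal.map (algebraMap A A') ≤ P) : IsUnit (Ideal.Quotient.mk p.asIdeal f) := by
  haveI := p.isPrime
  by_contra hnu
  obtain ⟨m, hm, hfm⟩ := exists_max_ideal_of_mem_nonunits hnu
  haveI := quotient_setup I p.asIdeal
  have hmr := maximal_eq_radical _ (map_ne_bot hp.1) (dim_eq_one_of_rigClosed I hp).le m hm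
  obtain ⟨k, hk⟩ := hmr.le hfm
  rw [← map_pow, ← Ideal.mem_comap, Ideal.comap_map_of_surjective _ Ideal.Quotient.mk_surjective,
    ← RingHom.ker_eq_comap_bot, Ideal.mk_ker] at hk
  have h1 : algebraMap A A' (f ^ k) ∈ (I ⊔ p.asIdeal).map (algebraMap A A') := Ideal.mem_map_of_mem _ hk
  rw [Ideal.map_sup] at h1
  have h2 : I.map (algebraMap A A') ⊔ p.asIdeal.map (algebraMap A A') = ⊤ :=
    Ideal.eq_top_of_isUnit_mem _ h1 (by rw [map_pow]; exact hfu.pow k)
  obtain ⟨M, hM, hpM⟩ := Ideal.exists_le_maximal P hP
  refine hM.ne_top (top_le_iff.1 (h2 ▸ sup_le (fun x hx => ?_) (hpP.trans hpM)))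
  exact Ideal.mem_sInf.1 (IsAdicComplete.le_jacobson_bot (I.map (algebraMap A A')) hx) ⟨bot_le, hM⟩

theorem isUnit_mk_pow {A : Type u} [CommRing A] {p : Ideal A} {f : A} (hfp : IsUnit (Ideal.Quotient.mk p f)) (n : ℕ) :
    IsUnit (Ideal.Quotient.mk (p ^ (n + 1)) f) := by
  obtain ⟨g, hg⟩ := Ideal.Quotient.mk_surjective (↑(hfp.unit⁻¹) : A ⧸ p)
  have h1 : f * g - 1 ∈ p := Ideal.Quotient.eq.1 (by rw [map_mul, hg, map_one, IsUnit.mul_val_inv])
  have h2 : IsNilpotent (Ideal.Quotient.mk (p ^ (n + 1)) (f * g - 1)) :=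
    ⟨n + 1, by rw [← map_pow, Ideal.Quotient.eq_zero_iff_mem]; exact Ideal.pow_mem_pow h1 _⟩
  have h3 := h2.isUnit_add_one
  rw [← map_one (Ideal.Quotient.mk (p ^ (n + 1))), ← map_add, sub_add_cancel, map_mul] at h3
  exact isUnit_of_mul_isUnit_left h3

theorem flat_atPrime_of_comap {A B B' : Type u} [CommRing A] [CommRing B] [CommRing B'] [Algebra A B] [Algebra B B']
    [Algebra A B'] [IsScalarTower A B B'] [Module.Flat B B'] (Q : Ideal B') [Q.IsPrime]
    (h : (algebraMap A (Localization.AtPrime (Q.comap (algebraMap B B')))).Flat) :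
    Module.Flat A (Localization.AtPrime Q) := by
  have h2 := RingHom.Flat.localRingHom (f := algebraMap B B') (RingHom.flat_algebraMap_iff.2 inferInstance)
    Q (Q.comap (algebraMap B B')) rfl
  have h3 := h.comp h2
  rw [← RingHom.flat_algebraMap_iff]
  convert h3 using 1
  refine RingHom.ext fun a => ?_
  show algebraMap A (Localization.AtPrime Q) a =
    Localization.localRingHom (Q.comap (algebraMap B B')) Q (algebraMap B B') rfl (algebraMap A _ a)
  rw [IsScalarTower.algebraMap_apply A B (Localization.AtPrime (Q.comap (algebraMap B B'))),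
    Localization.localRingHom_to_map, IsScalarTower.algebraMap_apply A B' (Localization.AtPrime Q),
    IsScalarTower.algebraMap_apply A B B']

theorem flat_of_map_surjective {A A' : Type u} [CommRing A] [CommRing A'] [Algebra A A'] [IsNoetherianRing A']
    (p : Ideal A) {L : Type u} [CommRing L] [IsNoetherianRing L] [IsLocalRing L] [Algebra A L] [Algebra A' L]
    [IsScalarTower A A' L] [Module.Flat A L]
    (hloc : (p.map (algebraMap A A')).map (algebraMap A' L) ≤ IsLocalRing.maximalIdeal L)
    (hsur : ∀ n, ∀ y : A', ∃ a : A, y - algebraMap A A' a ∈ (p ^ (n + 1)).map (algebraMap A A')) :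
    Module.Flat A' L := by
  refine TopFin.flat_of_trunc (R := A') (I := p.map (algebraMap A A')) TopFin.good_of_isNoetherianRing.2
    (B := L) TopFin.good_of_isNoetherianRing.2 ?_ L fun n => ?_
  · rwa [IsLocalRing.jacobson_eq_maximalIdeal _ bot_ne_top]
  · have hpow : ((p.map (algebraMap A A')) ^ (n + 1)).map (algebraMap A' A') = (p ^ (n + 1)).map (algebraMap A A') := by
      rw [Algebra.algebraMap_self, Ideal.map_id, Ideal.map_pow]
    haveI := flat_quotient_tensor (A' := A') (p ^ (n + 1)) (hsur n) L
    unfold AdicRing.trunc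
    rw [hpow]
    infer_instance

theorem map_comap_le_maximalIdeal {A B : Type u} [CommRing A] [CommRing B] [Algebra A B] (Q : Ideal B) [Q.IsPrime] :
    (Q.comap (algebraMap A B)).map (algebraMap A (Localization.AtPrime Q)) ≤
      IsLocalRing.maximalIdeal (Localization.AtPrime Q) := by
  rw [Ideal.map_le_iff_le_comap]
  intro x hx
  rw [Ideal.mem_comap, IsScalarTower.algebraMap_apply A B (Localization.AtPrime Q),
    ← Localization.AtPrime.map_eq_maximalIdeal]
  exact Ideal.mem_map_of_mem _ hx

theorem algebraMap_compLoc_map {A : Type u} [CommRing A] (I : Ideal A) {B : Type u} [CommRing B] [Algebra A B]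
    (f : A) (ψ : CompLoc I f →+* CompLoc (I.map (algebraMap A B)) (algebraMap A B f))
    (hψ : ψ.comp (algebraMap (Localization.Away f) (CompLoc I f)) =
      (algebraMap (Localization.Away (algebraMap A B f)) (CompLoc (I.map (algebraMap A B)) (algebraMap A B f))).comp
        (Localization.awayMap (algebraMap A B) f)) (a : A) :
    ψ (algebraMap A (CompLoc I f) a) =
      algebraMap B (CompLoc (I.map (algebraMap A B)) (algebraMap A B f)) (algebraMap A B a) := by
  rw [IsScalarTower.algebraMap_apply A (Localization.Away f) (CompLoc I f), ← RingHom.comp_apply ψ, hψ,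
    RingHom.comp_apply, show Localization.awayMap (algebraMap A B) f (algebraMap A (Localization.Away f) a) =
      algebraMap B (Localization.Away (algebraMap A B f)) (algebraMap A B a) from IsLocalization.map_eq _ _,
    ← IsScalarTower.algebraMap_apply]

theorem flat_atPrime_compLoc {A : Type u} [CommRing A] [IsNoetherianRing A] (I : Ideal A) [IsAdicComplete I A]
    {B : Type u} [CommRing B] [Algebra A B] [IsNoetherianRing B] [IsAdicComplete (I.map (algebraMap A B)) B]
    (hft : Algebra.FiniteType A (B ⧸ I.map (algebraMap A B))) (hJ : IsJacobsonRing (A ⧸ I))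
    (hnaive : ∀ q : PrimeSpectrum B, RigClosed (I.map (algebraMap A B)) q →
      (algebraMap A (Localization.AtPrime q.asIdeal)).Flat)
    (f : A) (ψ : CompLoc I f →+* CompLoc (I.map (algebraMap A B)) (algebraMap A B f))
    (hψ : ψ.comp (algebraMap (Localization.Away f) (CompLoc I f)) =
      (algebraMap (Localization.Away (algebraMap A B f)) (CompLoc (I.map (algebraMap A B)) (algebraMap A B f))).comp
        (Localization.awayMap (algebraMap A B) f))
    (q' : PrimeSpectrum (CompLoc (I.map (algebraMap A B)) (algebraMap A B f)))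
    (hq' : RigClosed ((I.map (algebraMap A B)).map (algebraMap B _)) q') :
    ((algebraMap (CompLoc (I.map (algebraMap A B)) (algebraMap A B f)) (Localization.AtPrime q'.asIdeal)).comp ψ).Flat := by
  let IB := I.map (algebraMap A B)
  let B' := CompLoc IB (algebraMap A B f)
  let A' := CompLoc I f
  haveI := isNoetherianRing_compLoc I f
  haveI := isAdicComplete_compLoc I f
  haveI := isNoetherianRing_compLoc IB (algebraMap A B f)
  haveI hcB := isAdicComplete_compLoc IB (algebraMap A B f)
  have hψA := algebraMap_compLoc_map I f ψ hψ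
  letI : Algebra A' B' := ψ.toAlgebra
  haveI : IsScalarTower A A' B' := IsScalarTower.of_algebraMap_eq fun a =>
    (IsScalarTower.algebraMap_apply A B B' a).trans (hψA a).symm
  have hAA' : I.map (algebraMap A B') = IB.map (algebraMap B B') := by
    rw [IsScalarTower.algebraMap_eq A B B']
    exact (Ideal.map_map _ _).symm
  have hA'B' : (I.map (algebraMap A A')).map (algebraMap A' B') = IB.map (algebraMap B B') := by
    rw [← hAA', IsScalarTower.algebraMap_eq A A' B']
    exact Ideal.map_map _ _
  haveI : IsAdicComplete (IB.map (algebraMap B B')) B' := hcB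
  haveI : IsAdicComplete (I.map (algebraMap A B')) B' := hAA' ▸ hcB
  haveI := hft
  haveI := hJ
  have hftBB' := finiteType_compLoc_quotient IB (algebraMap A B f)
  have hJB : IsJacobsonRing (B ⧸ IB) := by
    letI : Algebra (A ⧸ I) (B ⧸ IB) := (Ideal.quotientMap IB (algebraMap A B) Ideal.le_comap_map).toAlgebra
    haveI : IsScalarTower A (A ⧸ I) (B ⧸ IB) := IsScalarTower.of_algebraMap_eq fun _ => rfl
    haveI : Algebra.FiniteType (A ⧸ I) (B ⧸ IB) := Algebra.FiniteType.of_restrictScalars_finiteType A _ _
    exact isJacobsonRing_of_finiteType (A := A ⧸ I)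
  have hq : RigClosed IB (PrimeSpectrum.comap (algebraMap B B') q') :=
    rigClosed_comap_of_finite hq' (finite_quotient_of_residue_finite hq' fun m hm _ =>
      residue_finite_of_jacobson hftBB' hJB m hm)
  have hftA : Algebra.FiniteType A (B' ⧸ I.map (algebraMap A B')) :=
    hAA' ▸ finiteType_quotient_map IB hft hftBB'
  have hq'' : RigClosed (I.map (algebraMap A B')) q' := hAA' ▸ hq'
  have hp : RigClosed I (PrimeSpectrum.comap (algebraMap A B') q') :=
    rigClosed_comap_of_finite hq'' (finite_quotient_of_residue_finite hq'' fun m hm _ =>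
      residue_finite_of_jacobson hftA hJ m hm)
  have hpp' : (PrimeSpectrum.comap (algebraMap A B') q').asIdeal.map (algebraMap A A') ≤ q'.asIdeal.comap ψ :=
    Ideal.map_le_iff_le_comap.2 fun a ha => by
      show ψ (algebraMap A A' a) ∈ q'.asIdeal
      rw [hψA, ← IsScalarTower.algebraMap_apply]
      exact ha
  have hfu : IsUnit (algebraMap A A' f) := by
    rw [IsScalarTower.algebraMap_apply A (Localization.Away f) A']
    exact (IsLocalization.Away.algebraMap_isUnit f).map _
  have hfp := isUnit_mk_of_le I hp hfu (Ideal.IsPrime.ne_top (Ideal.comap_isPrime ψ q'.asIdeal)) hpp'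
  have hrc := rigClosed_map_compLoc I hp hfp
  have hp'eq : q'.asIdeal.comap ψ = (PrimeSpectrum.comap (algebraMap A B') q').asIdeal.map (algebraMap A A') :=
    congrArg PrimeSpectrum.asIdeal (hrc.2 (PrimeSpectrum.comap ψ q') hpp' fun hle => hq'.1
      (hA'B' ▸ Ideal.map_le_iff_le_comap.2 hle))
  let L := Localization.AtPrime q'.asIdeal
  haveI : Module.Flat (Localization.Away (algebraMap A B f)) B' :=
    inferInstanceAs (Module.Flat _ (AdicCompletion _ _))
  haveI : Module.Flat B (Localization.Away (algebraMap A B f)) :=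
    IsLocalization.flat _ (Submonoid.powers (algebraMap A B f))
  haveI : Module.Flat B B' := Module.Flat.trans B (Localization.Away (algebraMap A B f)) B'
  haveI : Module.Flat A L := flat_atPrime_of_comap (B := B) q'.asIdeal (hnaive _ hq)
  have halg : algebraMap A' L = (algebraMap B' L).comp ψ := IsScalarTower.algebraMap_eq A' B' L
  rw [← halg, RingHom.flat_algebraMap_iff]
  refine flat_of_map_surjective (PrimeSpectrum.comap (algebraMap A B') q').asIdeal ?_ fun n y => ?_
  · rw [← hp'eq]
    exact map_comap_le_maximalIdeal (A := A') q'.asIdeal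
  · obtain ⟨w, hw⟩ := (quotient_compLoc I _ (isUnit_mk_pow hfp n)).2 (Ideal.Quotient.mk _ y)
    obtain ⟨a, rfl⟩ := Ideal.Quotient.mk_surjective w
    rw [Ideal.quotientMap_mk] at hw
    exact ⟨a, Ideal.Quotient.eq.1 hw.symm⟩

end Groth.Agent.RigPts
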