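/-
Universal property of completed principal localisations.
-/
import Groth.Agent.RigPts.Localize
import Groth.Agent.RigPts.RigFlat
import Groth.Agent.SepSurj.Basic

set_option autoImplicit false
set_option linter.style.haveILetI false
set_option backward.isDefEq.respectTransparency false

universe u

noncomputable section

namespace Groth.Agent.RigPts

variable {A : Type u} [CommRing A]

/-- The map `A_{f} → S` when `f` is a unit in the complete algebra `S`. -/
def CompLoc.lift (I : Ideal A) {f : A} {S : Type u} [CommRing S] [Algebra A S]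
    [IsAdicComplete (I.map (algebraMap A S)) S] (hf : IsUnit (algebraMap A S f)) : CompLoc I f →ₐ[A] S :=
  AdicRingLib.completionLift I
    ({ toRingHom := IsLocalization.Away.lift f (g := algebraMap A S) hf
       commutes' := fun a => IsLocalization.Away.lift_eq f hf a } : Localization.Away f →ₐ[A] S)

theorem CompLoc.algHom_ext [IsNoetherianRing A] (I : Ideal A) {f : A} {S : Type u} [CommRing S] [Algebra A S]
    [IsHausdorff (I.map (algebraMap A S)) S] (g₁ g₂ : CompLoc I f →ₐ[A] S) : g₁ = g₂ := by
  refine AdicRingLib.completion_algHom_ext I (IsNoetherian.noetherian _) fun x => ?_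
  have h : g₁.toRingHom.comp (algebraMap (Localization.Away f) (CompLoc I f)) =
      g₂.toRingHom.comp (algebraMap (Localization.Away f) (CompLoc I f)) := by
    refine IsLocalization.ringHom_ext (Submonoid.powers f) (RingHom.ext fun a => ?_)
    show g₁ (algebraMap (Localization.Away f) (CompLoc I f) (algebraMap A _ a)) =
      g₂ (algebraMap (Localization.Away f) (CompLoc I f) (algebraMap A _ a))
    rw [← IsScalarTower.algebraMap_apply, AlgHom.commutes, AlgHom.commutes]
  exact RingHom.congr_fun h x

theorem CompLoc.ringHom_ext [IsNoetherianRing A] (I : Ideal A) {f : A} {S : Type u} [CommRing S]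
    (g₁ g₂ : CompLoc I f →+* S) (J : Ideal S) [IsHausdorff J S]
    (hJ : I.map (g₁.comp (algebraMap A (CompLoc I f))) ≤ J)
    (h : ∀ a, g₁ (algebraMap A _ a) = g₂ (algebraMap A _ a)) : g₁ = g₂ := by
  letI : Algebra A S := (g₁.comp (algebraMap A (CompLoc I f))).toAlgebra
  haveI : IsHausdorff (I.map (algebraMap A S)) S := IsHausdorff.mk fun x hx =>
    IsHausdorff.haus' (I := J) x fun n =>
      (hx n).mono (Submodule.smul_mono (Ideal.pow_right_mono hJ n) le_rfl)
  have e := CompLoc.algHom_ext I ({ g₁ with commutes' := fun _ => rfl } : CompLoc I f →ₐ[A] S)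
    ({ g₂ with commutes' := fun a => (h a).symm } : CompLoc I f →ₐ[A] S)
  exact RingHom.ext fun x => AlgHom.congr_fun e x

theorem isUnit_compLoc (I : Ideal A) (f : A) : IsUnit (algebraMap A (CompLoc I f) f) := by
  rw [IsScalarTower.algebraMap_apply A (Localization.Away f) (CompLoc I f)]
  exact (IsLocalization.Away.algebraMap_isUnit f).map _

theorem map_ideal_ringHom {S : Type u} [CommRing S] [Algebra A S] {I : Ideal A} {f : A} (φ : CompLoc I f →ₐ[A] S) :
    (I.map (algebraMap A (CompLoc I f))).map φ.toRingHom = I.map (algebraMap A S) := by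
  rw [Ideal.map_map]
  exact congrArg (fun g => I.map g) (RingHom.ext fun a => φ.commutes a)

variable [IsNoetherianRing A] (I : Ideal A) (e f : A)

/-- `A_{e} → A_{ef}`. -/
theorem flat_compLoc_hom {I' : Ideal A} (hI' : I' = I) {g : A} (hg : g = e * f)
    (φ : CompLoc I e →ₐ[A] CompLoc I' g) : φ.toRingHom.Flat := by
  obtain rfl := hg
  obtain rfl := hI'.symm
  let R := CompLoc I e
  haveI := isNoetherianRing_compLoc I e
  haveI := isAdicComplete_compLoc I e
  let J := I.map (algebraMap A R)
  let D := CompLoc J (algebraMap A R f)
  haveI := isNoetherianRing_compLoc J (algebraMap A R f)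
  haveI : IsAdicComplete (I.map (algebraMap A D)) D := by
    have h := isAdicComplete_compLoc J (algebraMap A R f)
    have e' : J.map (algebraMap R D) = I.map (algebraMap A D) :=
      (Ideal.map_map _ _).trans (congrArg (fun g => I.map g) (IsScalarTower.algebraMap_eq A R D).symm)
    exact e' ▸ h
  haveI := isNoetherianRing_compLoc I (e * f)
  haveI := isAdicComplete_compLoc I (e * f)
  have hu := isUnit_compLoc I (e * f)
  rw [map_mul, IsUnit.mul_iff] at hu
  have hD : IsUnit (algebraMap A D (e * f)) := by
    rw [map_mul, IsScalarTower.algebraMap_apply A R D e, IsScalarTower.algebraMap_apply A R D f]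
    exact ((isUnit_compLoc I e).map _).mul (isUnit_compLoc J _)
  let α : CompLoc I (e * f) →ₐ[A] D := CompLoc.lift I hD
  letI : Algebra R (CompLoc I (e * f)) := φ.toRingHom.toAlgebra
  haveI : IsScalarTower A R (CompLoc I (e * f)) := IsScalarTower.of_algebraMap_eq fun a => (φ.commutes a).symm
  haveI : IsAdicComplete (J.map (algebraMap R (CompLoc I (e * f)))) (CompLoc I (e * f)) := by
    rw [Ideal.map_map, ← IsScalarTower.algebraMap_eq]
    infer_instance
  let β : D →ₐ[R] CompLoc I (e * f) := CompLoc.lift J (by rw [← IsScalarTower.algebraMap_apply]; exact hu.2)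
  have h1 : (β.restrictScalars A).comp α = AlgHom.id A (CompLoc I (e * f)) :=
    CompLoc.algHom_ext I _ _
  have hR : α.toRingHom.comp φ.toRingHom = algebraMap R D := by
    have := CompLoc.algHom_ext I (α.comp φ) (IsScalarTower.toAlgHom A R D)
    exact RingHom.ext fun x => AlgHom.congr_fun this x
  haveI : IsAdicComplete (J.map (algebraMap R D)) D := isAdicComplete_compLoc J (algebraMap A R f)
  let α' : CompLoc I (e * f) →ₐ[R] D := { α with commutes' := fun x => RingHom.congr_fun hR x }
  have h2 : α'.comp β = AlgHom.id R D := CompLoc.algHom_ext J _ _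
  haveI : Module.Flat (Localization.Away (algebraMap A R f)) D :=
    inferInstanceAs (Module.Flat _ (AdicCompletion _ _))
  haveI : Module.Flat R (Localization.Away (algebraMap A R f)) :=
    IsLocalization.flat _ (Submonoid.powers (algebraMap A R f))
  haveI : Module.Flat R D := Module.Flat.trans R (Localization.Away (algebraMap A R f)) D
  have hinv : α'.toLinearMap ∘ₗ β.toLinearMap = LinearMap.id ∧ β.toLinearMap ∘ₗ α'.toLinearMap = LinearMap.id :=
    ⟨LinearMap.ext fun x => AlgHom.congr_fun h2 x, LinearMap.ext fun x => AlgHom.congr_fun h1 x⟩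
  exact Module.Flat.of_linearEquiv (LinearEquiv.ofLinear α'.toLinearMap β.toLinearMap hinv.1 hinv.2)

omit [IsNoetherianRing A] in
theorem flat_comp_atPrime {R S T : Type u} [CommRing R] [CommRing S] [CommRing T] (f : R →+* S) (g : S →+* T)
    (q : Ideal T) [q.IsPrime] (hf : ((algebraMap S (Localization.AtPrime (q.comap g))).comp f).Flat)
    (hg : ((algebraMap T (Localization.AtPrime q)).comp g).Flat) :
    ((algebraMap T (Localization.AtPrime q)).comp (g.comp f)).Flat := by
  have h1 : (Localization.localRingHom (q.comap g) q g rfl).Flat := by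
    algebraize [g, Localization.localRingHom (q.comap g) q g rfl]
    haveI : IsScalarTower S (Localization.AtPrime (q.comap g)) (Localization.AtPrime q) :=
      .of_algebraMap_eq fun x => (IsScalarTower.algebraMap_apply S T (Localization.AtPrime q) x).trans
        (Localization.localRingHom_to_map _ _ _ rfl x).symm
    rw [RingHom.Flat, Module.flat_iff_of_isLocalization
      (S := Localization.AtPrime (q.comap g)) (p := (q.comap g).primeCompl), ← RingHom.flat_algebraMap_iff]
    rw [IsScalarTower.algebraMap_eq S T (Localization.AtPrime q)]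
    exact hg
  have h2 := hf.comp h1
  convert h2 using 1
  refine RingHom.ext fun a => ?_
  exact (Localization.localRingHom_to_map (q.comap g) q g rfl (f a)).symm

omit [IsNoetherianRing A] in
theorem flat_descend_atPrime {R S T : Type u} [CommRing R] [CommRing S] [CommRing T] (f : R →+* S) (g : S →+* T)
    (hg : g.Flat) (q : Ideal T) [q.IsPrime] (Q : Ideal S) [Q.IsPrime] (hQ : Q = q.comap g)
    (h : ((algebraMap T (Localization.AtPrime q)).comp (g.comp f)).Flat) :
    ((algebraMap S (Localization.AtPrime Q)).comp f).Flat := by
  have hflat := RingHom.Flat.localRingHom hg q Q hQ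
  have hloc := Localization.isLocalHom_localRingHom Q q g hQ
  have hcomm : (Localization.localRingHom Q q g hQ).comp ((algebraMap S (Localization.AtPrime Q)).comp f) =
      (algebraMap T (Localization.AtPrime q)).comp (g.comp f) :=
    RingHom.ext fun a => Localization.localRingHom_to_map Q q g hQ (f a)
  letI := ((algebraMap S (Localization.AtPrime Q)).comp f).toAlgebra
  letI := (Localization.localRingHom Q q g hQ).toAlgebra
  letI := ((algebraMap T (Localization.AtPrime q)).comp (g.comp f)).toAlgebra
  haveI : IsScalarTower R (Localization.AtPrime Q) (Localization.AtPrime q) :=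
    IsScalarTower.of_algebraMap_eq fun a => (RingHom.congr_fun hcomm a).symm
  haveI : Module.Flat (Localization.AtPrime Q) (Localization.AtPrime q) := hflat
  haveI : IsLocalHom (algebraMap (Localization.AtPrime Q) (Localization.AtPrime q)) := hloc
  haveI : Module.FaithfullyFlat (Localization.AtPrime Q) (Localization.AtPrime q) :=
    Module.FaithfullyFlat.of_flat_of_isLocalHom
  haveI : Module.Flat R (Localization.AtPrime q) := h
  exact SepSurj.flat_of_comp_faithfullyFlat (R := R) (S := Localization.AtPrime Q) (T := Localization.AtPrime q)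

omit [IsNoetherianRing A] in
theorem rigClosed_comap_of_finite' {R S : Type u} [CommRing R] [IsNoetherianRing R] [CommRing S] [IsNoetherianRing S]
    (J : Ideal R) [IsAdicComplete J R] (J' : Ideal S) [IsAdicComplete J' S] (φ : R →+* S) (hJ : J.map φ = J')
    {q : PrimeSpectrum S} (hq : RigClosed J' q) (hfin : ((Ideal.Quotient.mk q.asIdeal).comp φ).Finite) :
    RigClosed J (PrimeSpectrum.comap φ q) := by
  letI := φ.toAlgebra
  subst hJ
  haveI : IsAdicComplete (J.map (algebraMap R S)) S := ‹IsAdicComplete (J.map φ) S›
  refine rigClosed_comap_of_finite hq ?_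
  rw [← RingHom.finite_algebraMap, IsScalarTower.algebraMap_eq R S (S ⧸ q.asIdeal)]
  exact hfin

end Groth.Agent.RigPts
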