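/-
Rig-flatness is stable under composition.
-/
import Groth.Agent.RigPts.Univ

set_option autoImplicit false
set_option linter.style.haveILetI false
set_option backward.isDefEq.respectTransparency false

universe u

noncomputable section

namespace Groth.Agent.RigPts

/-- Rig-flatness of `A → B`. -/
def RigFlat {A : Type u} [CommRing A] (I : Ideal A) (B : Type u) [CommRing B] [Algebra A B] : Prop :=
  ∀ f : A, ∀ ψf : CompLoc I f →+* CompLoc (I.map (algebraMap A B)) (algebraMap A B f),
    ψf.comp (algebraMap (Localization.Away f) (CompLoc I f)) =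
      (algebraMap (Localization.Away (algebraMap A B f)) (CompLoc (I.map (algebraMap A B)) (algebraMap A B f))).comp
        (Localization.awayMap (algebraMap A B) f) →
    ∀ qf : PrimeSpectrum (CompLoc (I.map (algebraMap A B)) (algebraMap A B f)),
      RigClosed (((I.map (algebraMap A B)).map (algebraMap B (Localization.Away (algebraMap A B f)))).map
        (algebraMap (Localization.Away (algebraMap A B f)) (CompLoc (I.map (algebraMap A B)) (algebraMap A B f)))) qf →
      ((algebraMap (CompLoc (I.map (algebraMap A B)) (algebraMap A B f)) (Localization.AtPrime qf.asIdeal)).comp ψf).Flat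

theorem map_map_compLoc {C : Type u} [CommRing C] (J : Ideal C) (c : C) :
    (J.map (algebraMap C (Localization.Away c))).map (algebraMap (Localization.Away c) (CompLoc J c)) =
      J.map (algebraMap C (CompLoc J c)) :=
  (Ideal.map_map _ _).trans (congrArg (fun g => J.map g) (IsScalarTower.algebraMap_eq C _ _).symm)

theorem compat_of_comp_algebraMap {A B : Type u} [CommRing A] [CommRing B] [Algebra A B] (I : Ideal A) (f : A)
    (J : Ideal B) (ψ : CompLoc I f →+* CompLoc J (algebraMap A B f))
    (h : ∀ a, ψ (algebraMap A _ a) = algebraMap B _ (algebraMap A B a)) :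
    ψ.comp (algebraMap (Localization.Away f) (CompLoc I f)) =
      (algebraMap (Localization.Away (algebraMap A B f)) (CompLoc J (algebraMap A B f))).comp
        (Localization.awayMap (algebraMap A B) f) := by
  refine IsLocalization.ringHom_ext (Submonoid.powers f) (RingHom.ext fun a => ?_)
  simp only [RingHom.comp_apply]
  rw [← IsScalarTower.algebraMap_apply, h,
    show Localization.awayMap (algebraMap A B) f (algebraMap A (Localization.Away f) a) =
      algebraMap B (Localization.Away (algebraMap A B f)) (algebraMap A B a) from IsLocalization.map_eq _ _]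
  exact IsScalarTower.algebraMap_apply _ _ _ _

theorem comap_map_compLoc {A : Type u} [CommRing A] [IsNoetherianRing A] (I : Ideal A) [IsAdicComplete I A]
    (p : Ideal A) {f : A} (hf : IsUnit (Ideal.Quotient.mk p f)) :
    (p.map (algebraMap A (CompLoc I f))).comap (algebraMap A (CompLoc I f)) = p := by
  refine le_antisymm (fun x hx => ?_) Ideal.le_comap_map
  rw [← Ideal.Quotient.eq_zero_iff_mem]
  refine (quotient_compLoc I p hf).1 ?_
  rw [map_zero, Ideal.quotientMap_mk, Ideal.Quotient.eq_zero_iff_mem]
  exact hx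

theorem map_map_tower {A B C : Type u} [CommRing A] [CommRing B] [CommRing C] [Algebra A B] [Algebra B C] [Algebra A C]
    [IsScalarTower A B C] (I : Ideal A) : (I.map (algebraMap A B)).map (algebraMap B C) = I.map (algebraMap A C) :=
  (Ideal.map_map _ _).trans (congrArg (fun g => I.map g) (IsScalarTower.algebraMap_eq A B C).symm)

theorem map_ideal_algHom {A X S : Type u} [CommRing A] [CommRing X] [CommRing S] [Algebra A X] [Algebra A S]
    (I : Ideal A) (φ : X →ₐ[A] S) : (I.map (algebraMap A X)).map φ.toRingHom = I.map (algebraMap A S) :=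
  (Ideal.map_map _ _).trans (congrArg (fun g => I.map g) (RingHom.ext fun a => φ.commutes a))

theorem flat_of_comm {R P X Y L : Type u} [CommRing R] [CommRing P] [CommRing X] [CommRing Y] [CommRing L]
    {φ : R →+* P} {Ψ : P →+* X} {χ : Y →+* X} {ψ : R →+* Y} {l : X →+* L} (h : Ψ.comp φ = χ.comp ψ)
    (h4 : ((l.comp Ψ).comp φ).Flat) : (l.comp (χ.comp ψ)).Flat := by
  rwa [RingHom.comp_assoc, h] at h4

theorem isUnit_algebraMap_of_tower {A B C : Type u} [CommRing A] [CommRing B] [CommRing C] [Algebra A B] [Algebra B C]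
    [Algebra A C] [IsScalarTower A B C] {x : A} (h : IsUnit (algebraMap B C (algebraMap A B x))) :
    IsUnit (algebraMap A C x) :=
  (IsScalarTower.algebraMap_apply A B C x).symm ▸ h

/-- A rig-closed prime stays rig-closed, with quotient finite over the base, after localising at some `f ∈ A`. -/
theorem exists_finite_point {A : Type u} [CommRing A] [IsNoetherianRing A] (I : Ideal A) [IsAdicComplete I A]
    {S : Type u} [CommRing S] [Algebra A S] [IsNoetherianRing S] [IsAdicComplete (I.map (algebraMap A S)) S]
    (hft : Algebra.FiniteType A (S ⧸ I.map (algebraMap A S))) {q : PrimeSpectrum S}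
    (hq : RigClosed (I.map (algebraMap A S)) q) :
    ∃ f : A, ∃ hfu : IsUnit (Ideal.Quotient.mk q.asIdeal (algebraMap A S f)),
      IsAdicComplete (I.map (algebraMap A (CompLoc (I.map (algebraMap A S)) (algebraMap A S f))))
        (CompLoc (I.map (algebraMap A S)) (algebraMap A S f)) ∧
      ∃ qD : PrimeSpectrum (CompLoc (I.map (algebraMap A S)) (algebraMap A S f)),
        RigClosed (I.map (algebraMap A (CompLoc (I.map (algebraMap A S)) (algebraMap A S f)))) qD ∧
        PrimeSpectrum.comap (algebraMap S _) qD = q ∧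
        ∀ ψ : CompLoc I f →ₐ[A] CompLoc (I.map (algebraMap A S)) (algebraMap A S f),
          ((Ideal.Quotient.mk qD.asIdeal).comp ψ.toRingHom).Finite := by
  obtain ⟨f, hfu, hf⟩ := exists_unit_rigClosed_comap I hft hq
  haveI := q.isPrime
  let D := CompLoc (I.map (algebraMap A S)) (algebraMap A S f)
  haveI := isNoetherianRing_compLoc (I.map (algebraMap A S)) (algebraMap A S f)
  have hDS : (I.map (algebraMap A S)).map (algebraMap S D) = I.map (algebraMap A D) := map_map_tower I
  haveI hDA : IsAdicComplete (I.map (algebraMap A D)) D :=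
    hDS ▸ isAdicComplete_compLoc (I.map (algebraMap A S)) (algebraMap A S f)
  haveI := isPrime_map_compLoc (I.map (algebraMap A S)) q.asIdeal hfu
  let qD : PrimeSpectrum D := ⟨q.asIdeal.map (algebraMap S D), this⟩
  have hqD : RigClosed (I.map (algebraMap A D)) qD := hDS ▸ rigClosed_map_compLoc _ hq hfu
  refine ⟨f, hfu, hDA, qD, hqD, PrimeSpectrum.ext (comap_map_compLoc _ _ hfu), fun ψ => ?_⟩
  haveI := isNoetherianRing_compLoc I f
  haveI := isAdicComplete_compLoc I f
  have hψc := compat_of_comp_algebraMap I f (I.map (algebraMap A S)) ψ.toRingHom fun a =>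
    (ψ.commutes a).trans (IsScalarTower.algebraMap_apply A S D a)
  have hrc := hf ψ.toRingHom hψc (Ideal.comap_isPrime ψ.toRingHom qD.asIdeal)
  letI := ψ.toRingHom.toAlgebra
  haveI : IsScalarTower A (CompLoc I f) D := IsScalarTower.of_algebraMap_eq fun a => (ψ.commutes a).symm
  have hI' : (I.map (algebraMap A (CompLoc I f))).map (algebraMap (CompLoc I f) D) = I.map (algebraMap A D) :=
    map_ideal_ringHom ψ
  haveI : IsAdicComplete ((I.map (algebraMap A (CompLoc I f))).map (algebraMap (CompLoc I f) D)) D :=
    hI'.symm ▸ hDA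
  haveI hftD : Algebra.FiniteType A (D ⧸ (I.map (algebraMap A (CompLoc I f))).map (algebraMap (CompLoc I f) D)) :=
    (hDS.trans hI'.symm) ▸ finiteType_quotient_map (I.map (algebraMap A S)) hft (finiteType_compLoc_quotient _ _)
  have hftD' : Algebra.FiniteType (CompLoc I f)
      (D ⧸ (I.map (algebraMap A (CompLoc I f))).map (algebraMap (CompLoc I f) D)) :=
    Algebra.FiniteType.of_restrictScalars_finiteType A _ _
  have hqD' : RigClosed ((I.map (algebraMap A (CompLoc I f))).map (algebraMap (CompLoc I f) D)) qD :=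
    hI'.symm ▸ hqD
  have h := finite_quotient_of_residue_finite hqD' fun m hm hqm =>
    residue_finite_of_rigClosed_comap hftD' hqD' hrc m hm hqm
  rw [← RingHom.finite_algebraMap, IsScalarTower.algebraMap_eq (CompLoc I f) D (D ⧸ qD.asIdeal)] at h
  exact h

/-- Flatness of `A_{g} → C_{g}` at a point with residue finite over some `A_{f}`. -/
theorem flat_at_point {A : Type u} [CommRing A] [IsNoetherianRing A] (I : Ideal A) [IsAdicComplete I A]
    {B : Type u} [CommRing B] [Algebra A B] [IsNoetherianRing B]
    {C : Type u} [CommRing C] [Algebra A C] [Algebra B C] [IsScalarTower A B C] [IsNoetherianRing C]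
    (hAB : RigFlat I B) (hBC : RigFlat (I.map (algebraMap A B)) C) (f g : A)
    {D : Type u} [CommRing D] [IsNoetherianRing D] [Algebra A D] [IsAdicComplete (I.map (algebraMap A D)) D]
    (qD : PrimeSpectrum D) (hqD : RigClosed (I.map (algebraMap A D)) qD)
    (hfin : ∀ ψ : CompLoc I f →ₐ[A] D, ((Ideal.Quotient.mk qD.asIdeal).comp ψ.toRingHom).Finite)
    (a : CompLoc I f →ₐ[A] CompLoc I g)
    (θ : CompLoc ((I.map (algebraMap A B)).map (algebraMap B C)) (algebraMap B C (algebraMap A B g)) →ₐ[A] D)
    (ψ1 : CompLoc I g →ₐ[A] CompLoc (I.map (algebraMap A B)) (algebraMap A B g))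
    (ψ2 : CompLoc (I.map (algebraMap A B)) (algebraMap A B g) →ₐ[B]
      CompLoc ((I.map (algebraMap A B)).map (algebraMap B C)) (algebraMap B C (algebraMap A B g))) :
    ((algebraMap _ (Localization.AtPrime (qD.asIdeal.comap θ.toRingHom))).comp
      (ψ2.toRingHom.comp ψ1.toRingHom)).Flat := by
  let IB := I.map (algebraMap A B)
  let JC := IB.map (algebraMap B C)
  let Bg := CompLoc IB (algebraMap A B g)
  let Cg := CompLoc JC (algebraMap B C (algebraMap A B g))
  haveI := isNoetherianRing_compLoc I g
  haveI := isAdicComplete_compLoc I g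
  haveI := isNoetherianRing_compLoc IB (algebraMap A B g)
  haveI hcBg := isAdicComplete_compLoc IB (algebraMap A B g)
  haveI := isNoetherianRing_compLoc JC (algebraMap B C (algebraMap A B g))
  haveI hcCg := isAdicComplete_compLoc JC (algebraMap B C (algebraMap A B g))
  have hBgA : IB.map (algebraMap B Bg) = I.map (algebraMap A Bg) := map_map_tower I
  haveI : IsAdicComplete (I.map (algebraMap A Bg)) Bg := hBgA ▸ hcBg
  have hCgB : JC.map (algebraMap C Cg) = IB.map (algebraMap B Cg) := map_map_tower IB
  haveI : IsAdicComplete (IB.map (algebraMap B Cg)) Cg := hCgB ▸ hcCg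
  haveI : IsScalarTower A B Cg := IsScalarTower.of_algebraMap_eq fun x => by
    rw [IsScalarTower.algebraMap_apply A C Cg, IsScalarTower.algebraMap_apply A B C,
      ← IsScalarTower.algebraMap_apply B C Cg]
  have h := hfin (θ.comp (((ψ2.restrictScalars A).comp ψ1).comp a))
  have hθfin : ((Ideal.Quotient.mk qD.asIdeal).comp θ.toRingHom).Finite :=
    RingHom.Finite.of_comp_finite (f := (((ψ2.restrictScalars A).comp ψ1).comp a).toRingHom) h
  have hθ2fin : ((Ideal.Quotient.mk qD.asIdeal).comp (θ.comp (ψ2.restrictScalars A)).toRingHom).Finite :=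
    RingHom.Finite.of_comp_finite (f := (ψ1.comp a).toRingHom) h
  have hCgA : JC.map (algebraMap C Cg) = I.map (algebraMap A Cg) := hCgB.trans (map_map_tower I)
  have hθI : (JC.map (algebraMap C Cg)).map θ.toRingHom = I.map (algebraMap A D) :=
    (congrArg (Ideal.map _) hCgA).trans (map_ideal_algHom I θ)
  have hθ2I : (IB.map (algebraMap B Bg)).map (θ.comp (ψ2.restrictScalars A)).toRingHom = I.map (algebraMap A D) :=
    (congrArg (Ideal.map _) hBgA).trans (map_ideal_algHom I (θ.comp (ψ2.restrictScalars A)))
  have hqC := rigClosed_comap_of_finite' _ _ θ.toRingHom hθI hqD hθfin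
  have hqB := rigClosed_comap_of_finite' _ _ (θ.comp (ψ2.restrictScalars A)).toRingHom hθ2I hqD hθ2fin
  have h1 := hAB g ψ1.toRingHom (compat_of_comp_algebraMap I g IB ψ1.toRingHom fun x =>
    (ψ1.commutes x).trans (IsScalarTower.algebraMap_apply A B Bg x)) _ ((map_map_compLoc IB _).symm ▸ hqB)
  have h2 := hBC (algebraMap A B g) ψ2.toRingHom
    (compat_of_comp_algebraMap IB (algebraMap A B g) JC ψ2.toRingHom fun x =>
      (ψ2.commutes x).trans (IsScalarTower.algebraMap_apply B C Cg x)) _ ((map_map_compLoc JC _).symm ▸ hqC)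
  exact flat_comp_atPrime ψ1.toRingHom ψ2.toRingHom (qD.asIdeal.comap θ.toRingHom) h1 h2

theorem rigFlat_comp {A : Type u} [CommRing A] [IsNoetherianRing A] (I : Ideal A) [IsAdicComplete I A]
    {B : Type u} [CommRing B] [Algebra A B] [IsNoetherianRing B] [IsAdicComplete (I.map (algebraMap A B)) B]
    (hftB : Algebra.FiniteType A (B ⧸ I.map (algebraMap A B)))
    {C : Type u} [CommRing C] [Algebra A C] [Algebra B C] [IsScalarTower A B C] [IsNoetherianRing C]
    [IsAdicComplete (I.map (algebraMap A C)) C] (hftC : Algebra.FiniteType B (C ⧸ I.map (algebraMap A C)))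
    (hAB : RigFlat I B) (hBC : RigFlat (I.map (algebraMap A B)) C) : RigFlat I C := by
  intro e ψe hψe qe hqe0
  let IC := I.map (algebraMap A C)
  let JC := (I.map (algebraMap A B)).map (algebraMap B C)
  have hJC : JC = IC := map_map_tower I
  let S := CompLoc IC (algebraMap A C e)
  haveI := isNoetherianRing_compLoc IC (algebraMap A C e)
  have hSA : IC.map (algebraMap C S) = I.map (algebraMap A S) := map_map_tower I
  haveI : IsAdicComplete (I.map (algebraMap A S)) S := hSA ▸ isAdicComplete_compLoc IC (algebraMap A C e)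
  have hqe : RigClosed (I.map (algebraMap A S)) qe := ((map_map_compLoc _ _).trans hSA) ▸ hqe0
  have hftJC : Algebra.FiniteType B (C ⧸ JC) := hJC.symm ▸ (hftC : Algebra.FiniteType B (C ⧸ IC))
  have hftAC : Algebra.FiniteType A (C ⧸ IC) :=
    hJC ▸ (finiteType_quotient_map (I.map (algebraMap A B)) hftB hftJC : Algebra.FiniteType A (C ⧸ JC))
  have hft : Algebra.FiniteType A (S ⧸ I.map (algebraMap A S)) :=
    hSA ▸ finiteType_quotient_map IC hftAC (finiteType_compLoc_quotient IC _)
  obtain ⟨f, hfu, hDA, qD, hqD, hqDe, hfin⟩ := exists_finite_point I hft hqe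
  let D := CompLoc (I.map (algebraMap A S)) (algebraMap A S f)
  haveI := isNoetherianRing_compLoc (I.map (algebraMap A S)) (algebraMap A S f)
  haveI := hDA
  have hfD : IsUnit (algebraMap A D f) := isUnit_algebraMap_of_tower (isUnit_compLoc _ (algebraMap A S f))
  have heD : IsUnit (algebraMap A D e) :=
    isUnit_algebraMap_of_tower (B := S)
      ((isUnit_algebraMap_of_tower (isUnit_compLoc IC (algebraMap A C e))).map (algebraMap S D))
  have hgC : algebraMap B C (algebraMap A B (e * f)) = algebraMap A C e * algebraMap A C f := by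
    rw [← IsScalarTower.algebraMap_apply, map_mul]
  let Cg := CompLoc JC (algebraMap B C (algebraMap A B (e * f)))
  haveI hcCg := isAdicComplete_compLoc JC (algebraMap B C (algebraMap A B (e * f)))
  have hDC : JC.map (algebraMap C D) = I.map (algebraMap A D) :=
    (congrArg (Ideal.map _) hJC).trans (map_map_tower I)
  haveI : IsAdicComplete (JC.map (algebraMap C D)) D := hDC.symm ▸ hDA
  obtain ⟨θ⟩ : Nonempty (Cg →ₐ[C] D) := by
    refine ⟨CompLoc.lift JC ?_⟩
    have h : IsUnit (algebraMap A D (e * f)) := by rw [map_mul]; exact heD.mul hfD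
    have e1 : algebraMap C D (algebraMap B C (algebraMap A B (e * f))) = algebraMap A D (e * f) :=
      (congrArg (algebraMap C D) (IsScalarTower.algebraMap_apply A B C (e * f)).symm).trans
        (IsScalarTower.algebraMap_apply A C D (e * f)).symm
    exact e1.symm ▸ h
  haveI := isNoetherianRing_compLoc I e
  haveI := isAdicComplete_compLoc I e
  haveI := isAdicComplete_compLoc I (e * f)
  obtain ⟨a⟩ : Nonempty (CompLoc I f →ₐ[A] CompLoc I (e * f)) := ⟨CompLoc.lift I
    (isUnit_of_mul_isUnit_right (by rw [← map_mul]; exact isUnit_compLoc I (e * f)))⟩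
  obtain ⟨φ⟩ : Nonempty (CompLoc I e →ₐ[A] CompLoc I (e * f)) := ⟨CompLoc.lift I
    (isUnit_of_mul_isUnit_left (by rw [← map_mul]; exact isUnit_compLoc I (e * f)))⟩
  let IB := I.map (algebraMap A B)
  let Bg := CompLoc IB (algebraMap A B (e * f))
  haveI hcBg := isAdicComplete_compLoc IB (algebraMap A B (e * f))
  haveI : IsAdicComplete (I.map (algebraMap A Bg)) Bg :=
    (map_map_tower I : IB.map (algebraMap B Bg) = I.map (algebraMap A Bg)) ▸ hcBg
  haveI : IsAdicComplete (IB.map (algebraMap B Cg)) Cg :=
    (map_map_tower IB : JC.map (algebraMap C Cg) = IB.map (algebraMap B Cg)) ▸ hcCg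
  haveI : IsScalarTower A B Cg := IsScalarTower.of_algebraMap_eq fun x =>
    (IsScalarTower.algebraMap_apply A C Cg x).trans ((congrArg (algebraMap C Cg)
      (IsScalarTower.algebraMap_apply A B C x)).trans (IsScalarTower.algebraMap_apply B C Cg _).symm)
  obtain ⟨ψ1⟩ : Nonempty (CompLoc I (e * f) →ₐ[A] Bg) :=
    ⟨CompLoc.lift I (isUnit_algebraMap_of_tower (isUnit_compLoc IB (algebraMap A B (e * f))))⟩
  obtain ⟨ψ2⟩ : Nonempty (Bg →ₐ[B] Cg) :=
    ⟨CompLoc.lift IB (isUnit_algebraMap_of_tower (isUnit_compLoc JC (algebraMap B C (algebraMap A B (e * f)))))⟩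
  have h3 := flat_at_point I hAB hBC f (e * f) qD hqD hfin a (θ.restrictScalars A) ψ1 ψ2
  have hCgC : JC.map (algebraMap C Cg) = IC.map (algebraMap C Cg) := congrArg (Ideal.map _) hJC
  haveI : IsAdicComplete (IC.map (algebraMap C Cg)) Cg := hCgC ▸ hcCg
  obtain ⟨χ⟩ : Nonempty (S →ₐ[C] Cg) := by
    refine ⟨CompLoc.lift IC (isUnit_of_mul_isUnit_left (y := algebraMap C Cg (algebraMap A C f)) ?_)⟩
    rw [← map_mul, ← hgC]
    exact isUnit_compLoc JC (algebraMap B C (algebraMap A B (e * f)))
  have hχ : χ.toRingHom.Flat := flat_compLoc_hom IC (algebraMap A C e) (algebraMap A C f) hJC hgC χ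
  have h4 := (flat_compLoc_hom I e f rfl rfl φ).comp h3
  haveI : IsHausdorff (I.map (algebraMap A Cg)) Cg :=
    (hCgC.trans (map_map_tower I)) ▸ hcCg.toIsHausdorff
  have hcomm : (ψ2.toRingHom.comp ψ1.toRingHom).comp φ.toRingHom = χ.toRingHom.comp ψe := by
    refine CompLoc.ringHom_ext I _ _ (I.map (algebraMap A Cg)) ?_ fun x => ?_
    · exact (congrArg (fun g => I.map g)
        (RingHom.ext fun x => AlgHom.commutes (((ψ2.restrictScalars A).comp ψ1).comp φ) x)).le
    · show ψ2 (ψ1 (φ (algebraMap A _ x))) = χ (ψe (algebraMap A _ x))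
      exact (AlgHom.commutes (((ψ2.restrictScalars A).comp ψ1).comp φ) x).trans
        (((congrArg χ (algebraMap_compLoc_map I e ψe hψe x)).trans (χ.commutes _)).trans
          (IsScalarTower.algebraMap_apply A C Cg x).symm).symm
  haveI := qe.isPrime
  refine flat_descend_atPrime ψe χ.toRingHom hχ (qD.asIdeal.comap (θ.restrictScalars A).toRingHom) qe.asIdeal ?_ ?_
  · haveI : IsHausdorff (IC.map (algebraMap C D)) D :=
      (map_map_tower I : IC.map (algebraMap C D) = I.map (algebraMap A D)).symm ▸ hDA.toIsHausdorff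
    have e1 : θ.toRingHom.comp χ.toRingHom = algebraMap S D := by
      have := CompLoc.algHom_ext IC (θ.comp χ) (IsScalarTower.toAlgHom C S D)
      exact RingHom.ext fun x => AlgHom.congr_fun this x
    have h6 : qD.asIdeal.comap (θ.toRingHom.comp χ.toRingHom) = qe.asIdeal :=
      (congrArg (fun g => qD.asIdeal.comap g) e1).trans (congrArg PrimeSpectrum.asIdeal hqDe)
    exact h6.symm.trans (Ideal.comap_comap (I := qD.asIdeal) χ.toRingHom θ.toRingHom).symm
  · exact flat_of_comm hcomm h4

end Groth.Agent.RigPts
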