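/-
Flatness of completed base changes at a point.
-/
import Groth.Agent.RigPts.RigFlatComp
import Groth.Agent.RigPts.CompPoly
import Groth.Agent.S8800
import Mathlib.RingTheory.MvPolynomial.Localization
import Mathlib.RingTheory.TensorProduct.MvPolynomial

set_option autoImplicit false
set_option linter.style.haveILetI false
set_option backward.isDefEq.respectTransparency false

universe u

open scoped TensorProduct

noncomputable section

namespace Groth.Agent.RigPts

attribute [local instance] MvPolynomial.algebraMvPolynomial in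
theorem flat_mvPolynomial_map {A B : Type u} [CommRing A] [CommRing B] [Algebra A B] [Module.Flat A B] (σ : Type) :
    (MvPolynomial.map (σ := σ) (algebraMap A B)).Flat := by
  have h := (inferInstance : Algebra.IsPushout A (MvPolynomial σ A) B (MvPolynomial σ B))
  have h2 : Module.Flat (MvPolynomial σ A) (MvPolynomial σ B) :=
    Module.Flat.isBaseChange A (MvPolynomial σ A) B (MvPolynomial σ B) h.out
  have e : algebraMap (MvPolynomial σ A) (MvPolynomial σ B) = MvPolynomial.map (algebraMap A B) := rfl
  rw [← e]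
  exact RingHom.flat_algebraMap_iff.2 h2

theorem exists_flat_lift_atPrime {Q Qq : Type u} [CommRing Q] [CommRing Qq] [Algebra Q Qq] (M : Submonoid Q)
    [IsLocalization M Qq] (q : Ideal Q) [q.IsPrime] (hle : M ≤ q.primeCompl) :
    ∃ v : Qq →+* Localization.AtPrime q, v.Flat ∧ ∀ x, v (algebraMap Q Qq x) = algebraMap Q (Localization.AtPrime q) x := by
  let v : Qq →+* Localization.AtPrime q :=
    IsLocalization.lift (M := M) (g := algebraMap Q (Localization.AtPrime q))
      fun y => IsLocalization.map_units (Localization.AtPrime q) (⟨y, hle y.2⟩ : q.primeCompl)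
  refine ⟨v, ?_, fun x => IsLocalization.lift_eq _ x⟩
  letI := v.toAlgebra
  haveI : IsScalarTower Q Qq (Localization.AtPrime q) :=
    IsScalarTower.of_algebraMap_eq fun x => (IsLocalization.lift_eq _ x).symm
  haveI := IsLocalization.isLocalization_of_submonoid_le Qq (Localization.AtPrime q) M q.primeCompl hle
  exact RingHom.flat_algebraMap_iff.2 (IsLocalization.flat (Localization.AtPrime q)
    (q.primeCompl.map (algebraMap Q Qq)))

theorem flat_mvPolynomial_atPrime {A B : Type u} [CommRing A] [CommRing B] (f : A →+* B) {σ : Type}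
    (q : Ideal (MvPolynomial σ B)) [q.IsPrime]
    (h : ((algebraMap B (Localization.AtPrime (q.comap (MvPolynomial.C : B →+* MvPolynomial σ B)))).comp f).Flat) :
    ((algebraMap (MvPolynomial σ B) (Localization.AtPrime q)).comp (MvPolynomial.map f)).Flat := by
  let qB := q.comap (MvPolynomial.C : B →+* MvPolynomial σ B)
  let Bq := Localization.AtPrime qB
  letI : Algebra A Bq := ((algebraMap B Bq).comp f).toAlgebra
  haveI : Module.Flat A Bq := h
  have hle : qB.primeCompl.map (MvPolynomial.C : B →+* MvPolynomial σ B) ≤ q.primeCompl := by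
    rintro _ ⟨x, hx, rfl⟩
    exact hx
  obtain ⟨v, hv, hvq⟩ := @exists_flat_lift_atPrime (MvPolynomial σ B) (MvPolynomial σ Bq) _ _
    MvPolynomial.algebraMvPolynomial (qB.primeCompl.map (MvPolynomial.C : B →+* MvPolynomial σ B))
    (MvPolynomial.isLocalization qB.primeCompl Bq) q _ hle
  have h2 := (flat_mvPolynomial_map (A := A) (B := Bq) σ).comp hv
  convert h2 using 1
  refine RingHom.ext fun x => ?_
  show algebraMap (MvPolynomial σ B) (Localization.AtPrime q) (MvPolynomial.map f x) = v (MvPolynomial.map _ x)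
  exact (hvq _).symm.trans (congrArg v (MvPolynomial.map_map f (algebraMap B Bq) x))

theorem flat_congr_prime {A B : Type u} [CommRing A] [CommRing B] (f : A →+* B) (p q : Ideal B) [p.IsPrime]
    [q.IsPrime] (h : p = q) (hp : ((algebraMap B (Localization.AtPrime p)).comp f).Flat) :
    ((algebraMap B (Localization.AtPrime q)).comp f).Flat := by
  subst h; exact hp

theorem flat_of_surjective_quotient {R S : Type u} [CommRing R] [CommRing S] [Algebra R S]
    (hS : Function.Surjective (algebraMap R S)) {L M : Type u} [CommRing L] [CommRing M] [Algebra R L] [Algebra S M]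
    [Algebra R M] [IsScalarTower R S M] (π : L →ₐ[R] M) (hπ : Function.Surjective π)
    (hker : RingHom.ker π.toRingHom ≤ (RingHom.ker (algebraMap R S)).map (algebraMap R L)) [Module.Flat R L] :
    Module.Flat S M := by
  let Φ : S ⊗[R] L →ₗ[S] M := π.toLinearMap.liftBaseChange S
  have hone : ∀ z : S ⊗[R] L, ∃ x : L, z = (1 : S) ⊗ₜ x := by
    intro z
    induction z using TensorProduct.induction_on with
    | zero => exact ⟨0, (TensorProduct.tmul_zero L 1).symm⟩
    | add a b ha hb =>
      obtain ⟨x, rfl⟩ := ha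
      obtain ⟨y, rfl⟩ := hb
      exact ⟨x + y, (TensorProduct.tmul_add _ _ _).symm⟩
    | tmul s x =>
      obtain ⟨r, rfl⟩ := hS s
      exact ⟨r • x, by rw [TensorProduct.tmul_smul, TensorProduct.smul_tmul', Algebra.smul_def, mul_one]⟩
  have hsurj : Function.Surjective Φ := fun z => by
    obtain ⟨x, rfl⟩ := hπ z
    exact ⟨1 ⊗ₜ x, by simp [Φ]⟩
  have hinj : Function.Injective Φ := by
    refine (injective_iff_map_eq_zero _).2 fun z hz => ?_
    obtain ⟨x, rfl⟩ := hone z
    have hx : x ∈ (RingHom.ker (algebraMap R S)).map (algebraMap R L) := hker (by simpa [Φ] using hz)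
    have hx' : x ∈ (RingHom.ker (algebraMap R S)) • (⊤ : Submodule R L) := by
      rw [Ideal.smul_top_eq_map]
      exact hx
    refine Submodule.smul_induction_on hx' (fun a ha y _ => ?_) fun a b ha hb => by
      rw [TensorProduct.tmul_add, ha, hb, add_zero]
    rw [TensorProduct.tmul_smul, TensorProduct.smul_tmul', Algebra.smul_def, mul_one, (RingHom.mem_ker).1 ha,
      TensorProduct.zero_tmul]
  exact Module.Flat.of_linearEquiv (LinearEquiv.ofBijective Φ ⟨hinj, hsurj⟩).symm

theorem localRingHom_ker {Z Y : Type u} [CommRing Z] [CommRing Y] (π : Z →+* Y) (hπ : Function.Surjective π)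
    (q : Ideal Y) [q.IsPrime] :
    RingHom.ker (Localization.localRingHom (q.comap π) q π rfl) ≤
      (RingHom.ker π).map (algebraMap Z (Localization.AtPrime (q.comap π))) := by
  intro z hz
  obtain ⟨a, s, rfl⟩ := IsLocalization.exists_mk'_eq (q.comap π).primeCompl z
  rw [RingHom.mem_ker, Localization.localRingHom_mk', IsLocalization.mk'_eq_zero_iff] at hz
  obtain ⟨⟨t, ht⟩, hta⟩ := hz
  obtain ⟨u, rfl⟩ := hπ t
  rw [IsLocalization.mk'_mem_map_algebraMap_iff (q.comap π).primeCompl]
  exact ⟨u, ht, by rw [RingHom.mem_ker, map_mul]; exact hta⟩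

theorem flat_of_map_surjective_hom {P PC L : Type u} [CommRing P] [CommRing PC] [CommRing L] [Algebra P PC]
    [IsNoetherianRing PC] [IsNoetherianRing L] [IsLocalRing L] (P' : Ideal P) (k : PC →+* L)
    (hk : (k.comp (algebraMap P PC)).Flat)
    (hloc : ∀ x ∈ P', k (algebraMap P PC x) ∈ IsLocalRing.maximalIdeal L)
    (hsur : ∀ n, ∀ y : PC, ∃ a : P, y - algebraMap P PC a ∈ (P' ^ (n + 1)).map (algebraMap P PC)) : k.Flat := by
  letI : Algebra PC L := k.toAlgebra
  letI : Algebra P L := (k.comp (algebraMap P PC)).toAlgebra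
  haveI : IsScalarTower P PC L := IsScalarTower.of_algebraMap_eq fun _ => rfl
  haveI : Module.Flat P L := hk
  exact flat_of_map_surjective P'
    (Ideal.map_le_iff_le_comap.2 (Ideal.map_le_iff_le_comap.2 fun x hx => hloc x hx)) hsur

theorem flat_of_surjective_quotient_hom {R S L M : Type u} [CommRing R] [CommRing S] [CommRing L] [CommRing M]
    (Φ : R →+* S) (hΦ : Function.Surjective Φ) (k : R →+* L) (hk : k.Flat) (l : S →+* M) (π : L →+* M)
    (hπ : Function.Surjective π) (hcomm : ∀ x, π (k x) = l (Φ x)) (hker : RingHom.ker π ≤ (RingHom.ker Φ).map k) :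
    l.Flat := by
  letI : Algebra R S := Φ.toAlgebra
  letI : Algebra R L := k.toAlgebra
  letI : Algebra S M := l.toAlgebra
  letI : Algebra R M := (l.comp Φ).toAlgebra
  haveI : IsScalarTower R S M := IsScalarTower.of_algebraMap_eq fun _ => rfl
  haveI : Module.Flat R L := hk
  exact flat_of_surjective_quotient (R := R) (S := S) hΦ ({ toRingHom := π, commutes' := hcomm } : L →ₐ[R] M) hπ hker

/-- The universal property of a completed tensor product. -/
structure IsCompletedTensor {A : Type u} [CommRing A] (I : Ideal A) (B C Y : Type u) [CommRing B] [CommRing C]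
    [CommRing Y] [Algebra A B] [Algebra A C] [Algebra A Y] [Algebra B Y] [Algebra C Y] : Prop where
  lift : ∀ (S : Type u) [CommRing S] [Algebra A S] [IsAdicComplete (I.map (algebraMap A S)) S]
    (g1 : C →ₐ[A] S) (g2 : B →ₐ[A] S),
    ∃ g : Y →ₐ[A] S, (∀ c, g (algebraMap C Y c) = g1 c) ∧ ∀ b, g (algebraMap B Y b) = g2 b
  ext : ∀ (S : Type u) [CommRing S] [Algebra A S] [IsHausdorff (I.map (algebraMap A S)) S] (g g' : Y →ₐ[A] S),
    (∀ c, g (algebraMap C Y c) = g' (algebraMap C Y c)) → (∀ b, g (algebraMap B Y b) = g' (algebraMap B Y b)) → g = g'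

theorem exists_presentation {A : Type u} [CommRing A] [IsNoetherianRing A] (I : Ideal A) {C : Type u} [CommRing C]
    [Algebra A C] [IsAdicComplete (I.map (algebraMap A C)) C]
    (hft : Algebra.FiniteType A (C ⧸ I.map (algebraMap A C))) :
    ∃ (m : ℕ) (Φ : Comp I (MvPolynomial (Fin m) A) →ₐ[A] C), Function.Surjective Φ := by
  obtain ⟨m, φ0, hφ0⟩ := Algebra.FiniteType.iff_quotient_mvPolynomial''.1 hft
  choose c hc using fun i => Ideal.Quotient.mk_surjective (φ0 (MvPolynomial.X i))
  let φ : MvPolynomial (Fin m) A →ₐ[A] C := MvPolynomial.aeval c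
  have hφ : φ0 = (Ideal.Quotient.mkₐ A _).comp φ := MvPolynomial.algHom_ext fun i => by
    simp [φ, hc]
  let Φ : Comp I (MvPolynomial (Fin m) A) →ₐ[A] C := AdicRingLib.completionLift I φ
  refine ⟨m, Φ, ?_⟩
  haveI := isAdicComplete_comp I (MvPolynomial (Fin m) A)
  haveI : IsAdicComplete I (Comp I (MvPolynomial (Fin m) A)) :=
    (IsAdicComplete.map_algebraMap_iff (I := I) (M := Comp I (MvPolynomial (Fin m) A))
      (S := Comp I (MvPolynomial (Fin m) A))).1 inferInstance
  haveI : IsHausdorff I C :=
    IsHausdorff.map_algebraMap_iff.1 (inferInstance : IsHausdorff (I.map (algebraMap A C)) C)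
  refine surjective_of_mkQ_comp_surjective (I := I) (f := Φ.toLinearMap) fun z => ?_
  obtain ⟨y, rfl⟩ := Submodule.Quotient.mk_surjective _ z
  obtain ⟨p, hp⟩ := hφ0 (Ideal.Quotient.mk _ y)
  refine ⟨algebraMap (MvPolynomial (Fin m) A) _ p, (Submodule.Quotient.eq _).2 ?_⟩
  rw [Ideal.smul_top_eq_map, Submodule.restrictScalars_mem]
  rw [hφ] at hp
  show Φ (algebraMap _ _ p) - y ∈ _
  rw [show Φ (algebraMap _ _ p) = φ p from AdicRingLib.completionLift_of I φ p]
  exact Ideal.Quotient.eq.1 hp

/-- `C → C ⊗̂_A B` is flat at a point with finite residue ring over `A`, if `A → B` is flat below it. -/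
theorem flat_baseChange_point {A : Type u} [CommRing A] [IsNoetherianRing A] (I : Ideal A) [IsAdicComplete I A]
    {B C Y : Type u} [CommRing B] [Algebra A B] [IsNoetherianRing B]
    [CommRing C] [Algebra A C] [IsAdicComplete (I.map (algebraMap A C)) C]
    (hft : Algebra.FiniteType A (C ⧸ I.map (algebraMap A C)))
    [CommRing Y] [IsNoetherianRing Y] [Algebra A Y] [Algebra B Y] [Algebra C Y] [IsScalarTower A B Y]
    [IsScalarTower A C Y] [IsAdicComplete (I.map (algebraMap A Y)) Y] (hY : IsCompletedTensor I B C Y)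
    (q : Ideal Y) [q.IsPrime] (hfin : ((Ideal.Quotient.mk q).comp (algebraMap A Y)).Finite)
    (hB : ((algebraMap B (Localization.AtPrime (q.comap (algebraMap B Y)))).comp (algebraMap A B)).Flat) :
    ((algebraMap Y (Localization.AtPrime q)).comp (algebraMap C Y)).Flat := by
  obtain ⟨m, Φ, hΦ⟩ := exists_presentation I hft
  let P := MvPolynomial (Fin m) A
  let PC := Comp I P
  let Q := MvPolynomial (Fin m) B
  let IB := I.map (algebraMap A B)
  let ZC := Comp IB Q
  haveI := isNoetherianRing_comp I P
  haveI := isNoetherianRing_comp IB Q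
  haveI hcP := isAdicComplete_comp I P
  haveI hcZ := isAdicComplete_comp IB Q
  have hZA : IB.map (algebraMap B ZC) = I.map (algebraMap A ZC) := map_map_tower I
  haveI : IsAdicComplete (I.map (algebraMap A ZC)) ZC := hZA ▸ hcZ
  have hYB : IB.map (algebraMap B Y) = I.map (algebraMap A Y) := map_map_tower I
  haveI : IsAdicComplete (IB.map (algebraMap B Y)) Y := hYB.symm ▸ ‹IsAdicComplete (I.map (algebraMap A Y)) Y›
  let PA : P →ₐ[A] PC := IsScalarTower.toAlgHom A P PC
  let PQ : P →ₐ[A] ZC := MvPolynomial.aeval fun i => algebraMap Q ZC (MvPolynomial.X i)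
  obtain ⟨j, hjP⟩ : ∃ j : PC →ₐ[A] ZC, ∀ x, j (algebraMap P PC x) = PQ x :=
    ⟨AdicRingLib.completionLift I PQ, AdicRingLib.completionLift_of I PQ⟩
  obtain ⟨π, hπQ⟩ : ∃ π : ZC →ₐ[B] Y, ∀ x, π (algebraMap Q ZC x) =
      MvPolynomial.aeval (fun i => algebraMap C Y (Φ (algebraMap P PC (MvPolynomial.X i)))) x :=
    ⟨AdicRingLib.completionLift IB _, AdicRingLib.completionLift_of IB _⟩
  have hπj : ∀ z, π (j z) = algebraMap C Y (Φ z) := by
    have := AdicRingLib.completion_algHom_ext (S := P) (B := Y) I (IsNoetherian.noetherian I)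
      (f₁ := (π.restrictScalars A).comp j) (f₂ := (IsScalarTower.toAlgHom A C Y).comp Φ) fun x => by
        have e : ((π.restrictScalars A).comp j).comp PA = ((IsScalarTower.toAlgHom A C Y).comp Φ).comp PA :=
          MvPolynomial.algHom_ext fun i => by
            show π (j (algebraMap P PC (MvPolynomial.X i))) = algebraMap C Y (Φ (algebraMap P PC (MvPolynomial.X i)))
            rw [hjP]
            exact (congrArg π (MvPolynomial.aeval_X _ i)).trans ((hπQ _).trans (MvPolynomial.aeval_X _ i))
        exact AlgHom.congr_fun e x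
    exact fun z => AlgHom.congr_fun this z
  -- the inverse
  let J' := (RingHom.ker Φ.toRingHom).map j.toRingHom
  let R := ZC ⧸ J'
  haveI : IsAdicComplete (I.map (algebraMap A R)) R := by
    have e : (I.map (algebraMap A ZC)).map (Ideal.Quotient.mk J') = I.map (algebraMap A R) := map_map_tower I
    exact e ▸ quotient_setup (I.map (algebraMap A ZC)) J'
  let jR : (PC ⧸ RingHom.ker Φ.toRingHom) →ₐ[A] R := Ideal.quotientMapₐ J' j Ideal.le_comap_map
  let g1 : C →ₐ[A] R := jR.comp (Ideal.quotientKerAlgEquivOfSurjective hΦ).symm.toAlgHom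
  have hg1 : ∀ z, g1 (Φ z) = Ideal.Quotient.mk J' (j z) := fun z => by
    have e : (Ideal.quotientKerAlgEquivOfSurjective hΦ).symm (Φ z) = Ideal.Quotient.mk (RingHom.ker Φ.toRingHom) z := by
      rw [AlgEquiv.symm_apply_eq]
      rfl
    show jR ((Ideal.quotientKerAlgEquivOfSurjective hΦ).symm (Φ z)) = _
    rw [e]
    rfl
  obtain ⟨σ, hσC, hσB⟩ := hY.lift R g1 (IsScalarTower.toAlgHom A B R)
  let σB : Y →ₐ[B] R := { toRingHom := σ.toRingHom, commutes' := hσB }
  haveI : IsHausdorff (IB.map (algebraMap B R)) R :=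
    (map_map_tower I : IB.map (algebraMap B R) = I.map (algebraMap A R)).symm ▸
      (inferInstance : IsAdicComplete (I.map (algebraMap A R)) R).toIsHausdorff
  have hσπ : ∀ z, σ (π z) = Ideal.Quotient.mk J' z := by
    have := AdicRingLib.completion_algHom_ext (S := Q) (B := R) IB (IsNoetherian.noetherian IB)
      (f₁ := σB.comp π) (f₂ := Ideal.Quotient.mkₐ B J') fun x => by
        have e : (σB.comp π).comp (IsScalarTower.toAlgHom B Q ZC) =
            (Ideal.Quotient.mkₐ B J').comp (IsScalarTower.toAlgHom B Q ZC) :=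
          MvPolynomial.algHom_ext fun i => by
            show σ (π (algebraMap Q ZC (MvPolynomial.X i))) = Ideal.Quotient.mk J' (algebraMap Q ZC (MvPolynomial.X i))
            rw [hπQ]
            exact (congrArg σ (MvPolynomial.aeval_X _ i)).trans ((hσC _).trans ((hg1 _).trans
              (congrArg (Ideal.Quotient.mk J') ((hjP _).trans (MvPolynomial.aeval_X _ i)))))
        exact AlgHom.congr_fun e x
    exact fun z => AlgHom.congr_fun this z
  have hkerπ : RingHom.ker π.toRingHom ≤ J' := fun z hz => by
    rw [← Ideal.Quotient.eq_zero_iff_mem, ← hσπ, show π z = 0 from hz, map_zero]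
  have hJ'0 : ∀ z ∈ J', π z = 0 := fun z hz => by
    have : J' ≤ RingHom.ker π.toRingHom := by
      rw [Ideal.map_le_iff_le_comap]
      intro w hw
      show π (j w) = 0
      rw [hπj, show Φ w = 0 from hw, map_zero]
    exact this hz
  let πR : R →ₐ[A] Y := Ideal.Quotient.liftₐ J' (π.restrictScalars A) hJ'0
  have hπsurj : Function.Surjective π := fun y => by
    have e : πR.comp σ = AlgHom.id A Y := by
      refine hY.ext Y _ _ (fun c => ?_) fun b => ?_
      · obtain ⟨z, rfl⟩ := hΦ c
        show πR (σ (algebraMap C Y (Φ z))) = algebraMap C Y (Φ z)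
        rw [hσC, hg1]
        exact hπj z
      · show πR (σ (algebraMap B Y b)) = algebraMap B Y b
        rw [hσB]
        exact π.commutes b
    obtain ⟨z, hz⟩ := Ideal.Quotient.mk_surjective (σ y)
    refine ⟨z, ?_⟩
    have := AlgHom.congr_fun e y
    rw [AlgHom.comp_apply, ← hz] at this
    exact this
  -- the point of `ZC`
  let Qz := q.comap π.toRingHom
  let L := Localization.AtPrime Qz
  have hP : ((algebraMap ZC L).comp ((algebraMap Q ZC).comp (MvPolynomial.map (algebraMap A B)))).Flat := by
    refine flat_comp_atPrime (MvPolynomial.map (algebraMap A B)) (algebraMap Q ZC) Qz ?_ ?_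
    · refine flat_mvPolynomial_atPrime (algebraMap A B) (σ := Fin m) (Qz.comap (algebraMap Q ZC)) ?_
      refine flat_congr_prime (algebraMap A B) (q.comap (algebraMap B Y)) _ (Ideal.ext fun b => ?_) hB
      show algebraMap B Y b ∈ q ↔ π (algebraMap Q ZC (MvPolynomial.C b)) ∈ q
      rw [hπQ, MvPolynomial.aeval_C]
    · exact RingHom.Flat.comp (RingHom.flat_algebraMap_iff.2
        (inferInstanceAs (Module.Flat Q (AdicCompletion (IB.map (algebraMap B Q)) Q))))
        (RingHom.flat_algebraMap_iff.2 (IsLocalization.flat L Qz.primeCompl))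
  have hjQ : (algebraMap Q ZC).comp (MvPolynomial.map (algebraMap A B)) = j.toRingHom.comp (algebraMap P PC) := by
    refine MvPolynomial.ringHom_ext (fun a => ?_) fun i => ?_
    · show algebraMap Q ZC (MvPolynomial.map _ (MvPolynomial.C a)) = j (algebraMap P PC (MvPolynomial.C a))
      rw [hjP, MvPolynomial.map_C]
      show _ = MvPolynomial.aeval _ (MvPolynomial.C a)
      rw [MvPolynomial.aeval_C, IsScalarTower.algebraMap_apply A B ZC, IsScalarTower.algebraMap_apply B Q ZC]
      rfl
    · show algebraMap Q ZC (MvPolynomial.map _ (MvPolynomial.X i)) = j (algebraMap P PC (MvPolynomial.X i))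
      rw [hjP, MvPolynomial.map_X]
      exact (MvPolynomial.aeval_X (fun k => algebraMap Q ZC (MvPolynomial.X k)) i).symm
  rw [hjQ, ← RingHom.comp_assoc] at hP
  let f : P →ₐ[A] Y := ((π.restrictScalars A).comp j).comp PA
  let P' := q.comap f.toRingHom
  haveI : Module.Finite A (Y ⧸ q) := RingHom.finite_algebraMap.1 hfin
  haveI : Module.Finite A (P ⧸ P') :=
    Module.Finite.of_injective (Ideal.quotientMapₐ (R₁ := A) q f le_rfl).toLinearMap Ideal.quotientMap_injective
  have hk : ((algebraMap ZC L).comp j.toRingHom).Flat := by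
    refine flat_of_map_surjective_hom P' _ hP (fun x hx => ?_) fun n y => ?_
    · rw [← Localization.AtPrime.map_eq_maximalIdeal]
      exact Ideal.mem_map_of_mem _ (show j (algebraMap P PC x) ∈ Qz from hx)
    · haveI := finite_quotient_pow (A := A) P' (n + 1)
      exact exists_sub_mem_map_comp I (P' ^ (n + 1)) y
  refine flat_of_surjective_quotient_hom Φ.toRingHom hΦ _ hk _ (Localization.localRingHom Qz q π.toRingHom rfl)
    (RingHom.surjective_localRingHom_of_surjective π.toRingHom hπsurj q)
    (fun z => (Localization.localRingHom_to_map Qz q π.toRingHom rfl (j z)).trans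
      (congrArg (algebraMap Y (Localization.AtPrime q)) (hπj z))) ?_
  exact (localRingHom_ker π.toRingHom hπsurj q).trans ((Ideal.map_mono hkerπ).trans (Ideal.map_map _ _).le)

end Groth.Agent.RigPts
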