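/-
Fibres over rig-closed primes of an adic algebra with unramified reduction.
-/
import Groth.Agent.RigPts.Finite
import Mathlib.RingTheory.Unramified.LocalRing
import Mathlib.RingTheory.Unramified.LocalStructure

set_option autoImplicit false
set_option linter.style.haveILetI false
set_option backward.isDefEq.respectTransparency false

universe u

open scoped TensorProduct

noncomputable section

namespace Groth.Agent.RigPts

theorem formallyUnramified_of_quotient {A C : Type u} [CommRing A] [CommRing C] [Algebra A C]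
    [Algebra.EssFiniteType A C] (I : Ideal A) (hjac : I.map (algebraMap A C) ≤ Ideal.jacobson (⊥ : Ideal C))
    [Algebra.FormallyUnramified A (C ⧸ I.map (algebraMap A C))] : Algebra.FormallyUnramified A C := by
  let J := I.map (algebraMap A C)
  have hdJ : ∀ x ∈ J, KaehlerDifferential.D A C x ∈ J • (⊤ : Submodule C Ω[C⁄A]) := by
    intro x hx
    refine Submodule.span_induction ?_ (by simp) (fun a b _ _ ha hb => by rw [map_add]; exact add_mem ha hb)
      (fun c a ha h => ?_) hx
    · rintro _ ⟨a, -, rfl⟩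
      simp
    · rw [smul_eq_mul, Derivation.leibniz]
      exact add_mem (Submodule.smul_mem _ _ h) (Submodule.smul_mem_smul ha trivial)
  have h0 : ∀ z : (C ⧸ J) ⊗[C] Ω[C⁄A], z = 0 := by
    intro z
    have hz : KaehlerDifferential.mapBaseChange A C (C ⧸ J) z = 0 := Subsingleton.elim _ _
    obtain ⟨w, rfl⟩ :=
      (KaehlerDifferential.exact_kerCotangentToTensor_mapBaseChange A C (C ⧸ J) Ideal.Quotient.mk_surjective _).1 hz
    obtain ⟨⟨x, hx⟩, rfl⟩ := Ideal.toCotangent_surjective _ w
    rw [KaehlerDifferential.kerCotangentToTensor_toCotangent]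
    have h1 := hdJ x (Ideal.Quotient.eq_zero_iff_mem.1 hx)
    refine Submodule.smul_induction_on h1 (fun a ha y _ => ?_) fun a b ha hb => by
      rw [TensorProduct.tmul_add, ha, hb, add_zero]
    rw [TensorProduct.tmul_smul, TensorProduct.smul_tmul', Algebra.smul_def, mul_one, Ideal.Quotient.algebraMap_eq,
      Ideal.Quotient.eq_zero_iff_mem.2 ha, TensorProduct.zero_tmul]
  have hbot : (⊤ : Submodule C Ω[C⁄A]) = ⊥ := by
    refine Submodule.eq_bot_of_le_smul_of_le_jacobson_bot J _ Module.Finite.fg_top (fun y _ => ?_) hjac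
    have := congrArg (TensorProduct.quotTensorEquivQuotSMul (Ω[C⁄A]) J) (h0 ((1 : C ⧸ J) ⊗ₜ y))
    rw [map_zero, show (1 : C ⧸ J) = Ideal.Quotient.mk _ 1 from rfl, TensorProduct.quotTensorEquivQuotSMul_mk_tmul,
      one_smul, Submodule.Quotient.mk_eq_zero] at this
    exact this
  exact ⟨⟨fun a b => ((Submodule.mem_bot C).1 (hbot.le (Submodule.mem_top (x := a)))).trans
    ((Submodule.mem_bot C).1 (hbot.le (Submodule.mem_top (x := b)))).symm⟩⟩

variable {A : Type u} [CommRing A] [IsNoetherianRing A] (I : Ideal A) [IsAdicComplete I A]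

theorem isArtinianRing_quotient_sup {p : PrimeSpectrum A} (hp : RigClosed I p) :
    IsArtinianRing (A ⧸ I ⊔ p.asIdeal) := by
  haveI := p.isPrime
  haveI : Ring.KrullDimLE 1 (A ⧸ p.asIdeal) :=
    (Ring.krullDimLE_iff (n := 1)).2 (by exact_mod_cast (dim_eq_one_of_rigClosed I hp).le)
  haveI : Ring.KrullDimLE 0 (A ⧸ I ⊔ p.asIdeal) := Ring.krullDimLE_zero_iff.2 fun P hP => by
    let n := P.comap (Ideal.Quotient.mk (I ⊔ p.asIdeal))
    haveI : n.IsPrime := Ideal.comap_isPrime _ _
    have hle : I ⊔ p.asIdeal ≤ n := fun x hx => by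
      rw [Ideal.mem_comap, Ideal.Quotient.eq_zero_iff_mem.2 hx]
      exact zero_mem _
    have hker : RingHom.ker (Ideal.Quotient.mk p.asIdeal) ≤ n := by rw [Ideal.mk_ker]; exact le_sup_right.trans hle
    haveI := Ideal.map_isPrime_of_surjective Ideal.Quotient.mk_surjective hker
    have hmax := Ideal.IsPrime.isMaximal_of_ne_bot (I := n.map (Ideal.Quotient.mk p.asIdeal)) inferInstance (by
      rw [Ne, Ideal.map_eq_bot_iff_le_ker, Ideal.mk_ker]
      exact fun h => hp.1 ((le_sup_left.trans hle).trans h))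
    have h2 := Ideal.comap_isMaximal_of_surjective (Ideal.Quotient.mk p.asIdeal) Ideal.Quotient.mk_surjective
      (K := n.map (Ideal.Quotient.mk p.asIdeal))
    rw [Ideal.comap_map_of_surjective _ Ideal.Quotient.mk_surjective, ← RingHom.ker_eq_comap_bot,
      sup_eq_left.2 hker] at h2
    have h3 := (Ideal.map_eq_top_or_isMaximal_of_surjective _ (Ideal.Quotient.mk_surjective (I := I ⊔ p.asIdeal))
      h2).resolve_left (by
        rw [Ideal.map_comap_of_surjective _ Ideal.Quotient.mk_surjective]
        exact hP.ne_top)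
    rwa [Ideal.map_comap_of_surjective _ Ideal.Quotient.mk_surjective] at h3
  exact isArtinianRing_iff_isNoetherianRing_krullDimLE_zero.2 ⟨inferInstance, inferInstance⟩

theorem finite_fibre {B : Type u} [CommRing B] [Algebra A B] [IsNoetherianRing B]
    [IsAdicComplete (I.map (algebraMap A B)) B] [Algebra.FiniteType A (B ⧸ I.map (algebraMap A B))]
    [Algebra.FormallyUnramified A (B ⧸ I.map (algebraMap A B))] {p : PrimeSpectrum A} (hp : RigClosed I p) :
    Module.Finite A (B ⧸ p.asIdeal.map (algebraMap A B)) ∧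
      Algebra.FormallyUnramified A (B ⧸ p.asIdeal.map (algebraMap A B)) := by
  let C := B ⧸ p.asIdeal.map (algebraMap A B)
  let J := I.map (algebraMap A C)
  haveI : IsAdicComplete J C := by
    have h := quotient_setup (I.map (algebraMap A B)) (p.asIdeal.map (algebraMap A B))
    rw [Ideal.map_map] at h
    exact h
  let g : (B ⧸ I.map (algebraMap A B)) →ₐ[A] C ⧸ J :=
    Ideal.quotientMapₐ J (Ideal.Quotient.mkₐ A (p.asIdeal.map (algebraMap A B))) (Ideal.map_le_iff_le_comap.2
      fun a ha => by
        show Ideal.Quotient.mk (p.asIdeal.map (algebraMap A B)) (algebraMap A B a) ∈ J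
        exact Ideal.mem_map_of_mem (algebraMap A C) ha)
  have hg : Function.Surjective g := fun z => by
    obtain ⟨y, rfl⟩ := Ideal.Quotient.mk_surjective z
    obtain ⟨x, rfl⟩ := Ideal.Quotient.mk_surjective y
    exact ⟨Ideal.Quotient.mk _ x, rfl⟩
  haveI : Algebra.FiniteType A (C ⧸ J) := Algebra.FiniteType.of_surjective g hg
  haveI : Algebra.FormallyUnramified A (C ⧸ J) := Algebra.FormallyUnramified.of_surjective g hg
  haveI := isArtinianRing_quotient_sup I hp
  letI : Algebra (A ⧸ I ⊔ p.asIdeal) (C ⧸ J) := (Ideal.Quotient.lift (I ⊔ p.asIdeal) (algebraMap A (C ⧸ J))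
    (fun a ha => by
      have h1 : a ∈ RingHom.ker (algebraMap A (C ⧸ J)) := by
        refine (sup_le ?_ ?_ : I ⊔ p.asIdeal ≤ RingHom.ker (algebraMap A (C ⧸ J))) ha
        · intro x hx
          rw [RingHom.mem_ker, IsScalarTower.algebraMap_apply A C (C ⧸ J)]
          exact Ideal.Quotient.eq_zero_iff_mem.2 (Ideal.mem_map_of_mem _ hx)
        · intro x hx
          rw [RingHom.mem_ker, IsScalarTower.algebraMap_apply A C (C ⧸ J), IsScalarTower.algebraMap_apply A B C,
            Ideal.Quotient.algebraMap_eq (p.asIdeal.map (algebraMap A B)),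
            Ideal.Quotient.eq_zero_iff_mem.2 (Ideal.mem_map_of_mem _ hx), map_zero]
      exact h1)).toAlgebra
  haveI : IsScalarTower A (A ⧸ I ⊔ p.asIdeal) (C ⧸ J) := IsScalarTower.of_algebraMap_eq fun _ => rfl
  haveI : Algebra.FiniteType (A ⧸ I ⊔ p.asIdeal) (C ⧸ J) := Algebra.FiniteType.of_restrictScalars_finiteType A _ _
  haveI : Algebra.FormallyUnramified (A ⧸ I ⊔ p.asIdeal) (C ⧸ J) :=
    Algebra.FormallyUnramified.of_restrictScalars A _ _
  haveI : Module.Finite (A ⧸ I ⊔ p.asIdeal) (C ⧸ J) := Module.Finite.of_quasiFinite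
  haveI : Module.Finite A (C ⧸ J) := Module.Finite.trans (A ⧸ I ⊔ p.asIdeal) _
  haveI hfin : Module.Finite A C := by
    haveI : IsHausdorff I C := IsHausdorff.map_algebraMap_iff.1 (inferInstance : IsHausdorff J C)
    refine S0544.result A I _ ?_
    have e : (I • ⊤ : Submodule A C) = J.restrictScalars A := Ideal.smul_top_eq_map I
    exact Module.Finite.equiv ((Submodule.Quotient.restrictScalarsEquiv A J).symm ≪≫ₗ Submodule.quotEquivOfEq _ _ e.symm)
  exact ⟨hfin, formallyUnramified_of_quotient I (IsAdicComplete.le_jacobson_bot J)⟩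

theorem map_comap_eq_maximal {B : Type u} [CommRing B] [Algebra A B] [IsNoetherianRing B]
    [IsAdicComplete (I.map (algebraMap A B)) B] [Algebra.FiniteType A (B ⧸ I.map (algebraMap A B))]
    [Algebra.FormallyUnramified A (B ⧸ I.map (algebraMap A B))] (q : PrimeSpectrum B)
    (hp : RigClosed I (PrimeSpectrum.comap (algebraMap A B) q)) :
    ((PrimeSpectrum.comap (algebraMap A B) q).asIdeal.map (algebraMap A B)).map
      (algebraMap B (Localization.AtPrime q.asIdeal)) = IsLocalRing.maximalIdeal (Localization.AtPrime q.asIdeal) := by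
  haveI := q.isPrime
  set p := (PrimeSpectrum.comap (algebraMap A B) q).asIdeal with hpdef
  haveI : p.IsPrime := (PrimeSpectrum.comap (algebraMap A B) q).isPrime
  obtain ⟨hfin, hunr⟩ := finite_fibre I (B := B) hp
  haveI := hfin
  haveI := hunr
  let K := p.map (algebraMap A B)
  have hKq : K ≤ q.asIdeal := Ideal.map_comap_le
  let Q := q.asIdeal.map (Ideal.Quotient.mk K)
  haveI hQ : Q.IsPrime := Ideal.map_isPrime_of_surjective Ideal.Quotient.mk_surjective (by rwa [Ideal.mk_ker])
  have hQc : Q.comap (Ideal.Quotient.mk K) = q.asIdeal := by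
    rw [Ideal.comap_map_of_surjective _ Ideal.Quotient.mk_surjective, ← RingHom.ker_eq_comap_bot, Ideal.mk_ker,
      sup_eq_left.2 hKq]
  haveI : Q.LiesOver p := ⟨by
    rw [Ideal.under_def, IsScalarTower.algebraMap_eq A B (B ⧸ K), ← Ideal.comap_comap, Ideal.Quotient.algebraMap_eq,
      hQc]
    rfl⟩
  haveI : Algebra.IsUnramifiedAt A Q :=
    Algebra.FormallyUnramified.comp A (B ⧸ K) (Localization.AtPrime Q)
  letI := Localization.AtPrime.algebraOfLiesOver p Q
  have h := ((Algebra.isUnramifiedAt_iff_map_eq A p Q).1 inferInstance).2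
  refine le_antisymm ?_ ?_
  · rw [← Localization.AtPrime.map_eq_maximalIdeal]
    exact Ideal.map_mono hKq
  · rw [← Localization.AtPrime.map_eq_maximalIdeal, Ideal.map_le_iff_le_comap]
    intro x hx
    have h1 : algebraMap (B ⧸ K) (Localization.AtPrime Q) (Ideal.Quotient.mk K x) ∈
        p.map (algebraMap A (Localization.AtPrime Q)) := by
      rw [h, ← Localization.AtPrime.map_eq_maximalIdeal]
      exact Ideal.mem_map_of_mem _ (Ideal.mem_map_of_mem _ hx)
    have h2 : p.map (algebraMap A (Localization.AtPrime Q)) = ⊥ := by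
      rw [IsScalarTower.algebraMap_eq A (B ⧸ K) (Localization.AtPrime Q), ← Ideal.map_map,
        IsScalarTower.algebraMap_eq A B (B ⧸ K), ← Ideal.map_map, Ideal.Quotient.algebraMap_eq,
        Ideal.map_quotient_self, Ideal.map_bot]
    rw [h2, Ideal.mem_bot, IsLocalization.map_eq_zero_iff Q.primeCompl] at h1
    obtain ⟨⟨c, hc⟩, hcx⟩ := h1
    obtain ⟨s, rfl⟩ := Ideal.Quotient.mk_surjective c
    rw [← map_mul, Ideal.Quotient.eq_zero_iff_mem] at hcx
    have hs : s ∉ q.asIdeal := fun hs => hc (Ideal.mem_map_of_mem _ hs)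
    rw [Ideal.mem_comap]
    have h3 := Ideal.mem_map_of_mem (algebraMap B (Localization.AtPrime q.asIdeal)) hcx
    rw [map_mul] at h3
    exact (Ideal.unit_mul_mem_iff_mem _ (IsLocalization.map_units (Localization.AtPrime q.asIdeal)
      (⟨s, hs⟩ : q.asIdeal.primeCompl))).1 h3

end Groth.Agent.RigPts
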