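/-
A formal solution of a system which is unramified outside `V(I)` lies in the henselian base.

If `T` is a dense extension of the henselian pair `(R, I)` (think of the completion) and `σ : Tⁿ` is a zero
of polynomials `g k i` whose differentials at `σ` are `a k • δ`, for generators `a k` of `I`, then `σ ∈ Rⁿ`.
The proof is an induction on the number of generators, with the Newton lemma for a single element.
-/
import Groth.Agent.Hensel.System
import Groth.Agent.Hensel.Smooth
import Mathlib.RingTheory.Nakayama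

set_option autoImplicit false
set_option linter.style.haveILetI false
set_option backward.isDefEq.respectTransparency false

universe u

open MvPolynomial

noncomputable section

namespace Groth.Agent.RigPts

theorem taylor_mem {S : Type u} [CommRing S] {ι : Type} [Fintype ι] (g : MvPolynomial ι S) (p h : ι → S) :
    eval (p + h) g - eval p g - ∑ j, eval p (pderiv j g) * h j ∈ (Ideal.span (Set.range h)) ^ 2 := by
  classical
  induction g using MvPolynomial.induction_on with
  | C c => simp
  | add f g hf hg =>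
    have h2 := add_mem hf hg
    convert h2 using 1
    simp only [map_add, add_mul, Finset.sum_add_distrib]
    ring
  | mul_X f i hf =>
    have hlin : (∑ j, eval p (pderiv j f) * h j) ∈ Ideal.span (Set.range h) :=
      Ideal.sum_mem _ fun j _ => Ideal.mul_mem_left _ _ (Ideal.subset_span ⟨j, rfl⟩)
    have hi : h i ∈ Ideal.span (Set.range h) := Ideal.subset_span ⟨i, rfl⟩
    have h2 := add_mem (Ideal.mul_mem_right (p i + h i) _ hf)
      ((sq (Ideal.span (Set.range h))).symm ▸ Ideal.mul_mem_mul hlin hi :
        (∑ j, eval p (pderiv j f) * h j) * h i ∈ (Ideal.span (Set.range h)) ^ 2)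
    convert h2 using 1
    have e : (∑ j, eval p (pderiv j (f * X i)) * h j) = (∑ j, eval p (pderiv j f) * h j) * p i + eval p f * h i := by
      rw [Finset.sum_mul]
      simp only [pderiv_mul, pderiv_X, map_add, map_mul, eval_X, add_mul, Finset.sum_add_distrib]
      refine congrArg₂ (· + ·) (Finset.sum_congr rfl fun j _ => by ring) ?_
      rw [Finset.sum_eq_single i (fun b _ hb => by rw [Pi.single_eq_of_ne hb.symm]; simp) (by simp)]
      simp
    rw [e]
    simp only [map_mul, eval_X, Pi.add_apply]
    ring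

theorem eval_C_mul_sum {R : Type u} [CommRing R] {n : ℕ} (U : Fin n → R) (v : Fin n → R) :
    eval v (∑ j, C (U j) * X j) = ∑ j, U j * v j := by
  simp

/-- The Newton lemma: a zero in `T` of a system with differential `a • δ` comes from `R`. -/
theorem newton_range {R T : Type u} [CommRing R] [CommRing T] [Algebra R T] (H : Ideal R) [HenselianRing R H]
    (a : R) (ha : a ∈ H) (hjac : algebraMap R T a ∈ (⊥ : Ideal T).jacobson)
    (hdiv : ∀ (k : ℕ) (r : R), algebraMap R T r ∈ Ideal.span {algebraMap R T a ^ k} → r ∈ Ideal.span {a ^ k})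
    (htor : ∀ z : T, algebraMap R T a ^ 3 * z = 0 → algebraMap R T a * z = 0)
    {n : ℕ} (σ : Fin n → T) (g : Fin n → MvPolynomial (Fin n) R) (hzero : ∀ i, aeval σ (g i) = 0)
    (hd : ∀ i j, aeval σ (pderiv j (g i)) = if i = j then algebraMap R T a else 0)
    (x₀ : Fin n → R) (hx₀ : ∀ i, σ i - algebraMap R T (x₀ i) ∈ Ideal.span {algebraMap R T a ^ 3}) :
    ∀ i, σ i ∈ Set.range (algebraMap R T) := by
  classical
  have haev : ∀ (p : MvPolynomial (Fin n) R) (v : Fin n → T), aeval v p = eval v (map (algebraMap R T) p) :=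
    fun p v => by rw [eval_map]; rfl
  have happ : ∀ (p : MvPolynomial (Fin n) R) (x : Fin n → R),
      algebraMap R T (eval x p) = aeval (fun i => algebraMap R T (x i)) p := fun p x => by
    rw [haev]
    exact map_eval (algebraMap R T) x p
  have hclose : ∀ p : MvPolynomial (Fin n) R,
      aeval σ p - algebraMap R T (eval x₀ p) ∈ Ideal.span {algebraMap R T a ^ 3} := fun p => by
    rw [happ, haev, haev]
    exact Hensel.eval_sub_eval_mem _ hx₀
  have hu : ∀ i, eval x₀ (g i) ∈ Ideal.span {a ^ 3} := fun i => hdiv 3 _ <| by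
    have h := hclose (g i)
    rwa [hzero, zero_sub, neg_mem_iff] at h
  choose u hu using fun i => Ideal.mem_span_singleton'.1 (hu i)
  have hW : ∀ i j, eval x₀ (pderiv j (g i)) - (if i = j then a else 0) ∈ Ideal.span {a ^ 3} := fun i j =>
    hdiv 3 _ <| by
      have h := hclose (pderiv j (g i))
      rw [hd, ← neg_mem_iff, neg_sub] at h
      rwa [map_sub, apply_ite (algebraMap R T), map_zero]
  choose w hw using fun i j => Ideal.mem_span_singleton'.1 (hW i j)
  let U : Fin n → Fin n → R := fun i j => (if i = j then 1 else 0) + a ^ 2 * w i j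
  have hU : ∀ i j, eval x₀ (pderiv j (g i)) = a * U i j := fun i j => by
    have h := hw i j
    rw [eq_sub_iff_add_eq] at h
    rw [← h]
    dsimp only [U]
    split_ifs <;> ring
  -- the quadratic remainder
  have hQ : ∀ i, ∃ Q : MvPolynomial (Fin n) R,
      aeval (fun j => C (x₀ j) + C (a ^ 2) * X j) (g i) =
        C (eval x₀ (g i)) + (∑ j, C (a * U i j) * (C (a ^ 2) * X j)) + C (a ^ 4) * Q := by
    intro i
    let S := MvPolynomial (Fin n) R
    let p : Fin n → S := fun j => C (x₀ j)
    let h : Fin n → S := fun j => C (a ^ 2) * X j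
    have ht := taylor_mem (map (algebraMap R S) (g i)) p h
    have hle : Ideal.span (Set.range h) ≤ Ideal.span {(C (a ^ 2) : S)} := Ideal.span_le.2 (by
      rintro _ ⟨j, rfl⟩
      exact Ideal.mul_mem_right _ _ (Ideal.mem_span_singleton_self _))
    have ht' := Ideal.pow_right_mono hle 2 ht
    rw [Ideal.span_singleton_pow, Ideal.mem_span_singleton'] at ht'
    obtain ⟨Q, hQ⟩ := ht'
    have he : ∀ q : MvPolynomial (Fin n) R, eval p (map (algebraMap R S) q) = C (eval x₀ q) := fun q =>
      (map_eval (algebraMap R S) x₀ q).symm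
    refine ⟨Q, ?_⟩
    rw [he, Finset.sum_congr rfl (fun j _ => by rw [pderiv_map, he, hU i j])] at hQ
    have e : aeval (fun j => C (x₀ j) + C (a ^ 2) * X j) (g i) = eval (p + h) (map (algebraMap R S) (g i)) := by
      rw [eval_map]
      rfl
    have e4 : (C (a ^ 2) : S) ^ 2 = C (a ^ 4) := by rw [← map_pow, ← pow_mul]
    rw [e4] at hQ
    rw [e]
    linear_combination -hQ
  choose Q hQ using hQ
  let F : Fin n → MvPolynomial (Fin n) R := fun i => C (u i) + (∑ j, C (U i j) * X j) + C a * Q i
  let y₀ : Fin n → R := fun j => -u j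
  have hquot : Ideal.Quotient.mk H a = 0 := Ideal.Quotient.eq_zero_iff_mem.2 ha
  have hF : ∀ i, eval y₀ (F i) ∈ H := fun i => by
    rw [← Ideal.Quotient.eq_zero_iff_mem]
    simp only [F, U, map_add, map_mul, eval_C, eval_C_mul_sum, map_sum, hquot, map_pow]
    simp [y₀, hquot]
  have hdet : IsUnit (Ideal.Quotient.mk H (eval y₀ (Hensel.jacDet F))) := by
    have hone : ((Ideal.Quotient.mk H).comp (eval y₀)).mapMatrix (Matrix.of fun i j => pderiv i (F j)) = 1 := by
      refine Matrix.ext fun i j => ?_
      simp only [RingHom.mapMatrix_apply, Matrix.map_apply, Matrix.of_apply, RingHom.comp_apply, F, map_add,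
        map_sum, pderiv_C, pderiv_C_mul, pderiv_X, map_mul, eval_C, map_zero, hquot]
      rw [Finset.sum_eq_single i (fun b _ hb => by rw [Pi.single_eq_of_ne hb]; simp) (by simp)]
      rcases eq_or_ne i j with rfl | hij
      · simp [U, hquot]
      · simp [U, hquot, Matrix.one_apply_ne hij, Ne.symm hij]
    rw [Hensel.jacDet, ← RingHom.comp_apply, RingHom.map_det, hone, Matrix.det_one]
    exact isUnit_one
  obtain ⟨y, ⟨hy, -⟩, -⟩ := Hensel.existsUnique_root_system F y₀ hF hdet
  let x : Fin n → R := fun j => x₀ j + a ^ 2 * y j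
  have hx : ∀ i, eval x (g i) = 0 := fun i => by
    have h1 : eval y (aeval (fun j => C (x₀ j) + C (a ^ 2) * X j) (g i)) = eval x (g i) := by
      have h2 := congrArg (fun φ : MvPolynomial (Fin n) R →ₐ[R] R => φ (g i))
        (comp_aeval (R := R) (f := fun j => C (x₀ j) + C (a ^ 2) * X j) (aeval y))
      simp only [AlgHom.comp_apply] at h2
      rw [← aeval_eq_eval, ← aeval_eq_eval]
      refine h2.trans ?_
      have e : (fun j => aeval y (C (x₀ j) + C (a ^ 2) * X j)) = x := funext fun j => by simp [x]
      rw [e]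
    rw [← h1, hQ i]
    have h3 := congrArg (fun r => a ^ 3 * r) (hy i)
    simp only [F, map_add, map_mul, eval_C, eval_C_mul_sum, mul_zero] at h3
    simp only [map_add, map_sum, map_mul, eval_C, eval_X, ← hu i]
    rw [← h3, mul_add, mul_add, Finset.mul_sum]
    ring_nf
  -- uniqueness in `T`
  let xT : Fin n → T := fun j => algebraMap R T (x j)
  let h : Fin n → T := fun j => xT j - σ j
  let L : Ideal T := Ideal.span (Set.range h)
  have hh : ∀ j, h j ∈ Ideal.span {algebraMap R T a ^ 2} := fun j => by
    have h1 : σ j - algebraMap R T (x₀ j) ∈ Ideal.span {algebraMap R T a ^ 2} :=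
      Ideal.span_singleton_le_span_singleton.2 (pow_dvd_pow _ (by norm_num)) (hx₀ j)
    have h2 : algebraMap R T a ^ 2 * algebraMap R T (y j) ∈ Ideal.span {algebraMap R T a ^ 2} :=
      Ideal.mul_mem_right _ _ (Ideal.mem_span_singleton_self _)
    have h3 := sub_mem h2 h1
    convert h3 using 1
    simp only [h, xT, x, map_add, map_mul, map_pow]
    ring
  have hquad : ∀ i, algebraMap R T a * h i ∈ L ^ 2 := fun i => by
    have ht := taylor_mem (map (algebraMap R T) (g i)) σ h
    have e : σ + h = xT := funext fun j => by simp [h]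
    rw [e, ← haev, ← haev, ← happ, hx, hzero, map_zero, sub_zero, zero_sub, neg_mem_iff] at ht
    rw [Finset.sum_congr rfl (fun j _ => by rw [pderiv_map, ← haev, hd i j]),
      Finset.sum_eq_single i (fun b _ hb => by rw [if_neg hb.symm, zero_mul]) (by simp)] at ht
    simpa using ht
  let L' : Ideal T := Ideal.span {algebraMap R T a} * L
  have hL2 : L ^ 2 ≤ Ideal.span {algebraMap R T a} • L' := by
    rw [sq L, smul_eq_mul, show L' = Ideal.span {algebraMap R T a} * L from rfl, ← mul_assoc]
    refine Ideal.mul_mono_left (Ideal.span_le.2 ?_)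
    rintro _ ⟨j, rfl⟩
    rw [Ideal.span_singleton_mul_span_singleton, ← sq]
    exact hh j
  have hL' : L' = ⊥ := by
    refine Submodule.eq_bot_of_le_smul_of_le_jacobson_bot (Ideal.span {algebraMap R T a}) L' ?_ ?_
      (Ideal.span_le.2 (by simpa using hjac))
    · exact Ideal.FG.mul ⟨{algebraMap R T a}, by simp⟩ (Submodule.fg_span (Set.finite_range h))
    · refine le_trans ?_ hL2
      rw [Ideal.span_singleton_mul_le_iff]
      intro z hz
      refine (Submodule.span_le (p := Submodule.comap (LinearMap.mulLeft T (algebraMap R T a)) (L ^ 2))).2 ?_ hz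
      rintro _ ⟨j, rfl⟩
      exact hquad j
  intro i
  refine ⟨x i, sub_eq_zero.1 ?_⟩
  obtain ⟨z, hz⟩ := Ideal.mem_span_singleton'.1 (hh i)
  have h0 : algebraMap R T a * h i = 0 := by
    have hm : algebraMap R T a * h i ∈ L' :=
      Ideal.mul_mem_mul (Ideal.mem_span_singleton_self _) (Ideal.subset_span ⟨i, rfl⟩)
    rwa [hL'] at hm
  have h1 := htor z (by rw [← h0, ← hz]; ring)
  show h i = 0
  rw [← hz, show z * algebraMap R T a ^ 2 = algebraMap R T a * z * algebraMap R T a by ring, h1, zero_mul]

theorem exists_torsion_bound {T : Type u} [CommRing T] [IsNoetherianRing T] (t : T) :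
    ∃ c : ℕ, 1 ≤ c ∧ ∀ z : T, (t ^ c) ^ 3 * z = 0 → t ^ c * z = 0 := by
  let f : ℕ →o Ideal T := ⟨fun k => Submodule.comap (LinearMap.mulLeft T (t ^ k)) (⊥ : Ideal T), fun k l hkl z hz => by
    simp only [Submodule.mem_comap, LinearMap.mulLeft_apply, Submodule.mem_bot] at hz ⊢
    rw [← Nat.sub_add_cancel hkl, pow_add, mul_assoc, hz, mul_zero]⟩
  obtain ⟨c, hc⟩ := monotone_stabilizes_iff_noetherian.2 (inferInstance : IsNoetherian T T) f
  refine ⟨c + 1, Nat.succ_pos c, fun z hz => ?_⟩
  have h3 : z ∈ f ((c + 1) * 3) := by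
    show z ∈ Submodule.comap (LinearMap.mulLeft T (t ^ ((c + 1) * 3))) (⊥ : Ideal T)
    rwa [Submodule.mem_comap, LinearMap.mulLeft_apply, Submodule.mem_bot, pow_mul]
  rw [← hc _ (by omega), hc (c + 1) (by omega)] at h3
  simpa [f] using h3

/-- A zero in a dense extension `T` of a henselian pair of a system which is unramified away from `V(I)` comes
from the base. -/
theorem exists_descend {r n : ℕ} : ∀ {R T : Type u} [CommRing R] [CommRing T] [Algebra R T] [IsNoetherianRing T]
    (H : Ideal R) [HenselianRing R H] (a : Fin r → R), (∀ k, a k ∈ H) →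
    (∀ k, algebraMap R T (a k) ∈ (⊥ : Ideal T).jacobson) →
    (∀ K : Ideal R, ∀ x, algebraMap R T x ∈ K.map (algebraMap R T) → x ∈ K) →
    (∀ (y : T) (N : ℕ), ∃ x : R, y - algebraMap R T x ∈ ((Ideal.span (Set.range a)) ^ N).map (algebraMap R T)) →
    ∀ (σ : Fin n → T) (g : Fin r → Fin n → MvPolynomial (Fin n) R),
    (∀ k i, aeval σ (g k i) = 0) →
    (∀ k i j, aeval σ (pderiv j (g k i)) = if i = j then algebraMap R T (a k) else 0) →
    ∀ i, σ i ∈ Set.range (algebraMap R T) := by
  induction r with
  | zero =>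
    intro R T _ _ _ _ H _ a _ _ _ hdense σ g _ _ i
    obtain ⟨x, hx⟩ := hdense (σ i) 1
    rw [pow_one, Set.range_eq_empty a, Ideal.span_empty, Ideal.map_bot, Ideal.mem_bot, sub_eq_zero] at hx
    exact ⟨x, hx.symm⟩
  | succ r ih =>
    intro R T _ _ _ _ H _ a ha hjac hcomap hdense σ g hzero hd
    classical
    obtain ⟨c, hc1, hc⟩ := exists_torsion_bound (algebraMap R T (a 0))
    let A : R := a 0 ^ c
    let g₀ : Fin n → MvPolynomial (Fin n) R := fun i => C (a 0 ^ (c - 1)) * g 0 i
    have hA : algebraMap R T A = algebraMap R T (a 0) ^ c := map_pow _ _ _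
    -- the inductive step modulo `A ^ 3`
    let K : Ideal R := Ideal.span {A ^ 3}
    let K' : Ideal T := K.map (algebraMap R T)
    letI : Algebra (R ⧸ K) (T ⧸ K') := (Ideal.quotientMap K' (algebraMap R T) Ideal.le_comap_map).toAlgebra
    have hcompat : ∀ x, algebraMap (R ⧸ K) (T ⧸ K') (Ideal.Quotient.mk K x) = Ideal.Quotient.mk K' (algebraMap R T x) :=
      fun x => rfl
    haveI : HenselianRing (R ⧸ K) (H.map (Ideal.Quotient.mk K)) := by
      have h := Hensel.henselianRing_integral R H (R ⧸ K)
      rwa [Ideal.Quotient.algebraMap_eq] at h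
    have hmapmap : ∀ K₁ : Ideal R, (K₁.map (Ideal.Quotient.mk K)).map (algebraMap (R ⧸ K) (T ⧸ K')) =
        (K₁.map (algebraMap R T)).map (Ideal.Quotient.mk K') := fun K₁ => by
      rw [Ideal.map_map, Ideal.map_map]
      rfl
    let a' : Fin r → R := fun k => a k.succ
    have hgmap : ∀ p : MvPolynomial (Fin n) R,
        aeval (fun i => Ideal.Quotient.mk K' (σ i)) (map (Ideal.Quotient.mk K) p) = Ideal.Quotient.mk K' (aeval σ p) := by
      intro p
      induction p using MvPolynomial.induction_on with
      | C x => simp [hcompat]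
      | add p q hp hq => simp [hp, hq]
      | mul_X p i hp => simp [hp]
    have step := ih (R := R ⧸ K) (T := T ⧸ K') (H.map (Ideal.Quotient.mk K)) (fun k => Ideal.Quotient.mk K (a' k))
      (fun k => Ideal.mem_map_of_mem _ (ha _)) (fun k => ?_) (fun K₁ x hx => ?_) (fun y N => ?_)
      (fun i => Ideal.Quotient.mk K' (σ i)) (fun k i => map (Ideal.Quotient.mk K) (g k.succ i))
      (fun k i => by rw [hgmap, hzero, map_zero])
      (fun k i j => by rw [pderiv_map, hgmap, hd, apply_ite (Ideal.Quotient.mk K'), map_zero, hcompat])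
    · have hx₀ : ∀ i, ∃ x : R, σ i - algebraMap R T x ∈ K' := fun i => by
        obtain ⟨x', hx'⟩ := step i
        obtain ⟨x, rfl⟩ := Ideal.Quotient.mk_surjective x'
        exact ⟨x, Ideal.Quotient.eq.1 (hx'.symm.trans (hcompat x))⟩
      choose x₀ hx₀ using hx₀
      refine newton_range H A (Ideal.pow_mem_of_mem H (ha 0) c hc1) ?_ (fun k x hx => hcomap _ x ?_) ?_ σ g₀
        (fun i => by simp [g₀, hzero]) (fun i j => ?_) x₀ (fun i => ?_)
      · rw [hA]
        exact Ideal.pow_mem_of_mem _ (hjac 0) c hc1
      · rwa [Ideal.map_span, Set.image_singleton, map_pow]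
      · rw [hA]
        exact hc
      · simp only [g₀, pderiv_C_mul, map_mul, aeval_C, hd, mul_ite, mul_zero]
        rw [hA, map_pow, ← pow_succ, Nat.sub_add_cancel hc1]
      · have h := hx₀ i
        rwa [show K' = Ideal.span {algebraMap R T A ^ 3} by
          show (Ideal.span {A ^ 3}).map _ = _
          rw [Ideal.map_span, Set.image_singleton, map_pow]] at h
    · rw [hcompat]
      refine Ideal.mem_jacobson_bot.2 fun z => ?_
      obtain ⟨w, rfl⟩ := Ideal.Quotient.mk_surjective z
      have h := (Ideal.mem_jacobson_bot.1 (hjac k.succ) w).map (Ideal.Quotient.mk K')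
      simpa [a'] using h
    · obtain ⟨x, rfl⟩ := Ideal.Quotient.mk_surjective x
      rw [← Ideal.map_comap_of_surjective _ Ideal.Quotient.mk_surjective K₁, hmapmap, hcompat] at hx
      obtain ⟨t, ht, htx⟩ := (Ideal.mem_map_iff_of_surjective _ Ideal.Quotient.mk_surjective).1 hx
      have hmem := sub_mem (Ideal.mem_sup_left ht : t ∈ (K₁.comap (Ideal.Quotient.mk K)).map (algebraMap R T) ⊔ K')
        (Ideal.mem_sup_right (Ideal.Quotient.eq.1 htx))
      rw [sub_sub_cancel, ← Ideal.map_sup] at hmem
      have h := hcomap _ x hmem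
      obtain ⟨p, hp, q, hq, rfl⟩ := Submodule.mem_sup.1 h
      rw [map_add, Ideal.Quotient.eq_zero_iff_mem.2 hq, add_zero]
      exact hp
    · obtain ⟨w, rfl⟩ := Ideal.Quotient.mk_surjective y
      obtain ⟨x, hx⟩ := hdense w (3 * c + N)
      refine ⟨Ideal.Quotient.mk K x, ?_⟩
      have hle : (Ideal.span (Set.range a)) ^ (3 * c + N) ≤ K ⊔ (Ideal.span (Set.range a')) ^ N := by
        have hspan : Ideal.span (Set.range a) ≤ Ideal.span {a 0} ⊔ Ideal.span (Set.range a') := by
          rw [Ideal.span_le]
          rintro _ ⟨k, rfl⟩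
          cases k using Fin.cases with
          | zero => exact Ideal.mem_sup_left (Ideal.mem_span_singleton_self _)
          | succ k => exact Ideal.mem_sup_right (Ideal.subset_span ⟨k, rfl⟩)
        refine ((Ideal.pow_right_mono hspan _).trans Ideal.sup_pow_add_le_pow_sup_pow).trans ?_
        refine sup_le_sup_right (le_of_eq ?_) _
        rw [Ideal.span_singleton_pow, mul_comm, pow_mul]
      have h2 := Ideal.mem_map_of_mem (Ideal.Quotient.mk K') (Ideal.map_mono hle hx)
      rw [Ideal.map_sup, Ideal.map_sup, Ideal.map_quotient_self, bot_sup_eq, ← hmapmap, Ideal.map_pow, Ideal.map_span,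
        ← Set.range_comp, map_sub, ← hcompat] at h2
      exact h2

end Groth.Agent.RigPts
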