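/-
Homomorphisms of finite modules commute with flat base change; descent of elements.
-/
import Mathlib.RingTheory.TensorProduct.IsBaseChangeHom
import Mathlib.RingTheory.Flat.Basic
import Mathlib.RingTheory.Flat.FaithfullyFlat.Algebra
import Mathlib.RingTheory.Noetherian.Basic
import Mathlib.LinearAlgebra.TensorProduct.Quotient
import Mathlib.Algebra.Module.Torsion.Basic

set_option autoImplicit false
set_option linter.style.haveILetI false
set_option backward.isDefEq.respectTransparency false

universe u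

open scoped TensorProduct

noncomputable section

namespace Groth.Agent.RigPts

variable {R : Type u} [CommRing R] (S : Type u) [CommRing S] [Algebra R S]

/-- `S ⊗ Hom(N, M) → Hom(N, S ⊗ M)`. -/
def homBC (N M : Type u) [AddCommGroup N] [Module R N] [AddCommGroup M] [Module R M] :
    S ⊗[R] (N →ₗ[R] M) →ₗ[S] (N →ₗ[R] S ⊗[R] M) :=
  IsBaseChange.linearMapRightBaseChangeHom S N (TensorProduct.mk R S M 1)

variable {S}

theorem homBC_tmul {N M : Type u} [AddCommGroup N] [Module R N] [AddCommGroup M] [Module R M]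
    (s : S) (f : N →ₗ[R] M) (x : N) : homBC S N M (s ⊗ₜ f) x = s ⊗ₜ f x := by
  show s • ((1 : S) ⊗ₜ[R] f x) = _
  rw [TensorProduct.smul_tmul', smul_eq_mul, mul_one]

theorem homBC_natural {N N' M : Type u} [AddCommGroup N] [Module R N] [AddCommGroup N'] [Module R N']
    [AddCommGroup M] [Module R M] (g : N' →ₗ[R] N) (z : S ⊗[R] (N →ₗ[R] M)) :
    homBC S N' M ((LinearMap.lcomp R M g).lTensor S z) = (homBC (R := R) S N M z).comp g := by
  induction z using TensorProduct.induction_on with
  | zero =>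
    rw [map_zero, map_zero, map_zero]
    exact (LinearMap.zero_comp g).symm
  | add a b ha hb =>
    rw [map_add, map_add, map_add, ha, hb]
    exact (LinearMap.add_comp _ _ _).symm
  | tmul s f =>
    rw [LinearMap.lTensor_tmul]
    exact LinearMap.ext fun x => (homBC_tmul s _ x).trans (homBC_tmul s f (g x)).symm

theorem homBC_bijective_free (m : ℕ) (M : Type u) [AddCommGroup M] [Module R M] :
    Function.Bijective (homBC (R := R) S (Fin m → R) M) :=
  (IsBaseChange.linearMapRightBaseChangeEquiv (Fin m → R) (TensorProduct.isBaseChange R M S)).bijective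

theorem homBC_injective [Module.Flat R S] (N M : Type u) [AddCommGroup N] [Module R N] [Module.Finite R N]
    [AddCommGroup M] [Module R M] : Function.Injective (homBC (R := R) S N M) := by
  obtain ⟨m, π, hπ⟩ := Module.Finite.exists_fin' R N
  have hi : Function.Injective (LinearMap.lcomp R M π) := fun f g h =>
    LinearMap.ext fun x => by
      obtain ⟨y, rfl⟩ := hπ x
      exact LinearMap.congr_fun h y
  intro z w hzw
  refine Module.Flat.lTensor_preserves_injective_linearMap (M := S) _ hi ((homBC_bijective_free (R := R) (S := S) m M).1 ?_)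
  rw [homBC_natural, homBC_natural, hzw]

theorem homBC_surjective [IsNoetherianRing R] [Module.Flat R S] (N M : Type u) [AddCommGroup N] [Module R N]
    [Module.Finite R N] [AddCommGroup M] [Module R M] : Function.Surjective (homBC (R := R) S N M) := by
  obtain ⟨m, π, hπ⟩ := Module.Finite.exists_fin' R N
  obtain ⟨k, ρ, hρ⟩ := Module.Finite.exists_fin' R (LinearMap.ker π)
  let ρ' : (Fin k → R) →ₗ[R] (Fin m → R) := (LinearMap.ker π).subtype.comp ρ
  have hex : Function.Exact ρ' π := LinearMap.exact_iff.2 (by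
    rw [LinearMap.range_comp, LinearMap.range_eq_top.2 hρ, Submodule.map_top, Submodule.range_subtype])
  have hexH : Function.Exact (LinearMap.lcomp R M π) (LinearMap.lcomp R M ρ') :=
    fun f => ⟨fun hf => by
      have hker : LinearMap.ker π ≤ LinearMap.ker f := fun y hy => by
        obtain ⟨v, rfl⟩ := (hex y).1 hy
        exact LinearMap.congr_fun hf v
      refine ⟨(Submodule.liftQ _ f hker).comp (π.quotKerEquivOfSurjective hπ).symm.toLinearMap, LinearMap.ext fun y => ?_⟩
      show Submodule.liftQ _ f hker ((π.quotKerEquivOfSurjective hπ).symm (π y)) = f y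
      rw [show (π.quotKerEquivOfSurjective hπ).symm (π y) = Submodule.Quotient.mk y from
        (LinearEquiv.symm_apply_eq _).2 rfl]
      rfl, by
      rintro ⟨g, rfl⟩
      exact LinearMap.ext fun v => by
        show g (π (ρ' v)) = 0
        rw [hex.apply_apply_eq_zero, map_zero]⟩
  intro g
  obtain ⟨z, hz⟩ := (homBC_bijective_free (R := R) (S := S) m M).2 (g.comp π)
  have hz0 : (LinearMap.lcomp R M ρ').lTensor S z = 0 := (homBC_bijective_free (R := R) (S := S) k M).1 (by
    rw [homBC_natural, hz, map_zero]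
    exact LinearMap.ext fun y => by
      show g (π (ρ' y)) = 0
      rw [hex.apply_apply_eq_zero, map_zero])
  obtain ⟨w, hw⟩ := (Module.Flat.lTensor_exact (M := S) hexH z).1 hz0
  refine ⟨w, LinearMap.ext fun x => ?_⟩
  obtain ⟨y, rfl⟩ := hπ x
  have h := homBC_natural (M := M) π w
  rw [hw, hz] at h
  exact (LinearMap.congr_fun h y).symm

/-- An element which vanishes in the base change vanishes, if its annihilator contracts from `S`. -/
theorem eq_zero_of_one_tmul_eq_zero [Module.Flat R S] {Z : Type u} [AddCommGroup Z] [Module R Z] (z : Z)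
    (h : ((Ideal.torsionOf R Z z).map (algebraMap R S)).comap (algebraMap R S) = Ideal.torsionOf R Z z)
    (h0 : (1 : S) ⊗ₜ[R] z = 0) : z = 0 := by
  let g : (R ⧸ Ideal.torsionOf R Z z) →ₗ[R] Z :=
    Submodule.liftQ _ (LinearMap.toSpanSingleton R Z z) (le_of_eq rfl)
  have hg : Function.Injective g := LinearMap.ker_eq_bot.1 (Submodule.ker_liftQ_eq_bot _ _ _ le_rfl)
  have h1 : (1 : S) ⊗ₜ[R] (Submodule.Quotient.mk (1 : R) : R ⧸ Ideal.torsionOf R Z z) = 0 := by
    refine Module.Flat.lTensor_preserves_injective_linearMap (M := S) g hg ?_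
    rw [LinearMap.lTensor_tmul, map_zero]
    exact (congrArg ((1 : S) ⊗ₜ[R] ·) (one_smul R z)).trans h0
  have h2 := congrArg (TensorProduct.tensorQuotEquivQuotSMul S (Ideal.torsionOf R Z z)) h1
  rw [map_zero] at h2
  erw [TensorProduct.tensorQuotEquivQuotSMul_tmul_mk] at h2
  rw [one_smul, Submodule.Quotient.mk_eq_zero, Ideal.smul_top_eq_map, Submodule.restrictScalars_mem] at h2
  have h3 : (1 : R) ∈ Ideal.torsionOf R Z z := by
    rw [← h, Ideal.mem_comap, map_one]
    exact h2
  simpa using h3

/-- Contraction of an ideal along a flat map hitting all primes above it. -/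
theorem comap_map_of_flat [Module.Flat R S] (c : Ideal R)
    (h : ∀ p : Ideal R, p.IsPrime → c ≤ p → ∃ q : Ideal S, q.IsPrime ∧ q.comap (algebraMap R S) = p) :
    (c.map (algebraMap R S)).comap (algebraMap R S) = c := by
  haveI : Module.Flat (R ⧸ c) ((R ⧸ c) ⊗[R] S) := inferInstance
  haveI : Module.FaithfullyFlat (R ⧸ c) ((R ⧸ c) ⊗[R] S) := by
    refine Module.FaithfullyFlat.of_comap_surjective fun p => ?_
    obtain ⟨q, hq, hqp⟩ := h (p.asIdeal.comap (Ideal.Quotient.mk c)) inferInstance (fun x hx => by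
      rw [Ideal.mem_comap, Ideal.Quotient.eq_zero_iff_mem.2 hx]
      exact zero_mem _)
    have hle : c.map (algebraMap R S) ≤ q := Ideal.map_le_iff_le_comap.2 (by
      rw [hqp]
      intro x hx
      rw [Ideal.mem_comap, Ideal.Quotient.eq_zero_iff_mem.2 hx]
      exact zero_mem _)
    let F : (R ⧸ c) ⊗[R] S →ₐ[R] S ⧸ c.map (algebraMap R S) :=
      Algebra.TensorProduct.lift
        (Ideal.Quotient.liftₐ c ((Ideal.Quotient.mkₐ R (c.map (algebraMap R S))).comp (Algebra.ofId R S))
          fun x hx => Ideal.Quotient.eq_zero_iff_mem.2 (Ideal.mem_map_of_mem _ hx))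
        (Ideal.Quotient.mkₐ R _) fun _ _ => Commute.all _ _
    haveI : (q.map (Ideal.Quotient.mk (c.map (algebraMap R S)))).IsPrime :=
      Ideal.map_isPrime_of_surjective Ideal.Quotient.mk_surjective (by rwa [Ideal.mk_ker])
    refine ⟨⟨(q.map (Ideal.Quotient.mk (c.map (algebraMap R S)))).comap F, inferInstance⟩, ?_⟩
    refine PrimeSpectrum.ext (Ideal.comap_injective_of_surjective _ Ideal.Quotient.mk_surjective ?_)
    refine (Ideal.ext fun x => ?_).trans hqp
    show F (algebraMap (R ⧸ c) ((R ⧸ c) ⊗[R] S) (Ideal.Quotient.mk c x)) ∈ q.map (Ideal.Quotient.mk (c.map (algebraMap R S))) ↔ algebraMap R S x ∈ q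
    have e : F (algebraMap (R ⧸ c) ((R ⧸ c) ⊗[R] S) (Ideal.Quotient.mk c x)) =
        Ideal.Quotient.mk (c.map (algebraMap R S)) (algebraMap R S x) := F.commutes x
    rw [e, Ideal.mem_map_iff_of_surjective _ Ideal.Quotient.mk_surjective]
    refine ⟨fun ⟨y, hy, hxy⟩ => ?_, fun hx => ⟨_, hx, rfl⟩⟩
    have := sub_mem hy (hle (Ideal.Quotient.eq.1 hxy))
    rwa [sub_sub_cancel] at this
  refine le_antisymm (fun x hx => ?_) Ideal.le_comap_map
  rw [← Ideal.Quotient.eq_zero_iff_mem]
  refine (FaithfulSMul.algebraMap_injective (R ⧸ c) ((R ⧸ c) ⊗[R] S)) ?_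
  rw [map_zero, ← Ideal.Quotient.algebraMap_eq, ← IsScalarTower.algebraMap_apply,
    Algebra.TensorProduct.algebraMap_apply' ]
  have hle : c.map (algebraMap R S) ≤
      RingHom.ker (Algebra.TensorProduct.includeRight : S →ₐ[R] (R ⧸ c) ⊗[R] S) := by
    rw [Ideal.map_le_iff_le_comap]
    intro y hy
    rw [Ideal.mem_comap, RingHom.mem_ker, AlgHom.commutes, Algebra.TensorProduct.algebraMap_apply,
      Ideal.Quotient.algebraMap_eq, Ideal.Quotient.eq_zero_iff_mem.2 hy, TensorProduct.zero_tmul]
  exact hle hx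

/-- An ideal containing `N` and a power of `I` : every element of the base change is constant modulo it. -/
theorem exists_one_tmul {Z : Type u} [AddCommGroup Z] [Module R Z] (c : Ideal R)
    (hc : ∀ s : S, ∃ r : R, s - algebraMap R S r ∈ c.map (algebraMap R S))
    (hZ : ∀ r ∈ c, ∀ z : Z, r • z = 0) (w : S ⊗[R] Z) : ∃ z : Z, w = (1 : S) ⊗ₜ z := by
  have hkill : ∀ s ∈ c.map (algebraMap R S), ∀ z : Z, s ⊗ₜ[R] z = 0 := by
    intro s hs
    refine Submodule.span_induction (p := fun s _ => ∀ z : Z, s ⊗ₜ[R] z = 0) ?_ ?_ ?_ ?_ hs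
    · rintro _ ⟨r, hr, rfl⟩ z
      rw [Algebra.algebraMap_eq_smul_one, TensorProduct.smul_tmul, hZ r hr, TensorProduct.tmul_zero]
    · exact fun z => TensorProduct.zero_tmul _ _
    · intro a b _ _ ha hb z
      rw [TensorProduct.add_tmul, ha, hb, add_zero]
    · intro t a _ ha z
      have h1 : (t • a) ⊗ₜ[R] z = t • (a ⊗ₜ[R] z) := (TensorProduct.smul_tmul' t a z).symm
      rw [h1, ha, smul_zero]
  induction w using TensorProduct.induction_on with
  | zero => exact ⟨0, (TensorProduct.tmul_zero _ _).symm⟩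
  | add a b ha hb =>
    obtain ⟨x, rfl⟩ := ha
    obtain ⟨y, rfl⟩ := hb
    exact ⟨x + y, (TensorProduct.tmul_add _ _ _).symm⟩
  | tmul s z =>
    obtain ⟨r, hr⟩ := hc s
    refine ⟨r • z, ?_⟩
    have h := hkill _ hr z
    rw [TensorProduct.sub_tmul, sub_eq_zero] at h
    rw [h, Algebra.algebraMap_eq_smul_one, TensorProduct.smul_tmul]

end Groth.Agent.RigPts
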