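/-
Descending a deformation along a flat map which is an isomorphism on `V(a)`: the linear algebra.

`R` is a square zero thickening (by `N`) with a sub-ideal `M₀` of "constants" and a differential
`d : N → (R/N)ⁿ` whose kernel and cokernel are, modulo `M₀`, killed by the `a k`.
-/
import Groth.Agent.RigPts.HomBC
import Mathlib.LinearAlgebra.TensorProduct.Pi
import Mathlib.LinearAlgebra.TensorProduct.RightExactness

set_option autoImplicit false
set_option linter.style.haveILetI false
set_option backward.isDefEq.respectTransparency false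

universe u

open scoped TensorProduct

noncomputable section

namespace Groth.Agent.RigPts

theorem exists_descent_ideal {R R' C : Type u} [CommRing R] [IsNoetherianRing R] [CommRing R'] [CommRing C]
    [Algebra R R'] [Algebra R C] [Module.Flat R R'] (φ : R' →ₐ[R] C)
    (N M₀ : Ideal R) (hNN : N * N = ⊥) (hM₀ : M₀ ≤ N)
    (hφN : ∀ x ∈ N, algebraMap R C x ∈ φ '' (M₀.map (algebraMap R R') : Set R'))
    {r n : ℕ} (a : Fin r → R) (d : N →ₗ[R] (Fin n → R ⧸ N))
    (hd₀ : ∀ x : N, (x : R) ∈ M₀ → d x = 0)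
    (hker : ∀ (k : Fin r) (x : N), d x = 0 → a k * (x : R) ∈ M₀)
    (hw : ∀ (k : Fin r) (i : Fin n), ∃ w : N, d w = a k • (Pi.single i 1 : Fin n → R ⧸ N))
    (htor : ∀ (k : Fin r), ∀ z ∈ M₀.map (algebraMap R R'), φ z = 0 → algebraMap R R' (a k) * z = 0)
    (hsurj : ∀ c : Ideal R, N ≤ c → Ideal.span (Set.range a) ≤ c.radical →
      ∀ s : R', ∃ x : R, s - algebraMap R R' x ∈ c.map (algebraMap R R'))
    (hprime : ∀ p : Ideal R, p.IsPrime → N ≤ p → Ideal.span (Set.range a) ≤ p →
      ∃ q : Ideal R', q.IsPrime ∧ q.comap (algebraMap R R') = p) :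
    ∃ (𝔟 : Ideal R) (t : Fin n → C), 𝔟 ≤ N ∧ 𝔟 ⊔ M₀ = N ∧
      (∀ k, ∀ x ∈ 𝔟 ⊓ M₀, a k * x = 0) ∧
      (∀ i, t i ∈ φ '' (M₀.map (algebraMap R R') : Set R')) ∧
      (∀ z ∈ M₀.map (algebraMap R R'), φ z = 0 → z ∈ 𝔟.map (algebraMap R R')) ∧
      ∀ x : N, (x : R) ∈ 𝔟 → ∀ u : Fin n → R, (∀ i, d x i = Ideal.Quotient.mk N (u i)) →
        algebraMap R C x + ∑ i, algebraMap R C (u i) * t i = 0 := by
  classical
  have hmul : ∀ x ∈ N, ∀ y ∈ N, x * y = 0 := fun x hx y hy => by
    have h := Ideal.mul_mem_mul hx hy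
    rwa [hNN, Ideal.mem_bot] at h
  -- the base change of `M₀`
  let μ₀ : R' ⊗[R] M₀ →ₗ[R] R' :=
    (TensorProduct.rid R R').toLinearMap.comp ((M₀.subtype).lTensor R')
  have hμ₀ : ∀ (s : R') (m : M₀), μ₀ (s ⊗ₜ m) = s * algebraMap R R' m := fun s m => by
    show TensorProduct.rid R R' (s ⊗ₜ (m : R)) = _
    rw [TensorProduct.rid_tmul, Algebra.smul_def, mul_comm]
  have hμ₀inj : Function.Injective μ₀ :=
    (TensorProduct.rid R R').injective.comp (Module.Flat.lTensor_preserves_injective_linearMap _ Subtype.val_injective)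
  have hμ₀range : ∀ z ∈ M₀.map (algebraMap R R'), ∃ w, μ₀ w = z := by
    intro z hz
    refine Submodule.span_induction (p := fun z _ => ∃ w, μ₀ w = z) ?_ ?_ ?_ ?_ hz
    · rintro _ ⟨m, hm, rfl⟩
      exact ⟨1 ⊗ₜ ⟨m, hm⟩, by rw [hμ₀, one_mul]⟩
    · exact ⟨0, map_zero _⟩
    · rintro x y _ _ ⟨v, rfl⟩ ⟨w, rfl⟩
      exact ⟨v + w, map_add _ _ _⟩
    · rintro s x _ ⟨v, rfl⟩
      have aux : ∀ v, ∃ v', μ₀ v' = s * μ₀ v := fun v => by
        induction v using TensorProduct.induction_on with
        | zero => exact ⟨0, by rw [map_zero, mul_zero]⟩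
        | tmul s' m => exact ⟨(s * s') ⊗ₜ m, by rw [hμ₀, hμ₀, mul_assoc]⟩
        | add v w hv hw =>
          obtain ⟨v', hv'⟩ := hv
          obtain ⟨w', hw'⟩ := hw
          exact ⟨v' + w', by rw [map_add, map_add, hv', hw', mul_add]⟩
      exact aux v
  -- the torsion part killed in `C`
  let T : Submodule R M₀ :=
    { carrier := {m | ∀ k, a k * (m : R) = 0}
      add_mem' := fun {x y} hx hy k => by simp [mul_add, hx k, hy k]
      zero_mem' := fun k => by simp
      smul_mem' := fun c x hx k => by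
        show a k * (c * (x : R)) = 0
        rw [mul_left_comm, hx k, mul_zero] }
  let K₀ : Submodule R M₀ := T ⊓ LinearMap.ker ((Algebra.linearMap R C).comp M₀.subtype)
  have hclaim : ∀ z ∈ M₀.map (algebraMap R R'), φ z = 0 → ∃ m ∈ K₀, algebraMap R R' (m : R) = z := by
    intro z hz hφz
    obtain ⟨w, rfl⟩ := hμ₀range z hz
    let f : M₀ →ₗ[R] (Fin r → M₀) := LinearMap.pi fun k => a k • LinearMap.id
    have hex : Function.Exact T.subtype f := fun m => by
      refine ⟨fun hm => ⟨⟨m, fun k => congrArg Subtype.val (congrFun hm k)⟩, rfl⟩, ?_⟩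
      rintro ⟨y, rfl⟩
      exact funext fun k => Subtype.ext (y.2 k)
    have hfw : f.lTensor R' w = 0 := by
      refine (TensorProduct.piRight R R R' fun _ : Fin r => M₀).injective ?_
      rw [map_zero]
      refine funext fun k => hμ₀inj ?_
      rw [Pi.zero_apply, map_zero]
      have e : ∀ v, μ₀ (TensorProduct.piRight R R R' (fun _ : Fin r => M₀) (f.lTensor R' v) k) = a k • μ₀ v := by
        intro v
        induction v using TensorProduct.induction_on with
        | zero => simp
        | tmul s m => simp [f, TensorProduct.piRight_apply, TensorProduct.tmul_smul, map_smul]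
        | add v w hv hw => simp only [map_add, Pi.add_apply, smul_add, hv, hw]
      rw [e, Algebra.smul_def]
      exact htor k _ hz hφz
    obtain ⟨v, rfl⟩ := (Module.Flat.lTensor_exact (M := R') hex w).1 hfw
    obtain ⟨y, rfl⟩ := exists_one_tmul (S := R') (N ⊔ Ideal.span (Set.range a))
      (hsurj _ le_sup_left (le_sup_right.trans Ideal.le_radical)) (fun x hx y => Subtype.ext (Subtype.ext (by
        obtain ⟨p, hp, q, hq, rfl⟩ := Submodule.mem_sup.1 hx
        show (p + q) * ((y : M₀) : R) = 0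
        rw [add_mul, hmul p hp _ (hM₀ (y : M₀).2), zero_add]
        refine Submodule.span_induction (p := fun q _ => q * ((y : M₀) : R) = 0) ?_ (zero_mul _) ?_ ?_ hq
        · rintro _ ⟨k, rfl⟩
          exact y.2 k
        · intro u v _ _ hu hv
          rw [add_mul, hu, hv, add_zero]
        · intro c u _ hu
          rw [smul_eq_mul, mul_assoc, hu, mul_zero]))) v
    have e : μ₀ (T.subtype.lTensor R' ((1 : R') ⊗ₜ y)) = algebraMap R R' ((y : M₀) : R) := by
      rw [LinearMap.lTensor_tmul, hμ₀, one_mul]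
      rfl
    refine ⟨(y : M₀), ⟨y.2, ?_⟩, e.symm⟩
    show algebraMap R C ((y : M₀) : R) = 0
    rw [← φ.commutes, ← e]
    exact hφz
  -- `M` and its embedding
  let M := M₀ ⧸ K₀
  let ι₀ : M₀ →ₗ[R] R' →ₗ[R] C := LinearMap.mk₂ R (fun m s => φ (s * algebraMap R R' (m : R)))
    (fun m m' s => by rw [Submodule.coe_add, map_add, mul_add, map_add])
    (fun c m s => by rw [Submodule.coe_smul, smul_eq_mul, map_mul (algebraMap R R'), mul_left_comm, ← Algebra.smul_def, map_smul])
    (fun m s s' => by rw [add_mul, map_add])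
    (fun c m s => by rw [Algebra.smul_mul_assoc, map_smul])
  let ι : R' ⊗[R] M →ₗ[R] C := TensorProduct.lift (LinearMap.flip (Submodule.liftQ K₀ ι₀
    (fun m hm => LinearMap.ext fun s => by
      show φ (s * algebraMap R R' (m : R)) = 0
      rw [map_mul, φ.commutes, show algebraMap R C (m : R) = 0 from hm.2, mul_zero])))
  have hι : ∀ (s : R') (m : M₀), ι (s ⊗ₜ Submodule.Quotient.mk m) = φ (s * algebraMap R R' (m : R)) :=
    fun s m => rfl
  have hιμ : ∀ w, ι (K₀.mkQ.lTensor R' w) = φ (μ₀ w) := by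
    intro w
    induction w using TensorProduct.induction_on with
    | zero => simp
    | tmul s m => rw [LinearMap.lTensor_tmul, Submodule.mkQ_apply, hι, hμ₀]
    | add v w hv hw => rw [map_add, map_add, map_add, map_add, hv, hw]
  have hιinj : Function.Injective ι := by
    refine (injective_iff_map_eq_zero _).2 fun x hx => ?_
    obtain ⟨w, rfl⟩ := LinearMap.lTensor_surjective R' K₀.mkQ_surjective x
    rw [hιμ] at hx
    have hzmem : μ₀ w ∈ M₀.map (algebraMap R R') := by
      clear hx
      induction w using TensorProduct.induction_on with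
      | zero => simp
      | tmul s m => rw [hμ₀]; exact Ideal.mul_mem_left _ _ (Ideal.mem_map_of_mem _ m.2)
      | add v w hv hw => rw [map_add]; exact add_mem hv hw
    obtain ⟨m, hm, hmw⟩ := hclaim _ hzmem hx
    have : w = 1 ⊗ₜ m := hμ₀inj (by rw [hμ₀, one_mul, hmw])
    rw [this, LinearMap.lTensor_tmul, Submodule.mkQ_apply, (Submodule.Quotient.mk_eq_zero _).2 hm, TensorProduct.tmul_zero]
  have hιrange : ∀ y, y ∈ φ '' (M₀.map (algebraMap R R') : Set R') ↔ y ∈ LinearMap.range ι := by
    intro y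
    constructor
    · rintro ⟨z, hz, rfl⟩
      obtain ⟨w, rfl⟩ := hμ₀range z hz
      exact ⟨_, hιμ w⟩
    · rintro ⟨x, rfl⟩
      obtain ⟨w, rfl⟩ := LinearMap.lTensor_surjective R' K₀.mkQ_surjective x
      refine ⟨μ₀ w, ?_, (hιμ w).symm⟩
      induction w using TensorProduct.induction_on with
      | zero => simp
      | tmul s m => rw [hμ₀]; exact Ideal.mul_mem_left _ _ (Ideal.mem_map_of_mem _ m.2)
      | add v w hv hw => rw [map_add]; exact add_mem hv hw
  let θC : N →ₗ[R] R' ⊗[R] M :=
    (LinearEquiv.ofInjective ι hιinj).symm.toLinearMap.comp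
      (LinearMap.codRestrict (LinearMap.range ι) ((Algebra.linearMap R C).comp N.subtype)
        fun x => (hιrange _).1 (hφN x x.2))
  have hθC : ∀ x : N, ι (θC x) = algebraMap R C x := fun x =>
    congrArg Subtype.val ((LinearEquiv.ofInjective ι hιinj).apply_symm_apply _)
  -- sections of `d`
  choose w hw using hw
  have hNkill : ∀ x ∈ N, ∀ m : M, x • m = 0 := fun x hx m => by
    obtain ⟨m, rfl⟩ := Submodule.Quotient.mk_surjective _ m
    rw [← Submodule.Quotient.mk_smul, show x • m = 0 from Subtype.ext (hmul x hx _ (hM₀ m.2)), Submodule.Quotient.mk_zero]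
  let sp : Fin r → (Fin n → R ⧸ N) →ₗ[R] N := fun k =>
    ∑ i, ((Submodule.liftQ N (LinearMap.toSpanSingleton R N (w k i)) fun x hx =>
      Subtype.ext (hmul x hx _ (w k i).2)).comp (LinearMap.proj i))
  have hsp : ∀ (k : Fin r) (v : Fin n → R ⧸ N), d (sp k v) = a k • v := fun k v => by
    choose u hu using fun i => Ideal.Quotient.mk_surjective (v i)
    have e : sp k v = ∑ i, u i • w k i := by
      simp only [sp, LinearMap.coe_sum, Finset.sum_apply, LinearMap.comp_apply, LinearMap.proj_apply]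
      exact Finset.sum_congr rfl fun i _ => by rw [← hu i]; rfl
    rw [e, map_sum]
    simp only [map_smul, hw]
    refine funext fun j => ?_
    simp only [Finset.sum_apply, Pi.smul_apply]
    rw [Finset.sum_eq_single j (fun b _ hb => by rw [Pi.single_eq_of_ne hb.symm, smul_zero, smul_zero]) (by simp),
      Pi.single_eq_same, smul_comm, ← hu j]
    congr 1
    exact (Algebra.smul_def _ _).trans (mul_one _)
  have hG : ∀ (k : Fin r) (x : N), a k * ((a k • x - sp k (d x) : N) : R) ∈ M₀ := fun k x =>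
    hker k _ (by rw [map_sub, map_smul, hsp, sub_self])
  let incl : M₀ →ₗ[R] N := Submodule.inclusion hM₀
  let μ : M₀ →ₗ[R] M := K₀.mkQ
  let c : Ideal R := N ⊔ Ideal.span (Set.range fun k => a k * a k)
  have hcN : N ≤ c := le_sup_left
  have hca : Ideal.span (Set.range a) ≤ c.radical := Ideal.span_le.2 (by
    rintro _ ⟨k, rfl⟩
    exact ⟨2, Ideal.mem_sup_right (Ideal.subset_span ⟨k, (sq _).symm⟩)⟩)
  have hflat : ∀ c' : Ideal R, c ≤ c' → (c'.map (algebraMap R R')).comap (algebraMap R R') = c' := fun c' hc' =>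
    comap_map_of_flat c' fun p hp hle => hprime p hp (hcN.trans (hc'.trans hle)) (hca.trans
      ((Ideal.radical_mono (hc'.trans hle)).trans hp.radical.le))
  have hkill : ∀ {Z : Type u} [AddCommGroup Z] [Module R Z] (z : Z), (∀ x ∈ N, x • z = 0) →
      (∀ k, (a k * a k) • z = 0) → ∀ x ∈ c, x • z = 0 := by
    intro Z _ _ z h1 h2 x hx
    obtain ⟨p, hp, q, hq, rfl⟩ := Submodule.mem_sup.1 hx
    rw [add_smul, h1 p hp, zero_add]
    refine Submodule.span_induction (p := fun q _ => q • z = 0) ?_ (zero_smul _ _) ?_ ?_ hq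
    · rintro _ ⟨k, rfl⟩
      exact h2 k
    · intro u v _ _ hu hv
      rw [add_smul, hu, hv, add_zero]
    · intro e u _ hu
      rw [smul_eq_mul, mul_smul, hu, smul_zero]
  -- step 1: extend `μ`
  obtain ⟨θ, hθ⟩ : ∃ θ : N →ₗ[R] M, θ.comp incl = μ := by
    let res := LinearMap.lcomp R M incl
    let U := LinearMap.range res
    have hz : Submodule.Quotient.mk (p := U) μ = 0 := by
      refine eq_zero_of_one_tmul_eq_zero (S := R') _ (hflat _ fun x hx => ?_) ?_
      · rw [Ideal.mem_torsionOf_iff]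
        refine hkill _ (fun p hp => ?_) (fun k => ?_) x hx
        · rw [← Submodule.Quotient.mk_smul,
            show p • μ = 0 from LinearMap.ext fun m => hNkill p hp _, Submodule.Quotient.mk_zero]
        · rw [← Submodule.Quotient.mk_smul, Submodule.Quotient.mk_eq_zero]
          refine ⟨μ.comp (LinearMap.codRestrict M₀ (a k • N.subtype.comp (a k • LinearMap.id - (sp k).comp d))
            fun x => hG k x), LinearMap.ext fun m => ?_⟩
          show K₀.mkQ _ = (a k * a k) • K₀.mkQ m
          rw [← map_smul]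
          refine congrArg _ (Subtype.ext ?_)
          show a k * ((a k • incl m - sp k (d (incl m)) : N) : R) = a k * a k * (m : R)
          rw [hd₀ (incl m) m.2, map_zero, sub_zero]
          exact (mul_assoc _ _ _).symm
      · obtain ⟨v, hv⟩ := homBC_surjective (S := R') N M θC
        have h1 : res.lTensor R' v = (1 : R') ⊗ₜ μ := by
          refine homBC_injective (S := R') M₀ M ?_
          rw [homBC_natural, hv]
          refine LinearMap.ext fun m => hιinj ?_
          show ι (θC (incl m)) = ι (homBC (R := R) R' M₀ M ((1 : R') ⊗ₜ μ) m)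
          rw [hθC, homBC_tmul, show μ m = Submodule.Quotient.mk m from rfl, hι, one_mul, φ.commutes]
          rfl
        have h2 : U.mkQ.lTensor R' ((1 : R') ⊗ₜ μ) = 0 := by
          rw [← h1, ← LinearMap.lTensor_comp_apply, show U.mkQ.comp res = 0 from LinearMap.ext fun g =>
            (Submodule.Quotient.mk_eq_zero _).2 ⟨g, rfl⟩, LinearMap.lTensor_zero, LinearMap.zero_apply]
        rwa [LinearMap.lTensor_tmul] at h2
    exact (Submodule.Quotient.mk_eq_zero _).1 hz
  -- step 2: match `θC` modulo derivations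
  let N₀ := N ⧸ LinearMap.range incl
  let dbar : N₀ →ₗ[R] (Fin n → R ⧸ N) := Submodule.liftQ _ d (by
    rintro _ ⟨m, rfl⟩
    exact hd₀ (incl m) m.2)
  let δ : N →ₗ[R] R' ⊗[R] M := θC - (TensorProduct.mk R R' M 1).comp θ
  have hδ0 : LinearMap.range incl ≤ LinearMap.ker δ := by
    rintro _ ⟨m, rfl⟩
    rw [LinearMap.mem_ker]
    refine hιinj ?_
    show ι (θC (incl m) - (1 : R') ⊗ₜ θ (incl m)) = ι 0
    rw [map_sub, hθC, show θ (incl m) = Submodule.Quotient.mk m from LinearMap.congr_fun hθ m, hι, one_mul,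
      φ.commutes, map_zero]
    exact sub_self _
  let δbar : N₀ →ₗ[R] R' ⊗[R] M := Submodule.liftQ _ δ hδ0
  obtain ⟨v, hv⟩ := homBC_surjective (S := R') N₀ M δbar
  let der := LinearMap.lcomp R M dbar
  let D := LinearMap.range der
  have hDkill : ∀ x ∈ c, ∀ z : (N₀ →ₗ[R] M) ⧸ D, x • z = 0 := fun x hx z => by
    obtain ⟨h, rfl⟩ := Submodule.Quotient.mk_surjective _ z
    refine hkill _ (fun p hp => ?_) (fun k => ?_) x hx
    · rw [← Submodule.Quotient.mk_smul,
        show p • h = 0 from LinearMap.ext fun m => hNkill p hp _, Submodule.Quotient.mk_zero]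
    · rw [← Submodule.Quotient.mk_smul, Submodule.Quotient.mk_eq_zero]
      refine ⟨a k • h.comp ((LinearMap.range incl).mkQ.comp (sp k)), LinearMap.ext fun m => ?_⟩
      obtain ⟨x, rfl⟩ := Submodule.Quotient.mk_surjective _ m
      show a k • h (Submodule.Quotient.mk (sp k (d x))) = (a k * a k) • h (Submodule.Quotient.mk x)
      rw [← map_smul, ← map_smul, ← Submodule.Quotient.mk_smul, ← Submodule.Quotient.mk_smul]
      refine congrArg h ((Submodule.Quotient.eq _).2 ⟨-⟨_, hG k x⟩, Subtype.ext ?_⟩)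
      show -(a k * (a k * (x : R) - ((sp k (d x) : N) : R))) = a k * ((sp k (d x) : N) : R) - a k * a k * (x : R)
      ring
  obtain ⟨z, hz⟩ := exists_one_tmul (S := R') c (hsurj c hcN hca) hDkill (D.mkQ.lTensor R' v)
  obtain ⟨h, rfl⟩ := Submodule.Quotient.mk_surjective _ z
  obtain ⟨g', hg'⟩ : ∃ g', der.lTensor R' g' = v - (1 : R') ⊗ₜ h := by
    have hex : Function.Exact der D.mkQ := LinearMap.exact_iff.2 (Submodule.ker_mkQ D)
    refine (lTensor_exact R' hex D.mkQ_surjective _).1 ?_
    rw [map_sub, hz, LinearMap.lTensor_tmul, Submodule.mkQ_apply, sub_self]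
  let g := homBC (R := R) R' (Fin n → R ⧸ N) M g'
  let θ' : N →ₗ[R] M := θ + h.comp (LinearMap.range incl).mkQ
  have key : ∀ x : N, θC x = (1 : R') ⊗ₜ θ' x + g (d x) := fun x => by
    have h1 := LinearMap.congr_fun (congrArg (homBC (R := R) R' N₀ M) hg') (Submodule.Quotient.mk x)
    rw [homBC_natural, map_sub, hv, LinearMap.sub_apply, homBC_tmul] at h1
    have h2 : g (d x) = (θC x - (1 : R') ⊗ₜ θ x) - (1 : R') ⊗ₜ h (Submodule.Quotient.mk x) := h1
    rw [h2]
    show _ = (1 : R') ⊗ₜ (θ x + h (Submodule.Quotient.mk x)) + _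
    rw [TensorProduct.tmul_add]
    abel
  refine ⟨Submodule.map N.subtype (LinearMap.ker θ'), fun i => -ι (g (Pi.single i 1)), ?_, ?_, ?_, ?_, ?_, ?_⟩
  · exact (LinearMap.map_le_range).trans (le_of_eq N.range_subtype)
  · refine le_antisymm (sup_le ((LinearMap.map_le_range).trans (le_of_eq N.range_subtype)) hM₀) fun x hx => ?_
    obtain ⟨m, hm⟩ := K₀.mkQ_surjective (θ' ⟨x, hx⟩)
    have hθ'incl : θ' (incl m) = K₀.mkQ m := by
      show θ (incl m) + h ((LinearMap.range incl).mkQ (incl m)) = _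
      rw [Submodule.mkQ_apply, (Submodule.Quotient.mk_eq_zero _).2 (LinearMap.mem_range_self incl m), map_zero, add_zero]
      exact LinearMap.congr_fun hθ m
    have hxm : (⟨x, hx⟩ - incl m : N) ∈ LinearMap.ker θ' := by
      rw [LinearMap.mem_ker, map_sub, hθ'incl, hm, sub_self]
    have := Submodule.add_mem_sup (Submodule.mem_map_of_mem (f := N.subtype) hxm) m.2
    simpa [incl] using this
  · rintro k x ⟨⟨y, hy, rfl⟩, hx⟩
    replace hx : (y : R) ∈ M₀ := hx
    have h1 : y = incl ⟨(y : R), hx⟩ := Subtype.ext rfl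
    have h2 : (⟨(y : R), hx⟩ : M₀) ∈ K₀ := by
      rw [← Submodule.Quotient.mk_eq_zero K₀]
      have h3 : θ' y = 0 := hy
      rw [h1] at h3
      change θ (incl _) + h ((LinearMap.range incl).mkQ (incl _)) = 0 at h3
      rw [Submodule.mkQ_apply, (Submodule.Quotient.mk_eq_zero _).2 (LinearMap.mem_range_self incl _), map_zero, add_zero] at h3
      exact (LinearMap.congr_fun hθ _).symm.trans h3
    exact h2.1 k
  · intro i
    exact (hιrange _).2 ⟨-(g (Pi.single i 1)), map_neg _ _⟩
  · intro z hz hφz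
    obtain ⟨m, hm, rfl⟩ := hclaim z hz hφz
    refine Ideal.mem_map_of_mem _ ⟨incl m, ?_, rfl⟩
    show θ' (incl m) = 0
    show θ (incl m) + h ((LinearMap.range incl).mkQ (incl m)) = _
    rw [Submodule.mkQ_apply, (Submodule.Quotient.mk_eq_zero _).2 (LinearMap.mem_range_self incl m), map_zero, add_zero]
    exact (LinearMap.congr_fun hθ m).trans ((Submodule.Quotient.mk_eq_zero _).2 hm)
  · intro x hx u hu
    obtain ⟨y, hy, hyx⟩ := hx
    obtain rfl : y = x := Subtype.ext hyx
    have h1 : d y = ∑ i, u i • (Pi.single i (1 : R ⧸ N) : Fin n → R ⧸ N) := funext fun j => by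
      simp only [Finset.sum_apply, Pi.smul_apply]
      rw [Finset.sum_eq_single j (fun b _ hb => by rw [Pi.single_eq_of_ne hb.symm, smul_zero]) (by simp),
        Pi.single_eq_same, hu j]
      exact ((Algebra.smul_def _ _).trans (mul_one _)).symm
    rw [← hθC, key, show θ' y = 0 from hy, TensorProduct.tmul_zero, zero_add, h1]
    simp only [map_sum, map_smul]
    simp only [Algebra.smul_def, mul_neg, Finset.sum_neg_distrib, add_neg_cancel]

end Groth.Agent.RigPts
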