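/-
An ideal of the completion with conormal module killed by a power of `I` comes from the henselization.
-/
import Groth.Agent.RigPts.FormalSol
import Groth.Agent.RigPts.LiftCore
import Mathlib.LinearAlgebra.Matrix.Charpoly.LinearMap

set_option autoImplicit false
set_option linter.style.haveILetI false
set_option backward.isDefEq.respectTransparency false

universe u

open scoped TensorProduct

noncomputable section

namespace Groth.Agent.RigPts

/-- If `t` maps the finite ideal `J` into `J ^ 2` then a power of `t` is congruent to an annihilator of `J`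
modulo `J`. -/
theorem exists_mem_sub_mul_eq_zero {S : Type u} [CommRing S] (J : Ideal S) (hJ : J.FG) (t : S)
    (h : Ideal.span {t} * J ≤ J ^ 2) : ∃ x ∈ J, ∃ k : ℕ, 1 ≤ k ∧ ∀ z ∈ J, (t ^ k - x) * z = 0 := by
  classical
  haveI : Module.Finite S J := Module.Finite.iff_fg.2 hJ
  let f : Module.End S J := t • LinearMap.id
  have hr : LinearMap.range f ≤ J • (⊤ : Submodule S J) := by
    rintro _ ⟨z, rfl⟩
    apply (Submodule.mem_smul_top_iff J J (t • z)).2
    show t * (z : S) ∈ J • J
    rw [smul_eq_mul, ← sq]
    exact h (Ideal.mul_mem_mul (Ideal.mem_span_singleton_self t) z.2)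
  obtain ⟨p, hp, -, hc, hp0⟩ := LinearMap.exists_monic_and_natDegree_eq_and_coeff_mem_pow_and_aeval_eq_zero S f J hr
  have hfun : ∀ (q : Polynomial S) (z : J), Polynomial.aeval f q z = q.eval t • z := by
    intro q z
    induction q using Polynomial.induction_on' with
    | add a b ha hb => rw [map_add, LinearMap.add_apply, ha, hb, Polynomial.eval_add, add_smul]
    | monomial n c =>
      rw [Polynomial.aeval_monomial, Polynomial.eval_monomial, Module.End.mul_apply, mul_smul,
        Module.algebraMap_end_apply]
      refine congrArg (c • ·) ?_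
      induction n with
      | zero => simp
      | succ n ih => rw [pow_succ', Module.End.mul_apply, ih, pow_succ', mul_smul]; rfl
  have hlow : t * p.eval t - t ^ (p.natDegree + 1) ∈ J := by
    rw [Polynomial.eval_eq_sum_range, Finset.sum_range_succ, hp.coeff_natDegree, one_mul, mul_add,
      ← pow_succ', add_sub_cancel_right, Finset.mul_sum]
    refine Ideal.sum_mem _ fun i hi => Ideal.mul_mem_left _ _ (Ideal.mul_mem_right _ _ ?_)
    have hlt := Finset.mem_range.1 hi
    exact Ideal.pow_le_self (Nat.sub_ne_zero_of_lt hlt) (hc i)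
  refine ⟨-(t * p.eval t - t ^ (p.natDegree + 1)), neg_mem hlow, p.natDegree + 1, Nat.succ_pos _, fun z hz => ?_⟩
  have h0 : p.eval t * z = 0 := by
    have h1 := hfun p ⟨z, hz⟩
    rw [hp0] at h1
    exact (congrArg Subtype.val h1).symm
  linear_combination t * h0

open MvPolynomial in
/-- The ideal `J` of the completion `S` of the henselian pair `(R, span a)` descends to `R`. -/
theorem map_comap_eq_of_ann {R S : Type u} [CommRing R] [CommRing S] [Algebra R S] [IsNoetherianRing R]
    [IsNoetherianRing S] (H : Ideal R) [HenselianRing R H] [Module.Flat R S] {r : ℕ} (a : Fin r → R)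
    (ha : ∀ k, a k ∈ H) (hjac : ∀ k, algebraMap R S (a k) ∈ (⊥ : Ideal S).jacobson)
    (hcomap : ∀ K : Ideal R, ∀ x, algebraMap R S x ∈ K.map (algebraMap R S) → x ∈ K)
    (hdense : ∀ (y : S) (N : ℕ), ∃ x : R, y - algebraMap R S x ∈ ((Ideal.span (Set.range a)) ^ N).map (algebraMap R S))
    (J : Ideal S) (x : Fin r → S) (hx : ∀ k, x k ∈ J)
    (hann : ∀ k, ∀ z ∈ J, (algebraMap R S (a k) - x k) * z = 0) :
    J = (J.comap (algebraMap R S)).map (algebraMap R S) := by
  classical
  have hq : ∀ k, x k * x k = algebraMap R S (a k) * x k := fun k => by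
    linear_combination -(hann k (x k) (hx k))
  have hg : ∀ k i, algebraMap R S (a k) * x i = algebraMap R S (a i) * x k := fun k i => by
    linear_combination hann k (x i) (hx i) - hann i (x k) (hx k)
  let rk : Fin r → MvPolynomial (Fin r) R := fun k => (C 2 * X k - C (a k)) * (X k * X k - C (a k) * X k)
  let g : Fin r → Fin r → MvPolynomial (Fin r) R := fun k i =>
    C (a k * a k) * (C (a k) * X i - C (a i) * X k) + C (a i) * rk k
  have hrk : ∀ k, aeval x (rk k) = 0 := fun k => by
    simp only [rk, map_mul, map_sub, aeval_C, aeval_X, hq, sub_self, mul_zero]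
  have hrk' : ∀ k j, aeval x (pderiv j (rk k)) = if k = j then algebraMap R S (a k * a k) else 0 := fun k j => by
    simp only [rk, pderiv_mul, map_sub, pderiv_C, pderiv_X, map_add, map_mul, aeval_C, aeval_X, map_zero, sub_zero,
      zero_mul, zero_add]
    rcases eq_or_ne k j with rfl | hkj
    · simp only [Pi.single_eq_same, map_one, mul_one, one_mul, if_pos]
      rw [map_ofNat]
      linear_combination 6 * hq k
    · simp [Pi.single_eq_of_ne hkj, Ne.symm hkj, if_neg hkj]
  have hzero : ∀ k i, aeval x (g k i) = 0 := fun k i => by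
    simp only [g, map_add, map_mul, map_sub, hrk, mul_zero, add_zero, aeval_C, aeval_X, hg k i, sub_self]
  have hd : ∀ k i j, aeval x (pderiv j (g k i)) = if i = j then algebraMap R S (a k ^ 3) else 0 := fun k i j => by
    simp only [g, map_add, pderiv_C_mul, map_sub, pderiv_X, map_mul, hrk', aeval_C]
    rcases eq_or_ne i j with rfl | hij <;> rcases eq_or_ne k i with rfl | hki
    · simp
      ring
    · simp [Ne.symm hki, if_neg hki]
      ring
    · simp [Pi.single_eq_of_ne hij, Pi.single_eq_of_ne hij.symm, if_neg hij]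
    · rcases eq_or_ne k j with rfl | hkj
      · simp [Pi.single_eq_of_ne hij, Pi.single_eq_of_ne hij.symm, if_neg hij]
        ring
      · simp [Pi.single_eq_of_ne hij, Pi.single_eq_of_ne hij.symm, if_neg hij, Pi.single_eq_of_ne hkj, Pi.single_eq_of_ne hkj.symm, if_neg hkj]
  have hdense3 : ∀ (y : S) (N : ℕ), ∃ z : R, y - algebraMap R S z ∈
      ((Ideal.span (Set.range fun k => a k ^ 3)) ^ N).map (algebraMap R S) := fun y N => by
    obtain ⟨M, hM⟩ := Ideal.exists_pow_le_of_le_radical_of_fg (I := Ideal.span (Set.range a))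
      (J := Ideal.span (Set.range fun k => a k ^ 3)) (Ideal.span_le.2 (by
        rintro _ ⟨k, rfl⟩
        exact ⟨3, Ideal.subset_span ⟨k, rfl⟩⟩)) (IsNoetherian.noetherian _)
    obtain ⟨z, hz⟩ := hdense y (M * N)
    refine ⟨z, Ideal.map_mono ?_ hz⟩
    rw [pow_mul]
    exact Ideal.pow_right_mono hM N
  have hmem : ∀ i, x i ∈ Set.range (algebraMap R S) := exists_descend H (fun k => a k ^ 3)
    (fun k => Ideal.pow_mem_of_mem H (ha k) 3 (by norm_num))
    (fun k => by rw [map_pow]; exact Ideal.pow_mem_of_mem _ (hjac k) 3 (by norm_num))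
    hcomap hdense3 x g hzero hd
  choose y hy using hmem
  refine le_antisymm (fun w hw => ?_) Ideal.map_comap_le
  let J₁ : Ideal R := Ideal.span (Set.range y)
  have hJ₁ : J₁.map (algebraMap R S) ≤ J := by
    rw [Ideal.map_span, Ideal.span_le]
    rintro _ ⟨_, ⟨k, rfl⟩, rfl⟩
    rw [hy]
    exact hx k
  -- the colon ideal `(J₁ : a)` commutes with the flat base change
  let F : (Option (Fin r × Fin r) → R) →ₗ[R] (Fin r → R) :=
    LinearMap.pi fun k => a k • LinearMap.proj none - ∑ i, y i • LinearMap.proj (some (k, i))
  let T : Ideal R := (LinearMap.ker F).map (LinearMap.proj none)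
  have hT : w ∈ T.map (algebraMap R S) := by
    have hmem : ∀ k, ∃ s : Fin r → S, ∑ i, algebraMap R S (y i) * s i = algebraMap R S (a k) * w := fun k => by
      refine ⟨fun i => if i = k then w else 0, ?_⟩
      rw [Finset.sum_eq_single k (fun b _ hb => by simp [hb]) (by simp)]
      simp only [if_pos, hy]
      linear_combination -(hann k w hw)
    choose s hs using hmem
    let sv : Option (Fin r × Fin r) → S := fun o => Option.elim o w fun p => s p.1 p.2
    let v : S ⊗[R] (Option (Fin r × Fin r) → R) := ∑ o, sv o ⊗ₜ Pi.single o 1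
    let rk' : Fin r → S ⊗[R] (Fin r → R) →ₗ[R] S := fun k =>
      (TensorProduct.rid R S).toLinearMap.comp ((LinearMap.proj k).lTensor S)
    have hsep : ∀ z, (∀ k, rk' k z = 0) → z = 0 := fun z hz => by
      refine (TensorProduct.piScalarRight R R S (Fin r)).injective (funext fun k => ?_)
      rw [map_zero, Pi.zero_apply, ← hz k]
      clear hz
      induction z using TensorProduct.induction_on with
      | zero => simp
      | tmul p q => simp [rk', TensorProduct.piScalarRight_apply]
      | add p q hp hq => rw [map_add, map_add, Pi.add_apply, hp, hq]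
    have hFo : ∀ k o, F (Pi.single o 1) k = a k * (if o = none then 1 else 0) -
        ∑ i, y i * (if o = some (k, i) then 1 else 0) := fun k o => by
      simp only [F, LinearMap.pi_apply, LinearMap.sub_apply, LinearMap.smul_apply, LinearMap.proj_apply,
        LinearMap.coe_sum, Finset.sum_apply, smul_eq_mul, Pi.single_apply]
      simp only [eq_comm]
    have h0 : F.lTensor S v = 0 := hsep _ fun k => by
      simp only [v, map_sum, LinearMap.lTensor_tmul, rk', LinearMap.comp_apply, LinearEquiv.coe_coe,
        TensorProduct.rid_tmul, LinearMap.proj_apply, hFo]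
      rw [Fintype.sum_option]
      simp only [reduceCtorEq, if_true, if_false, mul_one, mul_zero, Finset.sum_const_zero, sub_zero, zero_sub,
        Option.some.injEq]
      rw [Fintype.sum_prod_type, Finset.sum_eq_single k]
      · have e : ∀ x : Fin r, (-∑ i, y i * if (k, x) = (k, i) then 1 else 0) = -y x := fun x => by
          rw [Finset.sum_eq_single x (fun b _ hb => by simp [Ne.symm hb]) (by simp)]
          simp
        simp only [e, neg_smul, Finset.sum_neg_distrib, Algebra.smul_def, sv, Option.elim]
        simp only [map_neg, neg_mul, Finset.sum_neg_distrib]; rw [hs k, add_neg_cancel]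
      · intro b _ hb
        simp [hb]
      · simp
    obtain ⟨u, hu⟩ := (Module.Flat.lTensor_exact (M := S) (LinearMap.exact_subtype_ker_map F) v).1 h0
    let pr : S ⊗[R] (Option (Fin r × Fin r) → R) →ₗ[R] S :=
      (TensorProduct.rid R S).toLinearMap.comp ((LinearMap.proj none).lTensor S)
    have hv : pr v = w := by
      simp only [v, pr, map_sum, LinearMap.comp_apply, LinearMap.lTensor_tmul, LinearEquiv.coe_coe,
        TensorProduct.rid_tmul, LinearMap.proj_apply]
      rw [Fintype.sum_option]
      simp [sv]
    rw [← hv, ← hu]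
    clear hu
    induction u using TensorProduct.induction_on with
    | zero => simp
    | tmul p q =>
      simp only [pr, LinearMap.comp_apply, LinearMap.lTensor_tmul, LinearEquiv.coe_coe, TensorProduct.rid_tmul,
        LinearMap.proj_apply, Algebra.smul_def]
      exact Ideal.mul_mem_right _ _ (Ideal.mem_map_of_mem _ ⟨_, q.2, rfl⟩)
    | add p q hp hq => rw [map_add, map_add]; exact add_mem hp hq
  have hone : ∀ z ∈ T.map (algebraMap R S), ∃ t : R, z - algebraMap R S t ∈ J₁.map (algebraMap R S) := by
    intro z hz
    refine (Submodule.span_induction (p := fun z _ =>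
      (∀ k, algebraMap R S (a k) * z ∈ J₁.map (algebraMap R S)) ∧
        ∃ t : R, z - algebraMap R S t ∈ J₁.map (algebraMap R S)) ?_ ?_ ?_ ?_ hz).2
    · rintro _ ⟨t, ht, rfl⟩
      refine ⟨fun k => ?_, t, by rw [sub_self]; exact zero_mem _⟩
      rw [← map_mul]
      refine Ideal.mem_map_of_mem _ ?_
      obtain ⟨q, hq, rfl⟩ := ht
      have h5 : a k * q none - ∑ i, y i * q (some (k, i)) = 0 := by
        have h6 := congrFun (LinearMap.mem_ker.1 hq) k
        simpa [F] using h6
      show a k * q none ∈ J₁
      rw [sub_eq_zero.1 h5]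
      exact Ideal.sum_mem _ fun i _ => Ideal.mul_mem_right _ _ (Ideal.subset_span ⟨i, rfl⟩)
    · exact ⟨fun k => by simp, 0, by simp⟩
    · rintro u v _ _ ⟨hu, t, ht⟩ ⟨hv, t', ht'⟩
      refine ⟨fun k => by rw [mul_add]; exact add_mem (hu k) (hv k), t + t', ?_⟩
      rw [map_add, add_sub_add_comm]
      exact add_mem ht ht'
    · rintro s u _ ⟨hu, t, ht⟩
      refine ⟨fun k => by rw [smul_eq_mul, mul_left_comm]; exact Ideal.mul_mem_left _ _ (hu k), ?_⟩
      obtain ⟨z', hz'⟩ := hdense s 1
      rw [pow_one] at hz'
      refine ⟨z' * t, ?_⟩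
      have h2 : (s - algebraMap R S z') * u ∈ J₁.map (algebraMap R S) := by
        have hle : (Ideal.span (Set.range a)).map (algebraMap R S) ≤
            Submodule.comap (LinearMap.mulRight S u) (J₁.map (algebraMap R S)) := by
          rw [Ideal.map_span, Ideal.span_le]
          rintro _ ⟨_, ⟨k, rfl⟩, rfl⟩
          exact hu k
        exact hle hz'
      have h3 := add_mem h2 (Ideal.mul_mem_left _ (algebraMap R S z') ht)
      convert h3 using 1
      rw [map_mul, smul_eq_mul]
      ring
  obtain ⟨t, ht⟩ := hone w hT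
  have htJ : t ∈ J.comap (algebraMap R S) := by
    rw [Ideal.mem_comap]
    have := sub_mem hw (hJ₁ ht)
    rwa [sub_sub_cancel] at this
  have h4 : J₁.map (algebraMap R S) ≤ (J.comap (algebraMap R S)).map (algebraMap R S) :=
    Ideal.map_mono (Ideal.map_le_iff_le_comap.1 hJ₁)
  have := add_mem (h4 ht) (Ideal.mem_map_of_mem (algebraMap R S) htJ)
  rwa [sub_add_cancel] at this

end Groth.Agent.RigPts
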