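/-
Algebras unramified away from `V(I)`: systems of equations with differential `a • δ`.
-/
import Mathlib.RingTheory.Kaehler.Polynomial
import Mathlib.RingTheory.Etale.Kaehler
import Mathlib.RingTheory.Etale.Basic

set_option autoImplicit false
set_option linter.style.haveILetI false
set_option backward.isDefEq.respectTransparency false

universe u

open MvPolynomial

noncomputable section

namespace Groth.Agent.RigPts

theorem exists_pow_smul_kaehler {A B : Type u} [CommRing A] [CommRing B] [Algebra A B] [Algebra.EssFiniteType A B]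
    (b : B) [Algebra.FormallyUnramified A (Localization.Away b)] :
    ∃ e : ℕ, 1 ≤ e ∧ ∀ w : KaehlerDifferential A B, b ^ e • w = 0 := by
  classical
  haveI : Subsingleton (KaehlerDifferential A (Localization.Away b)) := inferInstance
  have h1 : ∀ w : KaehlerDifferential A B, ∃ e : ℕ, b ^ e • w = 0 := fun w => by
    obtain ⟨⟨c, e, rfl⟩, hc⟩ := IsLocalizedModule.exists_of_eq (S := Submonoid.powers b)
      (f := KaehlerDifferential.map A A B (Localization.Away b)) (x₁ := w) (x₂ := 0) (Subsingleton.elim _ _)
    exact ⟨e, by simpa [Submonoid.smul_def] using hc⟩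
  choose e he using h1
  obtain ⟨s, hs⟩ := Module.Finite.fg_top (R := B) (M := KaehlerDifferential A B)
  refine ⟨(s.sup e) + 1, Nat.succ_pos _, fun w => ?_⟩
  have hw : w ∈ Submodule.span B (s : Set (KaehlerDifferential A B)) := hs ▸ Submodule.mem_top
  induction hw using Submodule.span_induction with
  | mem x hx =>
    have h2 : e x ≤ s.sup e + 1 := (Finset.le_sup hx).trans (Nat.le_succ _)
    rw [← Nat.sub_add_cancel h2, pow_add, mul_smul, he, smul_zero]
  | zero => exact smul_zero _
  | add x y _ _ hx hy => rw [smul_add, hx, hy, add_zero]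
  | smul r x _ hx => rw [smul_comm, hx, smul_zero]

theorem exists_system {A B : Type u} [CommRing A] [CommRing B] [Algebra A B] {n : ℕ}
    (π : MvPolynomial (Fin n) A →ₐ[A] B) (hπ : Function.Surjective π) (t : B)
    (ht : ∀ w : KaehlerDifferential A B, t • w = 0) :
    ∃ g : Fin n → MvPolynomial (Fin n) A, (∀ i, π (g i) = 0) ∧
      ∀ i j, π (pderiv j (g i)) = if i = j then t else 0 := by
  classical
  let v : MvPolynomial (Fin n) A → Fin n → B := fun p j => π (pderiv j p)
  have hv_add : ∀ p q, v (p + q) = v p + v q := fun p q => funext fun j => by simp [v]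
  have hv_mul : ∀ p q, v (p * q) = π p • v q + π q • v p := fun p q => funext fun j => by
    simp only [v, pderiv_mul, map_add, map_mul, Pi.add_apply, Pi.smul_apply, smul_eq_mul]
    ring
  let N : Submodule B (Fin n → B) :=
    { carrier := {w | ∃ f, π f = 0 ∧ v f = w}
      add_mem' := by
        rintro _ _ ⟨f, hf, rfl⟩ ⟨g, hg, rfl⟩
        exact ⟨f + g, by rw [map_add, hf, hg, add_zero], hv_add f g⟩
      zero_mem' := ⟨0, map_zero _, funext fun j => by simp [v]⟩
      smul_mem' := by
        rintro b _ ⟨f, hf, rfl⟩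
        obtain ⟨p, rfl⟩ := hπ b
        exact ⟨p * f, by rw [map_mul, hf, mul_zero], by rw [hv_mul, hf, zero_smul, add_zero]⟩ }
  let d₀ : B → (Fin n → B) ⧸ N := fun b => N.mkQ (v (Function.surjInv hπ b))
  have hd₀ : ∀ p, d₀ (π p) = N.mkQ (v p) := fun p => by
    have hsurj := Function.surjInv_eq hπ (π p)
    refine (Submodule.Quotient.eq _).2 ?_
    refine ⟨Function.surjInv hπ (π p) - p, by rw [map_sub, hsurj, sub_self], funext fun j => ?_⟩
    simp [v]
  let dlin : B →ₗ[A] (Fin n → B) ⧸ N :=
    { toFun := d₀
      map_add' := fun x y => by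
        obtain ⟨p, rfl⟩ := hπ x
        obtain ⟨q, rfl⟩ := hπ y
        rw [← map_add, hd₀, hd₀, hd₀, hv_add, map_add]
      map_smul' := fun r x => by
        obtain ⟨p, rfl⟩ := hπ x
        rw [RingHom.id_apply, ← map_smul, hd₀, hd₀,
          show v (r • p) = r • v p from funext fun j => by simp [v]]
        exact (N.mkQ.restrictScalars A).map_smul r _ }
  let D : Derivation A B ((Fin n → B) ⧸ N) := Derivation.mk' dlin fun x y => by
    obtain ⟨p, rfl⟩ := hπ x
    obtain ⟨q, rfl⟩ := hπ y
    show d₀ _ = _ • d₀ _ + _ • d₀ _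
    rw [← map_mul, hd₀, hd₀, hd₀, hv_mul, map_add, map_smul, map_smul]
  have key : ∀ i, t • (Pi.single i (1 : B) : Fin n → B) ∈ N := fun i => by
    have h1 : D.liftKaehlerDifferential (t • KaehlerDifferential.D A B (π (X i))) = 0 := by
      rw [ht, map_zero]
    rw [map_smul, Derivation.liftKaehlerDifferential_comp_D] at h1
    have e : v (X i) = Pi.single i 1 := funext fun j => by
      rcases eq_or_ne i j with rfl | hij
      · simp [v]
      · simp [v, pderiv_X, Pi.single_eq_of_ne hij.symm, Pi.single_eq_of_ne hij]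
    have h2 : t • N.mkQ (v (X i)) = 0 := by
      rw [← hd₀]
      exact h1
    rwa [← map_smul, Submodule.mkQ_apply, Submodule.Quotient.mk_eq_zero, e] at h2
  choose g hg hgv using key
  refine ⟨g, hg, fun i j => ?_⟩
  have h := congrFun (hgv i) j
  simp only [v, Pi.smul_apply, smul_eq_mul] at h
  rw [h]
  rcases eq_or_ne i j with rfl | hij
  · simp
  · simp [Pi.single_eq_of_ne hij.symm, hij]

end Groth.Agent.RigPts
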