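/-
Helpers for lifting algebras which are etale off `V(I)` along square zero thickenings of the base.
-/
import Groth.Agent.RigPts.Unram
import Mathlib.RingTheory.Etale.Basic
import Mathlib.RingTheory.Localization.Away.Basic
import Mathlib.RingTheory.Ideal.Quotient.Nilpotent
import Mathlib.RingTheory.Smooth.Basic

set_option autoImplicit false
set_option linter.style.haveILetI false
set_option backward.isDefEq.respectTransparency false

universe u

noncomputable section

namespace Groth.Agent.RigPts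

variable {A : Type u} [CommRing A]

/-- `X_a`. -/
abbrev Aw (X : Type u) [CommRing X] [Algebra A X] (a : A) : Type u :=
  Localization.Away (algebraMap A X a)

/-- `X → X_a` over `A`. -/
abbrev toAw (X : Type u) [CommRing X] [Algebra A X] (a : A) : X →ₐ[A] Aw X a :=
  IsScalarTower.toAlgHom A X (Aw X a)

/-- The map `X_a → S` defined by a map `X → S` in which `a` becomes invertible. -/
def fromAw {X S : Type u} [CommRing X] [Algebra A X] [CommRing S] [Algebra A S] (f : X →ₐ[A] S) (a : A)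
    (ha : IsUnit (algebraMap A S a)) : Aw X a →ₐ[A] S :=
  IsLocalization.liftAlgHom (M := Submonoid.powers (algebraMap A X a)) (f := f) (fun y => by
    obtain ⟨_, k, rfl⟩ := y
    show IsUnit (f (algebraMap A X a ^ k))
    rw [map_pow, AlgHom.commutes]
    exact ha.pow k)

theorem fromAw_toAw {X S : Type u} [CommRing X] [Algebra A X] [CommRing S] [Algebra A S] (f : X →ₐ[A] S) (a : A)
    (ha : IsUnit (algebraMap A S a)) (x : X) : fromAw f a ha (algebraMap X (Aw X a) x) = f x :=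
  IsLocalization.lift_eq _ x

theorem aw_hom_ext {X S : Type u} [CommRing X] [Algebra A X] [CommRing S] [Algebra A S] {a : A}
    (f g : Aw X a →ₐ[A] S) (h : ∀ x, f (algebraMap X (Aw X a) x) = g (algebraMap X (Aw X a) x)) : f = g :=
  AlgHom.coe_ringHom_injective (IsLocalization.ringHom_ext (Submonoid.powers (algebraMap A X a)) (RingHom.ext h))

theorem isUnit_aw (X : Type u) [CommRing X] [Algebra A X] (a : A) : IsUnit (algebraMap A (Aw X a) a) := by
  rw [IsScalarTower.algebraMap_apply A X (Aw X a)]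
  exact IsLocalization.Away.algebraMap_isUnit _

/-- The localisation of an algebra map. -/
def awMap {X Y : Type u} [CommRing X] [Algebra A X] [CommRing Y] [Algebra A Y] (f : X →ₐ[A] Y) (a : A) :
    Aw X a →ₐ[A] Aw Y a :=
  fromAw ((toAw Y a).comp f) a (isUnit_aw Y a)

theorem awMap_apply {X Y : Type u} [CommRing X] [Algebra A X] [CommRing Y] [Algebra A Y] (f : X →ₐ[A] Y) (a : A)
    (x : X) : awMap f a (algebraMap X (Aw X a) x) = algebraMap Y (Aw Y a) (f x) :=
  fromAw_toAw _ a _ x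

theorem exists_frac {X : Type u} [CommRing X] [Algebra A X] {a : A} (z : Aw X a) :
    ∃ (x : X) (k : ℕ), z * algebraMap A (Aw X a) (a ^ k) = algebraMap X (Aw X a) x := by
  obtain ⟨⟨x, ⟨_, k, rfl⟩⟩, hxy⟩ := IsLocalization.surj (Submonoid.powers (algebraMap A X a)) z
  refine ⟨x, k, ?_⟩
  rw [IsScalarTower.algebraMap_apply A X (Aw X a), map_pow]
  exact hxy

theorem awMap_surjective {X Y : Type u} [CommRing X] [Algebra A X] [CommRing Y] [Algebra A Y] (f : X →ₐ[A] Y)
    (hf : Function.Surjective f) (a : A) : Function.Surjective (awMap f a) := fun z => by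
  obtain ⟨y, k, hy⟩ := exists_frac z
  obtain ⟨x, rfl⟩ := hf y
  obtain ⟨u, hu⟩ := ((isUnit_aw X a).pow k)
  refine ⟨algebraMap X (Aw X a) x * ↑u⁻¹, ?_⟩
  rw [← map_pow] at hu
  have h1 : awMap f a (↑u⁻¹) * algebraMap A (Aw Y a) (a ^ k) = 1 := by
    rw [← (awMap f a).commutes, ← hu, ← map_mul, Units.inv_mul, map_one]
  rw [map_mul, awMap_apply, ← hy, mul_assoc, mul_comm (algebraMap A (Aw Y a) (a ^ k)), h1, mul_one]

theorem ker_awMap {X Y : Type u} [CommRing X] [Algebra A X] [CommRing Y] [Algebra A Y] (f : X →ₐ[A] Y) (a : A) :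
    RingHom.ker (awMap f a) = (RingHom.ker f).map (algebraMap X (Aw X a)) := by
  refine le_antisymm (fun z hz => ?_) (Ideal.map_le_iff_le_comap.2 fun x hx => ?_)
  · obtain ⟨x, k, hx⟩ := exists_frac z
    have h0 : algebraMap Y (Aw Y a) (f x) = 0 := by
      rw [← awMap_apply, ← hx, map_mul, show awMap f a z = 0 from hz, zero_mul]
    rw [IsLocalization.map_eq_zero_iff (Submonoid.powers (algebraMap A Y a))] at h0
    obtain ⟨⟨_, m, rfl⟩, hm⟩ := h0
    have hxm : algebraMap A X a ^ m * x ∈ RingHom.ker f := by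
      rw [RingHom.mem_ker, map_mul, map_pow, AlgHom.commutes]
      exact hm
    have h2 := Ideal.mem_map_of_mem (algebraMap X (Aw X a)) hxm
    rw [map_mul, ← hx, map_pow, ← IsScalarTower.algebraMap_apply, ← map_pow, mul_left_comm, ← map_mul] at h2
    exact (Ideal.mul_unit_mem_iff_mem _ (by rw [map_mul, map_pow, map_pow]; exact ((isUnit_aw X a).pow m).mul ((isUnit_aw X a).pow k))).1 h2
  · rw [Ideal.mem_comap, RingHom.mem_ker, awMap_apply, show f x = 0 from hx, map_zero]

/-- `B_a` has a lift which is etale over `A`, with kernel `K`. -/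
def EtLift (I K : Ideal A) (B : Type u) [CommRing B] [Algebra A B] : Prop :=
  ∀ a ∈ I, ∃ (L : Type u) (_ : CommRing L) (_ : Algebra A L), Algebra.Etale A L ∧
    ∃ q : L →ₐ[A] Aw B a, Function.Surjective q ∧ RingHom.ker q = K.map (algebraMap A L)

theorem mul_map_eq_bot {K K₂ : Ideal A} (hKK : K * K ≤ K₂) {S : Type u} [CommRing S] [Algebra A S]
    (hS : K₂.map (algebraMap A S) = ⊥) : K.map (algebraMap A S) * K.map (algebraMap A S) = ⊥ := by
  rw [← Ideal.map_mul, ← le_bot_iff, ← hS]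
  exact Ideal.map_mono hKK

theorem surjective_of_surjective_mod {K K₂ : Ideal A} (hKK : K * K ≤ K₂) {X S : Type u} [CommRing X] [Algebra A X]
    [CommRing S] [Algebra A S] (hS : K₂.map (algebraMap A S) = ⊥) (h : X →ₐ[A] S)
    (hmod : ∀ s, ∃ x, h x - s ∈ K.map (algebraMap A S)) : Function.Surjective h := by
  have hK : ∀ z ∈ K.map (algebraMap A S), z ∈ h.range := by
    intro z hz
    refine Submodule.span_induction (p := fun z _ => z ∈ K.map (algebraMap A S) ∧ z ∈ h.range) ?_ ?_ ?_ ?_ hz |>.2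
    · rintro _ ⟨k, hk, rfl⟩
      exact ⟨Ideal.mem_map_of_mem _ hk, Subalgebra.algebraMap_mem _ k⟩
    · exact ⟨zero_mem _, zero_mem _⟩
    · exact fun x y _ _ hx hy => ⟨add_mem hx.1 hy.1, add_mem hx.2 hy.2⟩
    · rintro s x - ⟨hxK, hx⟩
      obtain ⟨y, hy⟩ := hmod s
      refine ⟨Ideal.mul_mem_left _ s hxK, ?_⟩
      have h0 : (h y - s) * x = 0 := by
        rw [← Ideal.mem_bot, ← mul_map_eq_bot hKK hS]
        exact Ideal.mul_mem_mul hy hxK
      rw [sub_mul, sub_eq_zero] at h0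
      rw [smul_eq_mul, ← h0]
      exact mul_mem ⟨y, rfl⟩ hx
  intro s
  obtain ⟨x, hx⟩ := hmod s
  obtain ⟨y, hy⟩ := hK _ hx
  exact ⟨x - y, by rw [map_sub, show h y = h x - s from hy, sub_sub_cancel]⟩

/-- If `X → S` has square zero kernel and `S` has an etale lift, elements of `K X` dying in `S` vanish. -/
theorem eq_zero_of_etLift {K K₂ : Ideal A} {X S L : Type u} [CommRing X] [Algebra A X] [CommRing S] [Algebra A S]
    [CommRing L] [Algebra A L] [Algebra.FormallySmooth A L] (h : X →ₐ[A] S) (hh : Function.Surjective h)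
    (𝔨 : Ideal X) (h𝔨 : 𝔨 * 𝔨 = ⊥) (hker : RingHom.ker h ≤ 𝔨) (hK : K.map (algebraMap A X) ≤ 𝔨)
    (hX : K₂.map (algebraMap A X) = ⊥) (q : L →ₐ[A] S) (hq : RingHom.ker q ≤ K₂.map (algebraMap A L))
    (hqs : Function.Surjective q) : ∀ z ∈ K.map (algebraMap A X), h z = 0 → z = 0 := by
  have hnil : IsNilpotent (RingHom.ker (h : X →+* S)) := ⟨2, by
    rw [sq, Ideal.zero_eq_bot, ← le_bot_iff, ← h𝔨]
    exact Ideal.mul_mono hker hker⟩
  let s := Algebra.FormallySmooth.liftOfSurjective q h hh hnil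
  have hs : ∀ l, h (s l) = q l := fun l => Algebra.FormallySmooth.liftOfSurjective_apply q h hh hnil l
  have hform : ∀ z ∈ K.map (algebraMap A X), z ∈ 𝔨 ∧ ∃ l, z = s l := by
    intro z hz
    refine Submodule.span_induction (p := fun z _ => z ∈ 𝔨 ∧ ∃ l, z = s l) ?_ ?_ ?_ ?_ hz
    · rintro _ ⟨k, hk, rfl⟩
      exact ⟨hK (Ideal.mem_map_of_mem _ hk), algebraMap A L k, (s.commutes k).symm⟩
    · exact ⟨zero_mem _, 0, (map_zero s).symm⟩
    · rintro x y - - ⟨hx, l, rfl⟩ ⟨hy, m, rfl⟩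
      exact ⟨add_mem hx hy, l + m, (map_add s l m).symm⟩
    · rintro c x - ⟨hx, l, rfl⟩
      obtain ⟨m, hm⟩ := hqs (h c)
      refine ⟨Ideal.mul_mem_left _ c hx, m * l, ?_⟩
      have h0 : (c - s m) * s l = 0 := by
        rw [← Ideal.mem_bot, ← h𝔨]
        exact Ideal.mul_mem_mul (hker (by rw [RingHom.mem_ker, map_sub, hs, hm, sub_self])) hx
      rw [sub_mul, sub_eq_zero] at h0
      rw [smul_eq_mul, h0, map_mul]
  intro z hz hz0
  obtain ⟨-, l, rfl⟩ := hform z hz
  rw [hs] at hz0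
  have h1 := Ideal.mem_map_of_mem s (hq (hz0 : l ∈ RingHom.ker q))
  rw [← Ideal.map_coe s, Ideal.map_map] at h1
  have e : (s : L →+* X).comp (algebraMap A L) = algebraMap A X := s.comp_algebraMap
  rw [e, hX, Ideal.mem_bot] at h1
  exact h1

theorem exists_uniform {X : Type u} [CommRing X] [IsNoetherianRing X] [Algebra A X] (a : A) (J₀ M₀ : Ideal X)
    (h : ∀ x ∈ J₀, algebraMap X (Aw X a) x ∈ M₀.map (algebraMap X (Aw X a))) :
    ∃ e : ℕ, ∀ x ∈ J₀, algebraMap A X a ^ e * x ∈ M₀ := by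
  classical
  have h1 : ∀ x ∈ J₀, ∃ e : ℕ, algebraMap A X a ^ e * x ∈ M₀ := fun x hx => by
    obtain ⟨_, ⟨k, rfl⟩, hk⟩ := (IsLocalization.algebraMap_mem_map_algebraMap_iff
      (Submonoid.powers (algebraMap A X a)) (Aw X a) M₀ x).1 (h x hx)
    exact ⟨k, hk⟩
  choose e he using h1
  obtain ⟨s, hs⟩ := IsNoetherian.noetherian J₀
  let f : X → ℕ := fun x => if hx : x ∈ J₀ then e x hx else 0
  refine ⟨s.sup f, fun x hx => ?_⟩
  rw [← hs] at hx
  refine Submodule.span_induction (p := fun x _ => algebraMap A X a ^ s.sup f * x ∈ M₀) ?_ (by simp) ?_ ?_ hx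
  · intro y hy
    have hyJ : y ∈ J₀ := hs ▸ Submodule.subset_span hy
    have h2 : e y hyJ ≤ s.sup f := le_trans (le_of_eq (dif_pos hyJ).symm) (Finset.le_sup (f := f) hy)
    rw [← Nat.sub_add_cancel h2, pow_add, mul_assoc]
    exact Ideal.mul_mem_left _ _ (he y hyJ)
  · intro u v _ _ hu hv
    rw [mul_add]
    exact add_mem hu hv
  · intro c u _ hu
    rw [smul_eq_mul, mul_left_comm]
    exact Ideal.mul_mem_left _ _ hu

end Groth.Agent.RigPts
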