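/-
The universal square zero thickening of a finitely presented algebra.
-/
import Groth.Agent.RigPts.FormalSol
import Groth.Agent.RigPts.Unram
import Mathlib.RingTheory.FiniteType
import Mathlib.RingTheory.Polynomial.Basic

set_option autoImplicit false
set_option linter.style.haveILetI false
set_option backward.isDefEq.respectTransparency false

universe u

open MvPolynomial

noncomputable section

namespace Groth.Agent.RigPts

variable {A : Type u} [CommRing A]

theorem aeval_add_of_sq_zero {S : Type u} [CommRing S] [Algebra A S] {n : ℕ} (f : MvPolynomial (Fin n) A)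
    (p q : Fin n → S) (𝔨 : Ideal S) (h𝔨 : 𝔨 * 𝔨 = ⊥) (hq : ∀ i, q i - p i ∈ 𝔨) :
    aeval q f = aeval p f + ∑ i, aeval p (pderiv i f) * (q i - p i) := by
  have haev : ∀ (g : MvPolynomial (Fin n) A) (v : Fin n → S), aeval v g = eval v (map (algebraMap A S) g) :=
    fun g v => by rw [eval_map]; rfl
  have ht := taylor_mem (map (algebraMap A S) f) p (fun i => q i - p i)
  have hle : (Ideal.span (Set.range fun i => q i - p i)) ^ 2 ≤ (⊥ : Ideal S) := by
    rw [sq, ← h𝔨]
    exact Ideal.mul_mono (Ideal.span_le.2 (by rintro _ ⟨i, rfl⟩; exact hq i))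
      (Ideal.span_le.2 (by rintro _ ⟨i, rfl⟩; exact hq i))
  have h0 := Ideal.mem_bot.1 (hle ht)
  have e : (p + fun i => q i - p i) = q := funext fun i => add_sub_cancel (p i) (q i)
  rw [e] at h0
  rw [haev, haev]
  simp only [haev, ← pderiv_map]
  linear_combination h0

/-- The thickening `R` of `B₀` : the quotient of a polynomial ring by `Q² + K₂`. -/
structure Thickening (A : Type u) [CommRing A] (K K₂ : Ideal A) (B₀ : Type u) [CommRing B₀] [Algebra A B₀] where
  R : Type u
  [commRing : CommRing R]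
  [algebra : Algebra A R]
  finiteType : Algebra.FiniteType A R
  π : R →ₐ[A] B₀
  surjective : Function.Surjective π
  sq : RingHom.ker π * RingHom.ker π = ⊥
  killed : K₂.map (algebraMap A R) = ⊥
  map_le : K.map (algebraMap A R) ≤ RingHom.ker π
  n : ℕ
  x : Fin n → R
  adjoin : Algebra.adjoin A (Set.range x) = ⊤
  d : RingHom.ker π →ₗ[R] (Fin n → R ⧸ RingHom.ker π)
  d_zero : ∀ r : RingHom.ker π, (r : R) ∈ K.map (algebraMap A R) → d r = 0
  lift : ∀ (S : Type u) [CommRing S] [Algebra A S] (S₀ : Type u) [CommRing S₀] [Algebra A S₀] (ρ : S →ₐ[A] S₀),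
    RingHom.ker ρ * RingHom.ker ρ = ⊥ → K₂.map (algebraMap A S) = ⊥ → ∀ (g : B₀ →ₐ[A] S₀) (v : Fin n → S),
      (∀ j, ρ (v j) = g (π (x j))) → ∃ h : R →ₐ[A] S, ρ.comp h = g.comp π ∧ ∀ j, h (x j) = v j
  formula : ∀ (S : Type u) [CommRing S] [Algebra A S] (h h' : R →ₐ[A] S) (𝔨 : Ideal S), 𝔨 * 𝔨 = ⊥ →
    (∀ r ∈ RingHom.ker π, h r ∈ 𝔨) → (∀ j, h' (x j) - h (x j) ∈ 𝔨) →
      ∀ (r : RingHom.ker π) (u : Fin n → R), (∀ i, d r i = Ideal.Quotient.mk _ (u i)) →
        h' r = h r + ∑ i, h (u i) * (h' (x i) - h (x i))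
  kills : ∀ (T : R), (∀ w : KaehlerDifferential A B₀, π T • w = 0) →
    ∀ i, ∃ w, d w = T • (Pi.single i 1 : Fin n → R ⧸ RingHom.ker π)

attribute [instance] Thickening.commRing Thickening.algebra

set_option maxHeartbeats 800000 in
theorem exists_thickening (K K₂ : Ideal A) (hK₂ : K₂ ≤ K) (B₀ : Type u) [CommRing B₀] [Algebra A B₀]
    [Algebra.FiniteType A B₀] (hK : K.map (algebraMap A B₀) = ⊥) : Nonempty (Thickening A K K₂ B₀) := by
  classical
  obtain ⟨n, π₀, hπ₀⟩ := Algebra.FiniteType.iff_quotient_mvPolynomial''.1 (inferInstance : Algebra.FiniteType A B₀)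
  let P := MvPolynomial (Fin n) A
  let Q : Ideal P := RingHom.ker π₀
  let Q₁ : Ideal P := Q * Q ⊔ K₂.map (algebraMap A P)
  have hKQ : K.map (algebraMap A P) ≤ Q := Ideal.map_le_iff_le_comap.2 fun k hk => by
    show π₀ (algebraMap A P k) = 0
    rw [AlgHom.commutes, ← Ideal.mem_bot, ← hK]
    exact Ideal.mem_map_of_mem _ hk
  have hQ₁ : Q₁ ≤ Q := sup_le Ideal.mul_le_left ((Ideal.map_mono hK₂).trans hKQ)
  let π : (P ⧸ Q₁) →ₐ[A] B₀ := Ideal.Quotient.liftₐ Q₁ π₀ fun f hf => hQ₁ hf
  have hπ : Function.Surjective π := fun b => by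
    obtain ⟨f, rfl⟩ := hπ₀ b
    exact ⟨Ideal.Quotient.mk Q₁ f, rfl⟩
  have hker : RingHom.ker π = Q.map (Ideal.Quotient.mk Q₁) := by
    refine le_antisymm (fun r hr => ?_) (Ideal.map_le_iff_le_comap.2 fun f hf => hf)
    obtain ⟨f, rfl⟩ := Ideal.Quotient.mk_surjective r
    exact Ideal.mem_map_of_mem _ hr
  let mk : P →ₐ[A] P ⧸ Q₁ := Ideal.Quotient.mkₐ A Q₁
  let x : Fin n → P ⧸ Q₁ := fun j => mk (X j)
  have haev : ∀ f : P, aeval x f = mk f := fun f =>
    DFunLike.congr_fun (algHom_ext (fun i => aeval_X x i) : aeval x = mk) f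
  let N := RingHom.ker π
  let v : P → Fin n → (P ⧸ Q₁) ⧸ N := fun f i => Ideal.Quotient.mk N (mk (pderiv i f))
  have hv_add : ∀ f g, v (f + g) = v f + v g := fun f g => funext fun i => by simp [v]
  have hvQ : ∀ f, f ∈ Q₁ → v f = 0 := by
    intro f hf
    refine funext fun i => Ideal.Quotient.eq_zero_iff_mem.2 ?_
    show π₀ (pderiv i f) = 0
    obtain ⟨p, hp, q, hq, rfl⟩ := Submodule.mem_sup.1 hf
    rw [map_add, map_add]
    have h1 : π₀ (pderiv i p) = 0 := by
      refine Submodule.mul_induction_on (C := fun p => π₀ (pderiv i p) = 0) hp (fun a ha b hb => ?_)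
        (fun a b ha hb => by rw [map_add, map_add, ha, hb, add_zero])
      rw [pderiv_mul, map_add, map_mul, map_mul, show π₀ a = 0 from ha, show π₀ b = 0 from hb, mul_zero, zero_mul,
        add_zero]
    have h2 : π₀ (pderiv i q) = 0 := by
      refine Submodule.span_induction (p := fun q _ => π₀ (pderiv i q) = 0) ?_ (by simp) ?_ ?_ hq
      · rintro _ ⟨k, -, rfl⟩
        rw [Derivation.map_algebraMap, map_zero]
      · intro a b _ _ ha hb
        rw [map_add, map_add, ha, hb, add_zero]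
      · intro c a hamem ha
        rw [smul_eq_mul, pderiv_mul, map_add, map_mul, map_mul, ha, mul_zero, add_zero,
          show π₀ a = 0 from hKQ (Ideal.map_mono hK₂ hamem), mul_zero]
    rw [h1, h2, add_zero]
  choose f hf using fun r : P ⧸ Q₁ => Ideal.Quotient.mk_surjective r
  have hvf : ∀ p, v (f (Ideal.Quotient.mk Q₁ p)) = v p := fun p => by
    have h := hvQ _ (Ideal.Quotient.eq.1 (hf (Ideal.Quotient.mk Q₁ p)))
    have e := hv_add (f (Ideal.Quotient.mk Q₁ p) - p) p
    rw [sub_add_cancel, h, zero_add] at e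
    exact e
  let d : N →ₗ[P ⧸ Q₁] (Fin n → (P ⧸ Q₁) ⧸ N) :=
    { toFun := fun r => v (f r)
      map_add' := fun a b => by
        rw [← hv_add, show ((a + b : N) : P ⧸ Q₁) = Ideal.Quotient.mk Q₁ (f a + f b) by rw [map_add, hf, hf]; rfl, hvf]
      map_smul' := fun c a => by
        rw [RingHom.id_apply, show ((c • a : N) : P ⧸ Q₁) = Ideal.Quotient.mk Q₁ (f c * f a) by
          rw [map_mul, hf, hf]; rfl, hvf]
        refine funext fun i => ?_
        show Ideal.Quotient.mk N (mk (pderiv i (f c * f a))) = c • Ideal.Quotient.mk N (mk (pderiv i (f a)))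
        show _ = Ideal.Quotient.mk N (c * mk (pderiv i (f a)))
        refine Ideal.Quotient.eq.2 ?_
        rw [pderiv_mul, map_add, map_mul, map_mul, show mk (f c) = c from hf c,
          show mk (f a) = (a : P ⧸ Q₁) from hf a, add_sub_cancel_right]
        exact Ideal.mul_mem_left _ _ a.2 }
  refine ⟨{ R := P ⧸ Q₁, finiteType := inferInstance, π := π, surjective := hπ, sq := ?_, killed := ?_, map_le := ?_, n := n, x := x, adjoin := ?_, d := d, d_zero := ?_, lift := ?_, formula := ?_, kills := ?_ }⟩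
  · rw [hker, ← Ideal.map_mul, Ideal.map_eq_bot_iff_le_ker, Ideal.mk_ker]
    exact le_sup_left
  · rw [← Ideal.Quotient.mk_comp_algebraMap, ← Ideal.map_map, Ideal.map_eq_bot_iff_le_ker, Ideal.mk_ker]
    exact le_sup_right
  · rw [hker, ← Ideal.Quotient.mk_comp_algebraMap, ← Ideal.map_map]
    exact Ideal.map_mono hKQ
  · rw [Algebra.adjoin_range_eq_range_aeval, eq_top_iff]
    rintro r -
    obtain ⟨p, rfl⟩ := Ideal.Quotient.mk_surjective r
    exact ⟨p, haev p⟩
  · intro r hr
    rw [← Ideal.Quotient.mk_comp_algebraMap, ← Ideal.map_map,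
      Ideal.mem_map_iff_of_surjective _ Ideal.Quotient.mk_surjective] at hr
    obtain ⟨p, hp, hpr⟩ := hr
    show v (f r) = 0
    rw [← hpr, hvf]
    refine funext fun i => Ideal.Quotient.eq_zero_iff_mem.2 ?_
    show π₀ (pderiv i p) = 0
    refine Submodule.span_induction (p := fun q _ => π₀ (pderiv i q) = 0) ?_ (by simp) ?_ ?_ hp
    · rintro _ ⟨k, -, rfl⟩
      rw [Derivation.map_algebraMap, map_zero]
    · intro a b _ _ ha hb
      rw [map_add, map_add, ha, hb, add_zero]
    · intro c a hamem ha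
      rw [smul_eq_mul, pderiv_mul, map_add, map_mul, map_mul, ha, mul_zero, add_zero,
        show π₀ a = 0 from hKQ hamem, mul_zero]
  · intro S _ _ S₀ _ _ ρ hρ hS g w hw
    have hcomp : ρ.comp (aeval w) = g.comp π₀ := algHom_ext fun j => by
      show ρ (aeval w (X j)) = g (π₀ (X j))
      rw [aeval_X]
      exact hw j
    have hzero : ∀ p ∈ Q₁, aeval w p = 0 := by
      intro p hp
      obtain ⟨a, ha, b, hb, rfl⟩ := Submodule.mem_sup.1 hp
      have hQker : Q ≤ (RingHom.ker ρ).comap (aeval w) := fun q hq => by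
        rw [Ideal.mem_comap, RingHom.mem_ker]
        exact (DFunLike.congr_fun hcomp q).trans (by show g (π₀ q) = 0; rw [show π₀ q = 0 from hq, map_zero])
      have h1 : aeval w a = 0 := by
        refine Submodule.mul_induction_on (C := fun p => aeval w p = 0) ha (fun p hp q hq => ?_)
          (fun p q hp hq => by rw [map_add, hp, hq, add_zero])
        rw [map_mul, ← Ideal.mem_bot, ← hρ]
        exact Ideal.mul_mem_mul (hQker hp) (hQker hq)
      have h2 : aeval w b = 0 := by
        have hle : K₂.map (algebraMap A P) ≤ RingHom.ker (aeval w : P →ₐ[A] S) :=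
          Ideal.map_le_iff_le_comap.2 fun k hk => by
            show aeval w (algebraMap A P k) = 0
            rw [AlgHom.commutes, ← Ideal.mem_bot, ← hS]
            exact Ideal.mem_map_of_mem _ hk
        exact hle hb
      rw [map_add, h1, h2, add_zero]
    refine ⟨Ideal.Quotient.liftₐ Q₁ (aeval w) hzero, AlgHom.ext fun r => ?_, fun j => aeval_X w j⟩
    obtain ⟨p, rfl⟩ := Ideal.Quotient.mk_surjective r
    exact DFunLike.congr_fun hcomp p
  · intro S _ _ h h' 𝔨 h𝔨 hN hx r u hu
    have e1 : ∀ g : (P ⧸ Q₁) →ₐ[A] S, ∀ p, g (mk p) = aeval (fun j => g (x j)) p := fun g p =>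
      DFunLike.congr_fun (algHom_ext (fun j => (aeval_X (fun j => g (x j)) j).symm) :
        g.comp mk = aeval fun j => g (x j)) p
    have hr : (r : P ⧸ Q₁) = mk (f r) := (hf r).symm
    rw [hr, e1 h', e1 h, aeval_add_of_sq_zero (f r) _ _ 𝔨 h𝔨 hx]
    refine congrArg _ (Finset.sum_congr rfl fun i _ => ?_)
    rw [← e1 h, ← sub_eq_zero, ← sub_mul, ← Ideal.mem_bot, ← h𝔨]
    refine Ideal.mul_mem_mul ?_ (hx i)
    rw [← map_sub]
    exact hN _ (Ideal.Quotient.eq.1 (hu i))
  · intro T hT i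
    obtain ⟨g, hg, hgd⟩ := exists_system π₀ hπ₀ (π T) hT
    refine ⟨⟨mk (g i), hg i⟩, ?_⟩
    show v (f (Ideal.Quotient.mk Q₁ (g i))) = _
    rw [hvf]
    refine funext fun j => ?_
    show Ideal.Quotient.mk N (mk (pderiv j (g i))) = _
    show _ = Ideal.Quotient.mk N T * (Pi.single i (1 : (P ⧸ Q₁) ⧸ N) : Fin n → (P ⧸ Q₁) ⧸ N) j
    rcases eq_or_ne i j with rfl | hij
    · rw [Pi.single_eq_same, mul_one]
      refine Ideal.Quotient.eq.2 ?_
      show π (mk (pderiv i (g i)) - T) = 0
      rw [map_sub, show π (mk (pderiv i (g i))) = π₀ (pderiv i (g i)) from rfl, hgd, if_pos rfl, sub_self]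
    · rw [Pi.single_eq_of_ne hij.symm, mul_zero]
      refine Ideal.Quotient.eq_zero_iff_mem.2 ?_
      show π₀ (pderiv j (g i)) = 0
      rw [hgd, if_neg hij]

end Groth.Agent.RigPts
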