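/-
Algebraisation of a deformation along a square zero thickening.
-/
import Groth.Agent.RigPts.LiftCore
import Groth.Agent.RigPts.LiftPres
import Groth.Agent.RigPts.LiftAway
import Groth.Agent.MultT.NilIso
import Groth.Agent.Hensel.PairNoeth

set_option autoImplicit false
set_option linter.style.haveILetI false
set_option backward.isDefEq.respectTransparency false

universe u

open scoped TensorProduct

noncomputable section

namespace Groth.Agent.RigPts

variable {A : Type u} [CommRing A]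

theorem exists_hom_lift {R R' C C₀ : Type u} [CommRing R] [Algebra A R] [CommRing R'] [Algebra A R'] [Algebra R R']
    [IsScalarTower A R R'] [Algebra.FormallySmooth R R'] [CommRing C] [Algebra A C] [CommRing C₀] [Algebra A C₀]
    (m : C →ₐ[A] C₀) (hm : Function.Surjective m) (hnil : RingHom.ker m * RingHom.ker m = ⊥)
    (f : R →ₐ[A] C) (q₀ : R' →ₐ[A] C₀) (hcompat : ∀ r, m (f r) = q₀ (algebraMap R R' r)) :
    ∃ φ : R' →ₐ[A] C, (∀ r, φ (algebraMap R R' r) = f r) ∧ ∀ z, m (φ z) = q₀ z := by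
  letI : Algebra R C := f.toRingHom.toAlgebra
  letI : Algebra R C₀ := (m.comp f).toRingHom.toAlgebra
  haveI : IsScalarTower A R C := IsScalarTower.of_algebraMap_eq fun x => (f.commutes x).symm
  let m' : C →ₐ[R] C₀ := { m.toRingHom with commutes' := fun r => rfl }
  let q' : R' →ₐ[R] C₀ := { q₀.toRingHom with commutes' := fun r => (hcompat r).symm }
  have hnil' : IsNilpotent (RingHom.ker (m' : C →+* C₀)) := ⟨2, by rw [sq, Ideal.zero_eq_bot]; exact hnil⟩
  refine ⟨(Algebra.FormallySmooth.liftOfSurjective q' m' hm hnil').restrictScalars A,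
    fun r => (Algebra.FormallySmooth.liftOfSurjective q' m' hm hnil').commutes r,
    fun z => Algebra.FormallySmooth.liftOfSurjective_apply q' m' hm hnil' z⟩

theorem etale_of_kernel {R R' C B : Type u} [CommRing R] [CommRing R'] [Algebra R R'] [Algebra.Etale R R']
    [CommRing C] [CommRing B] (mkB : R →+* B) (hmkB : Function.Surjective mkB) (φ : R' →+* C)
    (hφ : Function.Surjective φ) (ψ : B →+* C) (hψ : ∀ r, ψ (mkB r) = φ (algebraMap R R' r))
    (hker : RingHom.ker φ ≤ (RingHom.ker mkB).map (algebraMap R R')) : ψ.Etale := by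
  letI : Algebra R B := mkB.toAlgebra
  letI : Algebra B C := ψ.toAlgebra
  letI : Algebra R C := (φ.comp (algebraMap R R')).toAlgebra
  haveI : IsScalarTower R B C := IsScalarTower.of_algebraMap_eq fun r => (hψ r).symm
  let Φ : B ⊗[R] R' →ₐ[B] C :=
    Algebra.TensorProduct.lift (Algebra.ofId B C) ({ φ with commutes' := fun r => rfl } : R' →ₐ[R] C)
      fun _ _ => Commute.all _ _
  have hone : ∀ z : B ⊗[R] R', ∃ s, z = (1 : B) ⊗ₜ s := fun z => by
    induction z using TensorProduct.induction_on with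
    | zero => exact ⟨0, (TensorProduct.tmul_zero _ _).symm⟩
    | add a b ha hb =>
      obtain ⟨x, rfl⟩ := ha
      obtain ⟨y, rfl⟩ := hb
      exact ⟨x + y, (TensorProduct.tmul_add _ _ _).symm⟩
    | tmul b s =>
      obtain ⟨r, rfl⟩ := hmkB b
      refine ⟨r • s, ?_⟩
      rw [← TensorProduct.smul_tmul, Algebra.smul_def, mul_one]
      rfl
  have hΦ : ∀ s, Φ ((1 : B) ⊗ₜ s) = φ s := fun s => by
    show algebraMap B C 1 * φ s = φ s
    rw [map_one, one_mul]
  have hbij : Function.Bijective Φ := by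
    refine ⟨(injective_iff_map_eq_zero _).2 fun z hz => ?_, fun c => ?_⟩
    · obtain ⟨s, rfl⟩ := hone z
      rw [hΦ] at hz
      have hle : (RingHom.ker mkB).map (algebraMap R R') ≤
          RingHom.ker (Algebra.TensorProduct.includeRight : R' →ₐ[R] B ⊗[R] R') := by
        rw [Ideal.map_le_iff_le_comap]
        intro r hr
        rw [Ideal.mem_comap, RingHom.mem_ker, AlgHom.commutes, Algebra.TensorProduct.algebraMap_apply,
          show algebraMap R B r = 0 from hr, TensorProduct.zero_tmul]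
      exact hle (hker hz)
    · obtain ⟨s, rfl⟩ := hφ c
      exact ⟨1 ⊗ₜ s, hΦ s⟩
  haveI : Algebra.Etale B C := Algebra.Etale.of_equiv (AlgEquiv.ofBijective Φ hbij)
  exact RingHom.etale_algebraMap.2 this

set_option maxHeartbeats 1600000 in
/-- The square zero step: lift `B₀` along `A/K₂ → A/K`, given the lift `C` of an etale neighbourhood `C₀` of
`V(I)` in it. -/
theorem exists_lift_step [IsNoetherianRing A] (I K K₂ : Ideal A) (hK₂ : K₂ ≤ K) (hKK : K * K ≤ K₂)
    (C : Type u) [CommRing C] [Algebra A C] [Algebra.FiniteType A C] (hC0 : K₂.map (algebraMap A C) = ⊥)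
    (hC : EtLift I K₂ C)
    (C₀ : Type u) [CommRing C₀] [Algebra A C₀] (mkC : C →ₐ[A] C₀) (hmkC : Function.Surjective mkC)
    (hkerC : RingHom.ker mkC = K.map (algebraMap A C))
    (B₀ : Type u) [CommRing B₀] [Algebra A B₀] [Algebra.FiniteType A B₀] (hB0K : K.map (algebraMap A B₀) = ⊥)
    (hB : EtLift I K B₀) (φ₀ : B₀ →ₐ[A] C₀) (hφ₀ : φ₀.toRingHom.Etale)
    (hsurj : ∀ c : C₀, ∃ b, φ₀ b - c ∈ I.map (algebraMap A C₀))
    (hprime : ∀ p : Ideal B₀, p.IsPrime → I.map (algebraMap A B₀) ≤ p →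
      ∃ q : Ideal C₀, q.IsPrime ∧ q.comap φ₀ = p) :
    ∃ (B : Type u) (_ : CommRing B) (_ : Algebra A B), Algebra.FiniteType A B ∧ K₂.map (algebraMap A B) = ⊥ ∧
      EtLift I K₂ B ∧ ∃ (ρ : B →ₐ[A] B₀) (ψ : B →ₐ[A] C), Function.Surjective ρ ∧
        RingHom.ker ρ = K.map (algebraMap A B) ∧ ψ.toRingHom.Etale ∧ ∀ b, φ₀ (ρ b) = mkC (ψ b) := by
  classical
  obtain ⟨Θ⟩ := exists_thickening K K₂ hK₂ B₀ hB0K
  let R := Θ.R
  let N : Ideal R := RingHom.ker Θ.π
  haveI : Algebra.FiniteType A R := Θ.finiteType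
  haveI : IsNoetherianRing R := Algebra.FiniteType.isNoetherianRing A R
  have hNN : N * N = ⊥ := Θ.sq
  have hNnil : ∀ x ∈ N, IsNilpotent x := fun x hx => ⟨2, by
    rw [sq, ← Ideal.mem_bot, ← hNN]
    exact Ideal.mul_mem_mul hx hx⟩
  -- the etale lift of `C₀` over `R`
  let e₀ : (R ⧸ N) ≃+* B₀ := RingHom.quotientKerEquivOfSurjective Θ.surjective
  have he₀ : ∀ r : R, e₀ (Ideal.Quotient.mk N r) = Θ.π r := fun r => rfl
  letI : Algebra (R ⧸ N) C₀ := (φ₀.toRingHom.comp e₀.toRingHom).toAlgebra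
  haveI : Algebra.Etale (R ⧸ N) C₀ :=
    RingHom.etale_algebraMap.1 ((RingHom.Etale.respectsIso.2 φ₀.toRingHom e₀) hφ₀)
  obtain ⟨R', _, _, hR', ⟨eR⟩⟩ := MultT.exists_etale_lift hNnil C₀
  haveI := hR'
  letI : Algebra A R' := ((algebraMap R R').comp (algebraMap A R)).toAlgebra
  haveI : IsScalarTower A R R' := IsScalarTower.of_algebraMap_eq' rfl
  haveI : IsNoetherianRing R' := Algebra.FiniteType.isNoetherianRing R R'
  have hK₂R' : K₂.map (algebraMap A R') = ⊥ := by
    rw [IsScalarTower.algebraMap_eq A R R', ← Ideal.map_map, Θ.killed, Ideal.map_bot]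
  let N' : Ideal R' := N.map (algebraMap R R')
  have hN'N' : N' * N' = ⊥ := by rw [← Ideal.map_mul, hNN, Ideal.map_bot]
  have heR : ∀ r : R, eR (Ideal.Quotient.mk N' (algebraMap R R' r)) = φ₀ (Θ.π r) := fun r =>
    eR.commutes (Ideal.Quotient.mk N r)
  let q₀ : R' →ₐ[A] C₀ :=
    { eR.toRingEquiv.toRingHom.comp (Ideal.Quotient.mk N') with
      commutes' := fun x => by
        show eR (Ideal.Quotient.mk N' (algebraMap A R' x)) = _
        rw [IsScalarTower.algebraMap_apply A R R', heR, AlgHom.commutes, AlgHom.commutes] }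
  have hq₀ : ∀ r : R, q₀ (algebraMap R R' r) = φ₀ (Θ.π r) := heR
  have hq₀surj : Function.Surjective q₀ := fun c => by
    obtain ⟨z, hz⟩ := Ideal.Quotient.mk_surjective (eR.symm c)
    exact ⟨z, (congrArg eR hz).trans (eR.apply_symm_apply c)⟩
  have hq₀ker : ∀ z, q₀ z = 0 ↔ z ∈ N' := fun z => by
    show eR (Ideal.Quotient.mk N' z) = 0 ↔ _
    rw [map_eq_zero_iff _ eR.injective, Ideal.Quotient.eq_zero_iff_mem]
  -- lift to `C`
  have hCsq : RingHom.ker mkC * RingHom.ker mkC = ⊥ := by rw [hkerC]; exact mul_map_eq_bot hKK hC0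
  choose v hv using fun j => hmkC (φ₀ (Θ.π (Θ.x j)))
  obtain ⟨f₀, hf₀, hf₀x⟩ := Θ.lift C C₀ mkC hCsq hC0 φ₀ v hv
  have hf₀' : ∀ r, mkC (f₀ r) = q₀ (algebraMap R R' r) := fun r => (DFunLike.congr_fun hf₀ r).trans (hq₀ r).symm
  obtain ⟨φ, hφ, hφq⟩ := exists_hom_lift mkC hmkC hCsq f₀ q₀ hf₀'
  have hsurjφ : ∀ φ' : R' →ₐ[A] C, (∀ z, mkC (φ' z) = q₀ z) → Function.Surjective φ' := fun φ' h' =>
    surjective_of_surjective_mod hKK hC0 φ' fun c => by
      obtain ⟨z, hz⟩ := hq₀surj (mkC c)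
      refine ⟨z, ?_⟩
      rw [← hkerC, RingHom.mem_ker, map_sub, h', hz, sub_self]
  have hφsurj := hsurjφ φ hφq
  letI : Algebra R C := f₀.toRingHom.toAlgebra
  let φR : R' →ₐ[R] C := { φ.toRingHom with commutes' := hφ }
  let M₀ : Ideal R := K.map (algebraMap A R)
  have hM₀N : M₀ ≤ N := Θ.map_le
  have hM₀' : M₀.map (algebraMap R R') = K.map (algebraMap A R') := by
    rw [Ideal.map_map, ← IsScalarTower.algebraMap_eq]
  have hmapK : (K.map (algebraMap A R')).map φ = K.map (algebraMap A C) := by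
    rw [← Ideal.map_coe φ, Ideal.map_map]
    exact congrArg (fun g => K.map g) φ.comp_algebraMap
  -- generators of `I` and exponents
  obtain ⟨r, a, ha⟩ := Submodule.fg_iff_exists_fin_generating_family.1 (IsNoetherian.noetherian I)
  have haI : ∀ k, a k ∈ I := fun k => ha ▸ Submodule.subset_span ⟨k, rfl⟩
  let dN : N →ₗ[R] (Fin Θ.n → R ⧸ N) := Θ.d
  have hexp : ∀ k, ∃ E : ℕ, 1 ≤ E ∧
      (∀ x : N, dN x = 0 → algebraMap A R (a k ^ E) * (x : R) ∈ M₀) ∧
      (∀ i, ∃ w : N, dN w = algebraMap A R (a k ^ E) • (Pi.single i 1 : Fin Θ.n → R ⧸ N)) ∧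
      ∀ z ∈ M₀.map (algebraMap R R'), φ z = 0 → algebraMap A R' (a k ^ E) * z = 0 := by
    intro k
    obtain ⟨L, _, _, hL, q, hqs, hqk⟩ := hB (a k) (haI k)
    haveI := hL
    -- unramified
    haveI : Algebra.FormallyUnramified A (Localization.Away (algebraMap A B₀ (a k))) :=
      Algebra.FormallyUnramified.of_surjective q hqs
    obtain ⟨e₁, -, he₁⟩ := exists_pow_smul_kaehler (A := A) (algebraMap A B₀ (a k))
    -- kernel of `d`
    let πa := awMap Θ.π (a k)
    have hπas : Function.Surjective πa := awMap_surjective Θ.π Θ.surjective (a k)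
    let 𝔨 : Ideal (Aw R (a k)) := N.map (algebraMap R (Aw R (a k)))
    have hπak : RingHom.ker πa = 𝔨 := ker_awMap Θ.π (a k)
    have h𝔨 : 𝔨 * 𝔨 = ⊥ := by rw [← Ideal.map_mul, hNN, Ideal.map_bot]
    have hnil : IsNilpotent (RingHom.ker (πa : Aw R (a k) →+* Aw B₀ (a k))) := ⟨2, by
      rw [sq, Ideal.zero_eq_bot]
      show RingHom.ker πa * RingHom.ker πa = ⊥
      rw [hπak, h𝔨]⟩
    let s := Algebra.FormallySmooth.liftOfSurjective q πa hπas hnil
    have hs : ∀ l, πa (s l) = q l := fun l => Algebra.FormallySmooth.liftOfSurjective_apply q πa hπas hnil l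
    have hK₂a : K₂.map (algebraMap A (Aw R (a k))) = ⊥ := by
      rw [IsScalarTower.algebraMap_eq A R (Aw R (a k)), ← Ideal.map_map, Θ.killed, Ideal.map_bot]
    choose l hl using fun j => hqs (algebraMap B₀ (Aw B₀ (a k)) (Θ.π (Θ.x j)))
    obtain ⟨g, hg, hgx⟩ := Θ.lift (Aw R (a k)) (Aw B₀ (a k)) πa (by rw [hπak, h𝔨]) hK₂a (toAw B₀ (a k))
      (fun j => s (l j)) (fun j => by rw [hs, hl]; rfl)
    have hgrange : ∀ y, g y ∈ s.range := fun y => by
      have hy : y ∈ Algebra.adjoin A (Set.range Θ.x) := by rw [Θ.adjoin]; exact Algebra.mem_top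
      induction hy using Algebra.adjoin_induction with
      | mem z hz =>
        obtain ⟨j, rfl⟩ := hz
        rw [hgx]
        exact ⟨_, rfl⟩
      | algebraMap c => rw [AlgHom.commutes]; exact Subalgebra.algebraMap_mem _ c
      | add x y _ _ hx hy => rw [map_add]; exact add_mem hx hy
      | mul x y _ _ hx hy => rw [map_mul]; exact mul_mem hx hy
    have hkerd : ∀ x ∈ (LinearMap.ker dN).map N.subtype,
        algebraMap R (Aw R (a k)) x ∈ M₀.map (algebraMap R (Aw R (a k))) := by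
      rintro _ ⟨x, hx, rfl⟩
      have hg𝔨 : ∀ y ∈ N, g y ∈ 𝔨 := fun y hy => by
        rw [← hπak, RingHom.mem_ker]
        exact (DFunLike.congr_fun hg y).trans (by
          show toAw B₀ (a k) (Θ.π y) = 0
          rw [show Θ.π y = 0 from hy, map_zero])
      have h1 := Θ.formula (Aw R (a k)) g (toAw R (a k)) 𝔨 h𝔨 hg𝔨 (fun j => by
        rw [← hπak, RingHom.mem_ker, map_sub, sub_eq_zero]
        refine (awMap_apply Θ.π (a k) (Θ.x j)).trans ?_
        exact (DFunLike.congr_fun hg (Θ.x j)).symm) x (fun _ => 0) (fun i => by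
          rw [map_zero]
          exact congrFun hx i)
      simp only [map_zero, zero_mul, Finset.sum_const_zero, add_zero] at h1
      show algebraMap R (Aw R (a k)) (x : R) ∈ _
      rw [show algebraMap R (Aw R (a k)) (x : R) = g x from h1]
      obtain ⟨l', hl'⟩ := hgrange x
      rw [← hl']
      have h0 : q l' = 0 := by
        rw [← hs]
        exact (congrArg πa hl').trans ((DFunLike.congr_fun hg (x : R)).trans (by
          show toAw B₀ (a k) (Θ.π x) = 0
          rw [show Θ.π x = 0 from x.2, map_zero]))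
      have h2 := Ideal.mem_map_of_mem s ((hqk ▸ h0 : l' ∈ K.map (algebraMap A L)))
      rw [← Ideal.map_coe s, Ideal.map_map] at h2
      rw [Ideal.map_map, ← IsScalarTower.algebraMap_eq]
      exact (congrArg (fun γ => s l' ∈ K.map γ) s.comp_algebraMap).mp h2
    obtain ⟨e₂, he₂⟩ := exists_uniform (A := A) (a k) ((LinearMap.ker dN).map N.subtype) M₀ hkerd
    -- torsion of the kernel in `C`
    obtain ⟨LC, _, _, hLC, qC, hqCs, hqCk⟩ := hC (a k) (haI k)
    haveI := hLC
    have hCtor : ∀ z ∈ K.map (algebraMap A R') ⊓ RingHom.ker φ,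
        algebraMap R' (Aw R' (a k)) z ∈ (⊥ : Ideal R').map (algebraMap R' (Aw R' (a k))) := by
      rintro z ⟨hz, hzφ⟩
      rw [Ideal.map_bot, Ideal.mem_bot]
      refine eq_zero_of_etLift (K := K) (K₂ := K₂) (awMap φ (a k)) (awMap_surjective φ hφsurj (a k))
        (N'.map (algebraMap R' (Aw R' (a k)))) ?_ ?_ ?_ ?_ qC hqCk.le hqCs _ ?_ ?_
      · rw [← Ideal.map_mul, hN'N', Ideal.map_bot]
      · rw [ker_awMap]
        refine Ideal.map_mono fun y hy => (hq₀ker y).1 ?_
        rw [← hφq, show φ y = 0 from hy, map_zero]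
      · rw [IsScalarTower.algebraMap_eq A R' (Aw R' (a k)), ← Ideal.map_map, ← hM₀']
        exact Ideal.map_mono (Ideal.map_mono hM₀N)
      · rw [IsScalarTower.algebraMap_eq A R' (Aw R' (a k)), ← Ideal.map_map, hK₂R', Ideal.map_bot]
      · rw [IsScalarTower.algebraMap_eq A R' (Aw R' (a k)), ← Ideal.map_map]
        exact Ideal.mem_map_of_mem _ hz
      · rw [awMap_apply, show φ z = 0 from hzφ, map_zero]
    obtain ⟨e₃, he₃⟩ := exists_uniform (A := A) (a k) _ (⊥ : Ideal R') hCtor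
    refine ⟨e₁ + e₂ + e₃ + 1, Nat.succ_pos _, fun x hx => ?_, fun i => ?_, fun z hz hzφ => ?_⟩
    · rw [show e₁ + e₂ + e₃ + 1 = (e₁ + e₃ + 1) + e₂ by omega, pow_add, map_mul, map_pow (algebraMap A R) _ e₂,
        mul_assoc]
      exact Ideal.mul_mem_left _ _ (he₂ _ ⟨x, hx, rfl⟩)
    · obtain ⟨w, hw⟩ := Θ.kills (algebraMap A R (a k ^ e₁)) (fun ω => by
        rw [AlgHom.commutes, map_pow]; exact he₁ ω) i
      refine ⟨algebraMap A R (a k ^ (e₂ + e₃ + 1)) • w, ?_⟩
      rw [map_smul, show dN w = _ from hw, smul_smul, ← map_mul, ← pow_add]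
      congr 3
      omega
    · have h3 := Ideal.mem_bot.1 (he₃ z ⟨hM₀' ▸ hz, hzφ⟩)
      rw [show e₁ + e₂ + e₃ + 1 = (e₁ + e₂ + 1) + e₃ by omega, pow_add, map_mul, map_pow (algebraMap A R') _ e₃,
        mul_assoc, h3, mul_zero]
  choose E hE hEker hEw hEtor using hexp
  have haE : I ≤ (Ideal.span (Set.range fun k => a k ^ E k)).radical := by
    conv_lhs => rw [← ha]
    refine Submodule.span_le.2 ?_
    rintro _ ⟨k, rfl⟩
    exact ⟨E k, Ideal.subset_span ⟨k, rfl⟩⟩
  let a' : Fin r → R := fun k => algebraMap A R (a k ^ E k)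
  have ha' : I.map (algebraMap A R) ≤ (Ideal.span (Set.range a')).radical := by
    refine (Ideal.map_mono haE).trans ((Ideal.map_radical_le _).trans (le_of_eq ?_))
    rw [Ideal.map_span, ← Set.range_comp]
    rfl
  obtain ⟨𝔟, t, h𝔟N, h𝔟M, h𝔟tor, ht, h𝔟ker, h𝔟eq⟩ := exists_descent_ideal φR N M₀ hNN hM₀N
    (fun x hx => by
      have h1 : algebraMap R C x ∈ (K.map (algebraMap A R')).map φ := by
        rw [hmapK, ← hkerC, RingHom.mem_ker]
        exact (DFunLike.congr_fun hf₀ x).trans (by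
          show φ₀ (Θ.π x) = 0
          rw [show Θ.π x = 0 from hx, map_zero])
      obtain ⟨z, hz, hzx⟩ := (Ideal.mem_map_iff_of_surjective _ hφsurj).1 h1
      exact ⟨z, by rw [hM₀']; exact hz, hzx⟩)
    a' dN Θ.d_zero hEker hEw
    (fun k z hz hz0 => by
      rw [← IsScalarTower.algebraMap_apply A R R']
      exact hEtor k z hz hz0)
    (fun c hNc hac => by
      have hIc : I.map (algebraMap A R) ⊔ N ≤ c.radical :=
        sup_le (ha'.trans (Ideal.radical_le_radical_iff.2 hac)) (hNc.trans Ideal.le_radical)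
      obtain ⟨m, hm⟩ := Ideal.exists_pow_le_of_le_radical_of_fg hIc (IsNoetherian.noetherian _)
      intro y
      obtain ⟨x, hx⟩ := Hensel.exists_sub_mem_pow (I.map (algebraMap A R) ⊔ N) R' (fun y => by
        obtain ⟨b, hb⟩ := hsurj (q₀ y)
        obtain ⟨x, rfl⟩ := Θ.surjective b
        refine ⟨x, ?_⟩
        rw [← hq₀, ← map_sub] at hb
        rw [← q₀.comp_algebraMap, ← Ideal.map_map, Ideal.map_coe,
          Ideal.mem_map_iff_of_surjective q₀ hq₀surj] at hb
        obtain ⟨z, hz, hzx⟩ := hb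
        rw [Ideal.map_sup, Ideal.map_map, ← IsScalarTower.algebraMap_eq]
        have hzN : z - (algebraMap R R' x - y) ∈ N' := (hq₀ker _).1 (by
          rw [map_sub, sub_eq_zero]
          exact hzx)
        have h4 := sub_mem (Ideal.mem_sup_right hzN : _ ∈ I.map (algebraMap A R') ⊔ N') (Ideal.mem_sup_left hz)
        rwa [sub_sub_cancel_left, neg_sub] at h4) m y
      exact ⟨x, Ideal.map_mono hm (by rw [Ideal.map_pow]; exact hx)⟩)
    (fun p hp hNp hap => by
      have hIp : I.map (algebraMap A R) ≤ p :=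
        ha'.trans ((Ideal.radical_mono hap).trans hp.radical.le)
      haveI := hp
      haveI : (p.map Θ.π).IsPrime := Ideal.map_isPrime_of_surjective Θ.surjective hNp
      obtain ⟨q, hq, hqp⟩ := hprime (p.map Θ.π) inferInstance (by
        rw [← Θ.π.comp_algebraMap, ← Ideal.map_map]
        exact Ideal.map_mono hIp)
      refine ⟨q.comap q₀, inferInstance, ?_⟩
      ext x
      rw [Ideal.mem_comap, Ideal.mem_comap, hq₀, ← Ideal.mem_comap, hqp,
        ← Ideal.mem_comap, Ideal.comap_map_of_surjective Θ.π Θ.surjective, ← RingHom.ker_eq_comap_bot,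
        sup_eq_left.2 hNp])
  -- the adjusted lift
  have htK : ∀ j, t j ∈ RingHom.ker mkC := fun j => by
    obtain ⟨z, hz, hzt⟩ := ht j
    rw [hkerC, ← hmapK, ← hzt]
    exact Ideal.mem_map_of_mem φ (hM₀' ▸ hz)
  obtain ⟨f₁, hf₁, hf₁x⟩ := Θ.lift C C₀ mkC hCsq hC0 φ₀ (fun j => v j + t j) (fun j => by
    rw [map_add, hv, show mkC (t j) = 0 from htK j, add_zero])
  obtain ⟨φ₁, hφ₁, hφ₁q⟩ := exists_hom_lift mkC hmkC hCsq f₁ q₀
    (fun x => (DFunLike.congr_fun hf₁ x).trans (hq₀ x).symm)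
  have hφ₁surj := hsurjφ φ₁ hφ₁q
  have h𝔟f₁ : ∀ x ∈ 𝔟, f₁ x = 0 := by
    intro x hx
    choose u hu using fun i => Ideal.Quotient.mk_surjective (dN ⟨x, h𝔟N hx⟩ i)
    have h1 := Θ.formula C f₀ f₁ (RingHom.ker mkC) hCsq (fun y hy => by
      rw [RingHom.mem_ker]
      exact (DFunLike.congr_fun hf₀ y).trans (by
        show φ₀ (Θ.π y) = 0
        rw [show Θ.π y = 0 from hy, map_zero]))
      (fun j => by rw [hf₁x, hf₀x, add_sub_cancel_left]; exact htK j) ⟨x, h𝔟N hx⟩ u (fun i => (hu i).symm)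
    rw [show f₁ x = _ from h1]
    refine Eq.trans ?_ (h𝔟eq ⟨x, h𝔟N hx⟩ hx u fun i => (hu i).symm)
    refine congrArg _ (Finset.sum_congr rfl fun i _ => ?_)
    rw [hf₁x, hf₀x, add_sub_cancel_left]
    rfl
  have hφφ₁ : ∀ z ∈ M₀.map (algebraMap R R'), φ z = φ₁ z := by
    rw [hM₀']
    intro z hz
    refine (Submodule.span_induction (p := fun z _ => φ z ∈ RingHom.ker mkC ∧ φ z = φ₁ z) ?_ ?_ ?_ ?_ hz).2
    · rintro _ ⟨k, hk, rfl⟩
      rw [AlgHom.commutes, AlgHom.commutes, hkerC]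
      exact ⟨Ideal.mem_map_of_mem _ hk, rfl⟩
    · exact ⟨by simp, by rw [map_zero, map_zero]⟩
    · rintro x y _ _ ⟨hx, hx'⟩ ⟨hy, hy'⟩
      rw [map_add, map_add, ← hx', ← hy']
      exact ⟨add_mem hx hy, rfl⟩
    · rintro c x _ ⟨hx, hx'⟩
      rw [smul_eq_mul, map_mul, map_mul, ← hx']
      refine ⟨Ideal.mul_mem_left _ _ hx, ?_⟩
      rw [← sub_eq_zero, ← sub_mul, ← Ideal.mem_bot, ← hCsq]
      refine Ideal.mul_mem_mul ?_ hx
      rw [RingHom.mem_ker, map_sub, hφq, hφ₁q, sub_self]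
  have hkerφ₁ : RingHom.ker φ₁ ≤ 𝔟.map (algebraMap R R') := by
    intro z hz
    have hzN : z ∈ N' := (hq₀ker z).1 (by rw [← hφ₁q, show φ₁ z = 0 from hz, map_zero])
    rw [show N' = 𝔟.map (algebraMap R R') ⊔ M₀.map (algebraMap R R') by rw [← Ideal.map_sup, h𝔟M]] at hzN
    obtain ⟨b, hb, y, hy, rfl⟩ := Submodule.mem_sup.1 hzN
    refine add_mem hb (h𝔟ker y hy ?_)
    have hb0 : φ₁ b = 0 := by
      have : 𝔟.map (algebraMap R R') ≤ RingHom.ker φ₁ := Ideal.map_le_iff_le_comap.2 fun x hx => by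
        rw [Ideal.mem_comap, RingHom.mem_ker, hφ₁, h𝔟f₁ x hx]
      exact this hb
    show φ y = 0
    rw [hφφ₁ y hy]
    have h5 : φ₁ (b + y) = 0 := hz
    rwa [map_add, hb0, zero_add] at h5
  -- the algebra `B`
  let mkB : R →ₐ[A] R ⧸ 𝔟 := Ideal.Quotient.mkₐ A 𝔟
  let ρ : (R ⧸ 𝔟) →ₐ[A] B₀ := Ideal.Quotient.liftₐ 𝔟 Θ.π fun x hx => h𝔟N hx
  let ψ : (R ⧸ 𝔟) →ₐ[A] C := Ideal.Quotient.liftₐ 𝔟 f₁ h𝔟f₁
  have hKB : K.map (algebraMap A (R ⧸ 𝔟)) = N.map mkB := by
    rw [← h𝔟M, Ideal.map_sup, show 𝔟.map mkB = ⊥ from Ideal.map_quotient_self 𝔟, bot_sup_eq, ← Ideal.map_coe mkB,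
      Ideal.map_map]
    exact congrArg (fun γ => K.map γ) mkB.comp_algebraMap.symm
  have hK₂B : K₂.map (algebraMap A (R ⧸ 𝔟)) = ⊥ := by
    rw [← Ideal.Quotient.mk_comp_algebraMap, ← Ideal.map_map, Θ.killed, Ideal.map_bot]
  refine ⟨R ⧸ 𝔟, inferInstance, inferInstance,
    Algebra.FiniteType.of_surjective (A := R) mkB Ideal.Quotient.mk_surjective, hK₂B, ?_, ρ, ψ,
    fun b => ?_, ?_, ?_, fun b => ?_⟩
  · intro α hα
    obtain ⟨L, _, _, hL, q, hqs, hqk⟩ := hB α hα
    haveI := hL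
    let πa := awMap Θ.π α
    have hπas : Function.Surjective πa := awMap_surjective Θ.π Θ.surjective α
    let 𝔨 : Ideal (Aw R α) := N.map (algebraMap R (Aw R α))
    have hπak : RingHom.ker πa = 𝔨 := ker_awMap Θ.π α
    have h𝔨 : 𝔨 * 𝔨 = ⊥ := by rw [← Ideal.map_mul, hNN, Ideal.map_bot]
    have hnil : IsNilpotent (RingHom.ker (πa : Aw R α →+* Aw B₀ α)) := ⟨2, by
      rw [sq, Ideal.zero_eq_bot]
      show RingHom.ker πa * RingHom.ker πa = ⊥
      rw [hπak, h𝔨]⟩
    let s := Algebra.FormallySmooth.liftOfSurjective q πa hπas hnil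
    have hs : ∀ l, πa (s l) = q l := fun l => Algebra.FormallySmooth.liftOfSurjective_apply q πa hπas hnil l
    let mB := awMap mkB α
    have hmBs : Function.Surjective mB := awMap_surjective mkB Ideal.Quotient.mk_surjective α
    have hmBk : RingHom.ker mB = 𝔟.map (algebraMap R (Aw R α)) := by
      rw [ker_awMap]
      exact congrArg _ (Ideal.Quotient.mkₐ_ker A 𝔟)
    have hK₂Ba : K₂.map (algebraMap A (Aw (R ⧸ 𝔟) α)) = ⊥ := by
      rw [IsScalarTower.algebraMap_eq A (R ⧸ 𝔟) (Aw (R ⧸ 𝔟) α), ← Ideal.map_map, hK₂B, Ideal.map_bot]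
    refine ⟨L, inferInstance, inferInstance, hL, mB.comp s, ?_, le_antisymm (fun l hl => ?_) ?_⟩
    · refine surjective_of_surjective_mod hKK hK₂Ba _ fun z => ?_
      obtain ⟨y, rfl⟩ := hmBs z
      obtain ⟨l, hl⟩ := hqs (πa y)
      refine ⟨l, ?_⟩
      show mB (s l) - mB y ∈ _
      rw [← map_sub]
      have h6 : s l - y ∈ 𝔨 := by rw [← hπak, RingHom.mem_ker, map_sub, hs, hl, sub_self]
      have h7 := Ideal.mem_map_of_mem mB h6
      rw [← Ideal.map_coe mB, Ideal.map_map] at h7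
      rw [IsScalarTower.algebraMap_eq A (R ⧸ 𝔟) (Aw (R ⧸ 𝔟) α), ← Ideal.map_map, hKB, ← Ideal.map_coe mkB,
        Ideal.map_map]
      exact (congrArg (fun γ => mB (s l - y) ∈ N.map γ)
        (RingHom.ext fun x => awMap_apply mkB α x :
          (mB : Aw R α →+* Aw (R ⧸ 𝔟) α).comp (algebraMap R (Aw R α)) =
            (algebraMap (R ⧸ 𝔟) (Aw (R ⧸ 𝔟) α)).comp (mkB : R →+* R ⧸ 𝔟))).mp h7
    · have hsl : s l ∈ 𝔟.map (algebraMap R (Aw R α)) := by
        rw [← hmBk]
        exact hl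
      have hql : q l = 0 := by
        rw [← hs, ← RingHom.mem_ker, hπak]
        exact Ideal.map_mono h𝔟N hsl
      have hslM : s l ∈ M₀.map (algebraMap R (Aw R α)) := by
        have h2 := Ideal.mem_map_of_mem s ((hqk ▸ hql : l ∈ K.map (algebraMap A L)))
        rw [← Ideal.map_coe s, Ideal.map_map] at h2
        rw [Ideal.map_map, ← IsScalarTower.algebraMap_eq]
        exact (congrArg (fun γ => s l ∈ K.map γ) s.comp_algebraMap).mp h2
      have hsl0 : s l = 0 := by
        obtain ⟨⟨⟨b, hb⟩, ⟨_, k₁, rfl⟩⟩, h1⟩ := (IsLocalization.mem_map_algebraMap_iff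
          (Submonoid.powers (algebraMap A R α)) (Aw R α)).1 hsl
        obtain ⟨⟨⟨m, hm⟩, ⟨_, k₂, rfl⟩⟩, h2⟩ := (IsLocalization.mem_map_algebraMap_iff
          (Submonoid.powers (algebraMap A R α)) (Aw R α)).1 hslM
        simp only at h1 h2
        have h3 : algebraMap R (Aw R α) (b * algebraMap A R α ^ k₂) =
            algebraMap R (Aw R α) (m * algebraMap A R α ^ k₁) := by
          rw [map_mul, map_mul, ← h1, ← h2]
          ring
        obtain ⟨⟨_, k₃, rfl⟩, h4⟩ := (IsLocalization.eq_iff_exists (Submonoid.powers (algebraMap A R α)) (Aw R α)).1 h3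
        simp only at h4
        let y := algebraMap A R α ^ k₃ * (b * algebraMap A R α ^ k₂)
        have hy : y ∈ 𝔟 ⊓ M₀ :=
          ⟨Ideal.mul_mem_left _ _ (Ideal.mul_mem_right _ _ hb), by
            show algebraMap A R α ^ k₃ * (b * algebraMap A R α ^ k₂) ∈ M₀
            rw [h4]
            exact Ideal.mul_mem_left _ _ (Ideal.mul_mem_right _ _ hm)⟩
        obtain ⟨p, hp⟩ := ha' (Ideal.mem_map_of_mem (algebraMap A R) hα)
        have hpy : algebraMap A R α ^ p * y = 0 := by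
          refine Submodule.span_induction (p := fun u _ => u * y = 0) ?_ (zero_mul _) ?_ ?_ hp
          · rintro _ ⟨k, rfl⟩
            exact h𝔟tor k y hy
          · intro u w _ _ hu hw
            rw [add_mul, hu, hw, add_zero]
          · intro c u _ hu
            rw [smul_eq_mul, mul_assoc, hu, mul_zero]
        have hu : ∀ j : ℕ, IsUnit (algebraMap R (Aw R α) (algebraMap A R α ^ j)) := fun j =>
          IsLocalization.map_units _ (⟨_, j, rfl⟩ : Submonoid.powers (algebraMap A R α))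
        have h5 := congrArg (algebraMap R (Aw R α)) hpy
        rw [map_zero, map_mul, (hu p).mul_right_eq_zero] at h5
        simp only [y, map_mul] at h5
        rw [(hu k₃).mul_right_eq_zero, (hu k₂).mul_left_eq_zero] at h5
        rw [h5, (hu k₁).mul_left_eq_zero] at h1
        exact h1
      -- compare with a map to `L / K₂ L`
      let qL : (L ⧸ K₂.map (algebraMap A L)) →ₐ[A] Aw B₀ α :=
        Ideal.Quotient.liftₐ _ q fun x hx => by
          rw [← RingHom.mem_ker, hqk]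
          exact Ideal.map_mono hK₂ hx
      have hqLk : RingHom.ker qL = K.map (algebraMap A (L ⧸ K₂.map (algebraMap A L))) := by
        refine le_antisymm (fun z hz => ?_) ?_
        · obtain ⟨x, rfl⟩ := Ideal.Quotient.mk_surjective z
          rw [← Ideal.Quotient.mk_comp_algebraMap, ← Ideal.map_map]
          exact Ideal.mem_map_of_mem _ (hqk ▸ (hz : q x = 0))
        · rw [← Ideal.Quotient.mk_comp_algebraMap, ← Ideal.map_map, Ideal.map_le_iff_le_comap, ← hqk]
          exact fun x hx => hx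
      have hLK₂ : K₂.map (algebraMap A (L ⧸ K₂.map (algebraMap A L))) = ⊥ := by
        rw [← Ideal.Quotient.mk_comp_algebraMap, ← Ideal.map_map, Ideal.map_quotient_self]
      have hqLsq : RingHom.ker qL * RingHom.ker qL = ⊥ := by rw [hqLk]; exact mul_map_eq_bot hKK hLK₂
      choose lv hlv using fun j => hqs (algebraMap B₀ (Aw B₀ α) (Θ.π (Θ.x j)))
      obtain ⟨g, hg, -⟩ := Θ.lift _ _ qL hqLsq hLK₂ (toAw B₀ α) (fun j => Ideal.Quotient.mk _ (lv j)) hlv
      have hua : IsUnit (algebraMap A (L ⧸ K₂.map (algebraMap A L)) α) := by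
        have h8 : IsUnit (qL (algebraMap A (L ⧸ K₂.map (algebraMap A L)) α)) := by
          rw [qL.commutes]; exact isUnit_aw B₀ α
        obtain ⟨w, hw⟩ := hqs ↑h8.unit⁻¹
        have h9 : qL (algebraMap A (L ⧸ K₂.map (algebraMap A L)) α * Ideal.Quotient.mk _ w - 1) = 0 := by
          rw [map_sub, map_mul, map_one, show qL (Ideal.Quotient.mk _ w) = q w from rfl, hw, IsUnit.mul_val_inv,
            sub_self]
        refine isUnit_of_mul_isUnit_left (y := Ideal.Quotient.mk _ w) ?_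
        rw [← add_sub_cancel 1 (algebraMap A (L ⧸ K₂.map (algebraMap A L)) α * Ideal.Quotient.mk _ w)]
        refine IsNilpotent.isUnit_one_add ⟨2, ?_⟩
        rw [sq, ← Ideal.mem_bot, ← hqLsq]
        exact Ideal.mul_mem_mul h9 h9
      let ga := fromAw g α hua
      have hgaπ : qL.comp ga = πa := aw_hom_ext _ _ fun x => by
        show qL (fromAw g α hua (algebraMap R (Aw R α) x)) = _
        rw [fromAw_toAw]
        exact (DFunLike.congr_fun hg x).trans (awMap_apply Θ.π α x).symm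
      have hgas : ga.comp s = Ideal.Quotient.mkₐ A (K₂.map (algebraMap A L)) := by
        refine Algebra.FormallyUnramified.lift_unique' qL
          (⟨2, by rw [sq, Ideal.zero_eq_bot]; exact hqLsq⟩) _ _ (AlgHom.ext fun x => ?_)
        show qL (ga (s x)) = q x
        rw [show qL (ga (s x)) = πa (s x) from DFunLike.congr_fun hgaπ (s x), hs]
      have h10 := DFunLike.congr_fun hgas l
      rw [AlgHom.comp_apply, hsl0, map_zero] at h10
      exact Ideal.Quotient.eq_zero_iff_mem.1 h10.symm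
    · rw [Ideal.map_le_iff_le_comap]
      intro x hx
      rw [Ideal.mem_comap, RingHom.mem_ker, AlgHom.commutes, ← Ideal.mem_bot, ← hK₂Ba]
      exact Ideal.mem_map_of_mem _ hx
  · obtain ⟨x, rfl⟩ := Θ.surjective b
    exact ⟨mkB x, rfl⟩
  · rw [hKB]
    refine le_antisymm (fun z hz => ?_) (Ideal.map_le_iff_le_comap.2 fun x hx => hx)
    obtain ⟨x, rfl⟩ := Ideal.Quotient.mk_surjective z
    exact Ideal.mem_map_of_mem mkB hz
  · exact etale_of_kernel (R := R) mkB.toRingHom Ideal.Quotient.mk_surjective φ₁.toRingHom hφ₁surj ψ.toRingHom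
      (fun x => (hφ₁ x).symm) (hkerφ₁.trans (le_of_eq (congrArg _ (Ideal.Quotient.mkₐ_ker A 𝔟).symm)))
  · obtain ⟨x, rfl⟩ := Ideal.Quotient.mk_surjective b
    exact (DFunLike.congr_fun hf₁ x).symm

end Groth.Agent.RigPts
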