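/-
Algebraisation along a nilpotent thickening of the base: the induction.
-/
import Groth.Agent.RigPts.LiftStep

set_option autoImplicit false
set_option linter.style.haveILetI false
set_option backward.isDefEq.respectTransparency false

universe u

noncomputable section

namespace Groth.Agent.RigPts

variable {A : Type u} [CommRing A]

theorem etLift_of_etale {I : Ideal A} {C : Type u} [CommRing C] [Algebra A C]
    (hC : ∀ a ∈ I, Algebra.Etale A (Localization.Away (algebraMap A C a))) (K : Ideal A) :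
    EtLift I K (C ⧸ K.map (algebraMap A C)) := fun a ha => by
  refine ⟨Aw C a, inferInstance, inferInstance, hC a ha, awMap (Ideal.Quotient.mkₐ A (K.map (algebraMap A C))) a,
    awMap_surjective _ Ideal.Quotient.mk_surjective a, ?_⟩
  rw [ker_awMap, IsScalarTower.algebraMap_eq A C (Aw C a), ← Ideal.map_map]
  exact congrArg _ (Ideal.Quotient.mkₐ_ker A _)

/-- The invariant of the induction. -/
def LiftProp (I J : Ideal A) (C : Type u) [CommRing C] [Algebra A C] (B₀ : Type u) [CommRing B₀] [Algebra A B₀]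
    (φ₀ : B₀ →ₐ[A] C ⧸ J.map (algebraMap A C)) (K : Ideal A) : Prop :=
  ∃ (B : Type u) (_ : CommRing B) (_ : Algebra A B), Algebra.FiniteType A B ∧ K.map (algebraMap A B) = ⊥ ∧
    EtLift I K B ∧ ∃ (ρ : B →ₐ[A] B₀) (ψ : B →ₐ[A] C ⧸ K.map (algebraMap A C)), Function.Surjective ρ ∧
      RingHom.ker ρ = J.map (algebraMap A B) ∧ ψ.toRingHom.Etale ∧
      (∀ b c, ψ b = Ideal.Quotient.mk _ c → φ₀ (ρ b) = Ideal.Quotient.mk _ c) ∧
      (∀ c, ∃ b, ψ b - c ∈ I.map (algebraMap A (C ⧸ K.map (algebraMap A C)))) ∧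
      ∀ p : Ideal B, p.IsPrime → I.map (algebraMap A B) ≤ p → ∃ q : Ideal (C ⧸ K.map (algebraMap A C)),
        q.IsPrime ∧ q.comap ψ = p

theorem liftProp_step [IsNoetherianRing A] (I J : Ideal A) (C : Type u) [CommRing C] [Algebra A C]
    [Algebra.FiniteType A C] (hC : ∀ a ∈ I, Algebra.Etale A (Localization.Away (algebraMap A C a)))
    (B₀ : Type u) [CommRing B₀] [Algebra A B₀] (φ₀ : B₀ →ₐ[A] C ⧸ J.map (algebraMap A C))
    (K K₂ : Ideal A) (hKJ : K ≤ J) (hK₂ : K₂ ≤ K) (hKK : K * K ≤ K₂) (h : LiftProp I J C B₀ φ₀ K) :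
    LiftProp I J C B₀ φ₀ K₂ := by
  obtain ⟨B₁, _, _, hft, hK, hEt, ρ₁, ψ₁, hρ₁, hkρ₁, hψ₁, hcomp, hsurj, hprime⟩ := h
  haveI := hft
  let C₁ := C ⧸ K.map (algebraMap A C)
  let C₂ := C ⧸ K₂.map (algebraMap A C)
  let mkC : C₂ →ₐ[A] C₁ := Ideal.Quotient.factorₐ A (Ideal.map_mono hK₂)
  have hmkC : Function.Surjective mkC := Ideal.Quotient.factor_surjective (Ideal.map_mono hK₂)
  have hC₂0 : K₂.map (algebraMap A C₂) = ⊥ := by
    rw [← Ideal.Quotient.mk_comp_algebraMap, ← Ideal.map_map, Ideal.map_quotient_self]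
  have hkerC : RingHom.ker mkC = K.map (algebraMap A C₂) := by
    refine le_antisymm (fun z hz => ?_) (Ideal.map_le_iff_le_comap.2 fun k hk => ?_)
    · obtain ⟨c, rfl⟩ := Ideal.Quotient.mk_surjective z
      rw [← Ideal.Quotient.mk_comp_algebraMap, ← Ideal.map_map]
      exact Ideal.mem_map_of_mem _ (Ideal.Quotient.eq_zero_iff_mem.1 hz)
    · rw [Ideal.mem_comap, RingHom.mem_ker, AlgHom.commutes]
      exact Ideal.Quotient.eq_zero_iff_mem.2 (Ideal.mem_map_of_mem _ hk)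
  obtain ⟨B, _, _, hBft, hB0, hBEt, ρ, ψ, hρ, hkρ, hψ, hρψ⟩ := exists_lift_step I K K₂ hK₂ hKK C₂ hC₂0
    (etLift_of_etale hC K₂) C₁ mkC hmkC hkerC B₁ hK hEt ψ₁ hψ₁ hsurj hprime
  refine ⟨B, inferInstance, inferInstance, hBft, hB0, hBEt, ρ₁.comp ρ, ψ, hρ₁.comp hρ, ?_, hψ, fun b c hbc => ?_,
    fun c => ?_, fun p hp hIp => ?_⟩
  · refine le_antisymm (fun b hb => ?_) (Ideal.map_le_iff_le_comap.2 fun j hj => ?_)
    · have h1 : ρ b ∈ J.map (algebraMap A B₁) := by rw [← hkρ₁]; exact hb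
      rw [← ρ.comp_algebraMap, ← Ideal.map_map, Ideal.map_coe, Ideal.mem_map_iff_of_surjective ρ hρ] at h1
      obtain ⟨b', hb', hbb⟩ := h1
      have h2 : b - b' ∈ RingHom.ker ρ := by rw [RingHom.mem_ker, map_sub, hbb, sub_self]
      rw [hkρ] at h2
      have := add_mem (Ideal.map_mono hKJ h2) hb'
      rwa [sub_add_cancel] at this
    · rw [Ideal.mem_comap, RingHom.mem_ker, AlgHom.commutes]
      have : algebraMap A B₁ j ∈ RingHom.ker ρ₁ := hkρ₁ ▸ Ideal.mem_map_of_mem _ hj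
      rwa [RingHom.mem_ker, AlgHom.commutes] at this
  · exact hcomp (ρ b) c (by rw [hρψ, hbc]; rfl)
  · have hkerle : ∀ z ∈ K.map (algebraMap A C₂), ∃ b, ψ b - z ∈ I.map (algebraMap A C₂) := by
      intro z hz
      refine (Submodule.span_induction
        (p := fun z _ => z ∈ K.map (algebraMap A C₂) ∧ ∃ b, ψ b - z ∈ I.map (algebraMap A C₂)) ?_ ?_ ?_ ?_ hz).2
      · rintro _ ⟨k, hk, rfl⟩
        exact ⟨Ideal.mem_map_of_mem _ hk, algebraMap A B k, by rw [AlgHom.commutes, sub_self]; exact zero_mem _⟩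
      · exact ⟨zero_mem _, 0, by rw [map_zero, sub_self]; exact zero_mem _⟩
      · rintro x y _ _ ⟨hx, b, hb⟩ ⟨hy, b', hb'⟩
        refine ⟨add_mem hx hy, b + b', ?_⟩
        rw [map_add, add_sub_add_comm]
        exact add_mem hb hb'
      · rintro s x _ ⟨hx, b, hb⟩
        refine ⟨Ideal.mul_mem_left _ s hx, ?_⟩
        obtain ⟨b₁, hb₁⟩ := hsurj (mkC s)
        obtain ⟨b₂, rfl⟩ := hρ b₁
        rw [hρψ, ← map_sub, ← mkC.comp_algebraMap, ← Ideal.map_map, Ideal.map_coe,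
          Ideal.mem_map_iff_of_surjective mkC hmkC] at hb₁
        obtain ⟨w, hw, hwe⟩ := hb₁
        have h3 : ψ b₂ - s - w ∈ K.map (algebraMap A C₂) := by
          rw [← hkerC, RingHom.mem_ker, map_sub, hwe, sub_self]
        have h4 : (ψ b₂ - s - w) * x = 0 := by
          rw [← Ideal.mem_bot, ← mul_map_eq_bot hKK hC₂0]
          exact Ideal.mul_mem_mul h3 hx
        refine ⟨b₂ * b, ?_⟩
        rw [map_mul, smul_eq_mul]
        have e : ψ b₂ * ψ b - s * x = ψ b₂ * (ψ b - x) + w * x := by linear_combination h4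
        rw [e]
        exact add_mem (Ideal.mul_mem_left _ _ hb) (Ideal.mul_mem_right _ _ hw)
    obtain ⟨b₁, hb₁⟩ := hsurj (mkC c)
    obtain ⟨b, rfl⟩ := hρ b₁
    rw [hρψ, ← map_sub, ← mkC.comp_algebraMap, ← Ideal.map_map, Ideal.map_coe,
      Ideal.mem_map_iff_of_surjective mkC hmkC] at hb₁
    obtain ⟨w, hw, hwe⟩ := hb₁
    obtain ⟨b', hb'⟩ := hkerle (ψ b - c - w) (by rw [← hkerC, RingHom.mem_ker, map_sub, hwe, sub_self])
    refine ⟨b - b', ?_⟩
    have h5 := sub_mem hw hb'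
    convert h5 using 1
    rw [map_sub]
    ring
  · haveI := hp
    have hker : RingHom.ker ρ ≤ p := fun z hz => hp.mem_of_pow_mem 2 (by
      have h1 : z * z = 0 := by
        rw [← Ideal.mem_bot, ← mul_map_eq_bot hKK hB0]
        exact Ideal.mul_mem_mul (hkρ ▸ hz) (hkρ ▸ hz)
      rw [sq, h1]
      exact zero_mem _)
    haveI : (p.map ρ).IsPrime := Ideal.map_isPrime_of_surjective hρ hker
    obtain ⟨q, hq, hqp⟩ := hprime (p.map ρ) inferInstance (by
      rw [← ρ.comp_algebraMap, ← Ideal.map_map]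
      exact Ideal.map_mono hIp)
    refine ⟨q.comap mkC, inferInstance, ?_⟩
    ext x
    rw [Ideal.mem_comap, Ideal.mem_comap, ← hρψ, ← Ideal.mem_comap, hqp, ← Ideal.mem_comap,
      Ideal.comap_map_of_surjective ρ hρ, ← RingHom.ker_eq_comap_bot, sup_eq_left.2 hker]

end Groth.Agent.RigPts
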