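/-
Restricted power series over a complete one dimensional Noetherian domain form a regular algebra.
-/
import Groth.Agent.RigPts.Basic
import Groth.Agent.RigPts.CompPoly
import Groth.Agent.S0568
import Groth.Agent.Nagata.Local
import Groth.Agent.FlatDepth.Regular
import Groth.Agent.FlatDepth.Comp
import Groth.Agent.GeomProp.RegLocal
import Groth.Agent.RegTrans.Basic
import Mathlib.RingTheory.TensorProduct.MvPolynomial
import Mathlib.RingTheory.RegularLocalRing.Polynomial

set_option autoImplicit false
set_option linter.style.haveILetI false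
set_option backward.isDefEq.respectTransparency false

universe u

open scoped TensorProduct

noncomputable section

namespace Groth.Agent.RigPts

variable {R : Type u} [CommRing R] [IsNoetherianRing R]

theorem regular_tensor_comp_of_kills (J : Ideal R) (n : ℕ) (K : Type u) [Field K] [Algebra R K]
    (hK : ∀ j ∈ J, algebraMap R K j = 0) :
    IsRegularRing (K ⊗[R] Comp J (MvPolynomial (Fin n) R)) := by
  classical
  let P := MvPolynomial (Fin n) R
  let J' := J.map (algebraMap R P)
  let inR : P →ₐ[R] K ⊗[R] P := Algebra.TensorProduct.includeRight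
  have hker : J' ≤ RingHom.ker inR := by
    rw [Ideal.map_le_iff_le_comap]
    intro j hj
    rw [Ideal.mem_comap, RingHom.mem_ker, AlgHom.commutes, Algebra.TensorProduct.algebraMap_apply, hK j hj,
      TensorProduct.zero_tmul]
  let ψ : Comp J P →ₐ[R] K ⊗[R] P :=
    (Ideal.Quotient.liftₐ J' inR hker).comp ((AdicCompletion.evalOneₐ J').restrictScalars R)
  let F : K ⊗[R] P →ₐ[R] K ⊗[R] Comp J P :=
    Algebra.TensorProduct.map (AlgHom.id R K) (IsScalarTower.toAlgHom R P (Comp J P))
  let G : K ⊗[R] Comp J P →ₐ[R] K ⊗[R] P :=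
    Algebra.TensorProduct.lift Algebra.TensorProduct.includeLeft ψ fun _ _ => Commute.all _ _
  have hψ : ∀ x : P, ψ (algebraMap P (Comp J P) x) = inR x := fun x => by
    show Ideal.Quotient.liftₐ J' inR hker (AdicCompletion.evalOneₐ J' (algebraMap P (Comp J P) x)) = _
    rw [AlgHom.commutes]
    rfl
  have hGF : G.comp F = AlgHom.id R _ := by
    apply Algebra.TensorProduct.ext'
    intro a b
    simp only [G, F, AlgHom.comp_apply, Algebra.TensorProduct.map_tmul, AlgHom.id_apply,
      Algebra.TensorProduct.lift_tmul, IsScalarTower.coe_toAlgHom', hψ]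
    simp [inR, Algebra.TensorProduct.tmul_mul_tmul]
  have hzero : ∀ y ∈ J.map (algebraMap R (Comp J P)), ((1 : K) ⊗ₜ[R] y : K ⊗[R] Comp J P) = 0 := by
    intro y hy
    refine (Ideal.map_le_iff_le_comap.2 fun j hj => ?_ :
      J.map (algebraMap R (Comp J P)) ≤ RingHom.ker
        (Algebra.TensorProduct.includeRight : Comp J P →ₐ[R] K ⊗[R] Comp J P)) hy
    rw [Ideal.mem_comap, RingHom.mem_ker, AlgHom.commutes, Algebra.TensorProduct.algebraMap_apply, hK j hj,
      TensorProduct.zero_tmul]
  have hsurj : Function.Surjective F := by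
    intro z
    induction z with
    | zero => exact ⟨0, map_zero _⟩
    | add x y hx hy =>
      obtain ⟨a, rfl⟩ := hx
      obtain ⟨b, rfl⟩ := hy
      exact ⟨a + b, map_add _ _ _⟩
    | tmul k s =>
      obtain ⟨x, hx⟩ := exists_sub_mem_comp J P s
      refine ⟨k ⊗ₜ x, ?_⟩
      have h0 := hzero _ hx
      rw [TensorProduct.tmul_sub, sub_eq_zero] at h0
      calc F (k ⊗ₜ x) = (k ⊗ₜ 1) * ((1 : K) ⊗ₜ algebraMap P (Comp J P) x) := by
            simp [F, Algebra.TensorProduct.tmul_mul_tmul]
        _ = k ⊗ₜ s := by rw [h0]; simp [Algebra.TensorProduct.tmul_mul_tmul]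
  have hinj : Function.Injective F :=
    Function.LeftInverse.injective (g := G) fun x => DFunLike.congr_fun hGF x
  haveI : IsRegularRing (K ⊗[R] P) :=
    haveI : IsRegularRing (MvPolynomial (Fin n) K) := inferInstance
    IsRegularRing.of_ringEquiv (MvPolynomial.algebraTensorAlgEquiv R K).toRingEquiv.symm
  exact IsRegularRing.of_ringEquiv (AlgEquiv.ofBijective F ⟨hinj, hsurj⟩).toRingEquiv

variable [IsDomain R] (J : Ideal R) [IsAdicComplete J R]

theorem isLocalRing_of_setup (hJ : J ≠ ⊥) (hdim : ringKrullDim R ≤ 1) : IsLocalRing R := by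
  obtain ⟨m, hm, -⟩ := Ideal.exists_le_maximal (⊥ : Ideal R) bot_ne_top
  exact IsLocalRing.of_unique_max_ideal ⟨m, hm, fun m' hm' =>
    (maximal_eq_radical J hJ hdim m' hm').trans (maximal_eq_radical J hJ hdim m hm).symm⟩

theorem isN2_of_setup (hJ : J ≠ ⊥) (hdim : ringKrullDim R ≤ 1) : CAlg.IsN2 R := by
  haveI := isLocalRing_of_setup J hJ hdim
  have hm := maximal_eq_radical J hJ hdim (IsLocalRing.maximalIdeal R) inferInstance
  obtain ⟨c, hc⟩ := Ideal.exists_pow_le_of_le_radical_of_fg (I := J.radical) (J := J) le_rfl
    (IsNoetherian.noetherian _)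
  haveI : IsAdicComplete (IsLocalRing.maximalIdeal R) R := by
    rw [hm]
    exact EGA418Base.isAdicComplete_of_pow_le (c := c + 1) (Nat.succ_pos c)
      ((Ideal.pow_le_pow_right (Nat.le_succ c)).trans hc) Ideal.le_radical
  exact Nagata.isN2_of_isNagata (Groth.Agent.S0568.result R)

theorem regular_generic_tensor (hJ : J ≠ ⊥) (hdim : ringKrullDim R ≤ 1) (n : ℕ) (K : Type u) [Field K]
    [Algebra R K] [Algebra (FractionRing R) K] [IsScalarTower R (FractionRing R) K]
    [FiniteDimensional (FractionRing R) K] :
    IsRegularRing (K ⊗[R] Comp J (MvPolynomial (Fin n) R)) := by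
  classical
  let P := MvPolynomial (Fin n) R
  let S := Comp J P
  haveI : IsNoetherianRing S := isNoetherianRing_comp J P
  haveI : Module.Flat R S := Module.Flat.trans R P S
  haveI : Ring.KrullDimLE 1 R := (Ring.krullDimLE_iff (n := 1)).2 (by exact_mod_cast hdim)
  haveI : Ring.DimensionLEOne R :=
    ⟨fun {p} hp hp' => hp'.isMaximal_of_ne_bot hp⟩
  haveI hN2 := isN2_of_setup J hJ hdim
  let R' := integralClosure R K
  haveI : Module.Finite R R' := hN2 K inferInstance
  haveI : IsNoetherianRing R' := IsNoetherianRing.of_finite R R'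
  haveI : IsIntegrallyClosed R' := integralClosure.isIntegrallyClosedOfFiniteExtension (FractionRing R)
  haveI : IsFractionRing R' K := integralClosure.isFractionRing_of_finite_extension (FractionRing R) K
  haveI : Ring.DimensionLEOne R' := inferInstanceAs (Ring.DimensionLEOne (integralClosure R K))
  haveI : IsDedekindDomain R' := {}
  have hinjK : Function.Injective (algebraMap R K) := by
    rw [IsScalarTower.algebraMap_eq R (FractionRing R) K]
    exact (algebraMap (FractionRing R) K).injective.comp (IsFractionRing.injective R (FractionRing R))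
  have hinj : Function.Injective (algebraMap R R') := fun a b h =>
    hinjK (congrArg Subtype.val h)
  have hJ' : J.map (algebraMap R R') ≠ ⊥ := fun e => hJ (by
    rwa [Ideal.map_eq_bot_iff_le_ker, (RingHom.injective_iff_ker_eq_bot _).1 hinj, le_bot_iff] at e)
  haveI : IsAdicComplete (J.map (algebraMap R R')) R' := by
    have h := AdicLim.isAdicComplete_of_finite J R'
    rw [← IsAdicComplete.map_algebraMap_iff (S := R')] at h
    exact h
  have hdim' : ringKrullDim R' ≤ 1 :=
    (Ring.krullDimLE_iff (n := 1)).1 (inferInstanceAs (Ring.KrullDimLE 1 R'))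
  haveI : IsLocalRing R' := isLocalRing_of_setup _ hJ' hdim'
  have hm' := maximal_eq_radical _ hJ' hdim' (IsLocalRing.maximalIdeal R') inferInstance
  haveI : IsPrincipalIdealRing R' := IsPrincipalIdealRing.of_finite_maximals <|
    (Set.finite_singleton (IsLocalRing.maximalIdeal R')).subset fun I hI => IsLocalRing.eq_maximalIdeal hI
  obtain ⟨π, hπ⟩ := (IsPrincipalIdealRing.principal (IsLocalRing.maximalIdeal R')).principal
  rw [Ideal.submodule_span_eq] at hπ
  have hπ0 : π ≠ 0 := by
    rintro rfl
    rw [Ideal.span_singleton_eq_bot.2 rfl] at hπ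
    exact hJ' (le_bot_iff.1 ((Ideal.le_radical).trans (hm'.symm.trans hπ).le))
  -- the tensor product with the normalization
  let T := R' ⊗[R] S
  haveI : IsNoetherianRing T := FlatDepth.isNoetherianRing_tensor_essFinite R S R'
  let k' := R' ⧸ IsLocalRing.maximalIdeal R'
  letI : Field k' := Ideal.Quotient.field _
  haveI : IsRegularRing (k' ⊗[R] S) := regular_tensor_comp_of_kills J n k' fun j hj => by
    rw [IsScalarTower.algebraMap_apply R R' k']
    exact Ideal.Quotient.eq_zero_iff_mem.2 (hm' ▸ Ideal.le_radical (Ideal.mem_map_of_mem _ hj))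
  haveI : IsRegularRing T := by
    let q : T →ₐ[R] k' ⊗[R] S :=
      Algebra.TensorProduct.map (Ideal.Quotient.mkₐ R (IsLocalRing.maximalIdeal R')) (AlgHom.id R S)
    have hq : Function.Surjective q :=
      TensorProduct.map_surjective (g := (Ideal.Quotient.mkₐ R (IsLocalRing.maximalIdeal R')).toLinearMap)
        (g' := (LinearMap.id : S →ₗ[R] S)) Ideal.Quotient.mk_surjective Function.surjective_id
    refine RegTrans.isRegularRing_of_quot q.toRingHom hq (π ⊗ₜ 1) ?_ ?_ ?_
    · have h := Algebra.TensorProduct.rTensor_ker (R := R) (C := S)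
        (f := Ideal.Quotient.mkₐ R (IsLocalRing.maximalIdeal R')) Ideal.Quotient.mk_surjective
      refine h.trans ?_
      have e : RingHom.ker (Ideal.Quotient.mkₐ R (IsLocalRing.maximalIdeal R')) = IsLocalRing.maximalIdeal R' :=
        Ideal.ext fun x => Ideal.Quotient.eq_zero_iff_mem
      rw [e, hπ, Ideal.map_span, Set.image_singleton]
      rfl
    · haveI : Module.Flat R' T := Module.Flat.baseChange R R' S
      have h : IsSMulRegular T π :=
        Module.Flat.isSMulRegular_of_nonZeroDivisors (M := T) (mem_nonZeroDivisors_of_ne_zero hπ0)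
      intro x y hxy
      refine h ?_
      show π • x = π • y
      have key : ∀ z : T, π • z = (π ⊗ₜ (1 : S) : T) * z := by
        intro z
        induction z using TensorProduct.induction_on with
        | zero => exact (smul_zero π).trans (mul_zero _).symm
        | add a b ha hb => exact (smul_add π a b).trans (by rw [ha, hb, mul_add])
        | tmul a s =>
          rw [Algebra.TensorProduct.tmul_mul_tmul, one_mul]
          rfl
      rw [key, key]
      exact hxy
    · refine Ideal.mem_sInf.2 ?_
      rintro (M : Ideal T) ⟨-, hM⟩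
      haveI : Algebra.IsIntegral R R' := inferInstance
      -- `M` contracts to a maximal ideal of `S`, which contains `J`
      let inS : S →+* T := (Algebra.TensorProduct.includeRight : S →ₐ[R] T).toRingHom
      have hint : inS.IsIntegral := by
        letI : Algebra S T := inS.toAlgebra
        intro z
        induction z using TensorProduct.induction_on with
        | zero => exact RingHom.isIntegralElem_zero inS
        | add x y hx hy => exact hx.add inS hy
        | tmul a s =>
          have h1 : inS.IsIntegralElem (a ⊗ₜ 1) := by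
            obtain ⟨f, hf, hfa⟩ := Algebra.IsIntegral.isIntegral (R := R) a
            refine ⟨f.map (algebraMap R S), hf.map _, ?_⟩
            rw [Polynomial.eval₂_map]
            have e : inS.comp (algebraMap R S) = (algebraMap R T) := by
              ext r
              exact (Algebra.TensorProduct.includeRight : S →ₐ[R] T).commutes r
            rw [e]
            exact (Polynomial.aeval_algHom_apply (Algebra.TensorProduct.includeLeft : R' →ₐ[R] T) a f).trans
              (by rw [show Polynomial.aeval a f = 0 from hfa, map_zero])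
          have h2 : inS.IsIntegralElem ((1 : R') ⊗ₜ s) := RingHom.isIntegralElem_map inS
          have e : ((a ⊗ₜ (1 : S)) * ((1 : R') ⊗ₜ s) : T) = a ⊗ₜ s :=
            (Algebra.TensorProduct.tmul_mul_tmul a 1 1 s).trans (by rw [mul_one, one_mul])
          exact e ▸ h1.mul inS h2
      haveI := hM
      have hMS : (M.comap inS).IsMaximal := Ideal.isMaximal_comap_of_isIntegral_of_isMaximal' inS hint M
      haveI := isAdicComplete_comp J P
      have hjac := IsAdicComplete.le_jacobson_bot (J.map (algebraMap R S))
      have hJM : J.map (algebraMap R R') ≤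
          M.comap (Algebra.TensorProduct.includeLeft : R' →ₐ[R] T) := by
        rw [Ideal.map_le_iff_le_comap]
        intro j hj
        rw [Ideal.mem_comap, Ideal.mem_comap, AlgHom.commutes,
          ← (Algebra.TensorProduct.includeRight : S →ₐ[R] T).commutes]
        exact Ideal.mem_sInf.1 (hjac (Ideal.mem_map_of_mem _ hj)) ⟨bot_le, hMS⟩
      haveI := hM.isPrime
      exact (Ideal.IsPrime.radical_le_iff inferInstance).2 hJM (hm' ▸ hπ ▸ Ideal.mem_span_singleton_self π)
  letI : Algebra T (K ⊗[R'] T) := Algebra.TensorProduct.rightAlgebra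
  haveI : IsRegularRing (K ⊗[R'] T) :=
    GeomProp.isRegularRing_of_isLocalization (R := T) (Algebra.algebraMapSubmonoid T (nonZeroDivisors R'))
      inferInstance
  exact IsRegularRing.of_ringEquiv (Algebra.TensorProduct.cancelBaseChange R R' K K S).toRingEquiv

theorem isRegularHom_comp_mvPolynomial (hJ : J ≠ ⊥) (hdim : ringKrullDim R ≤ 1) (n : ℕ) :
    CAlg.IsRegularHom R (Comp J (MvPolynomial (Fin n) R)) := by
  classical
  let P := MvPolynomial (Fin n) R
  haveI : IsNoetherianRing (Comp J P) := isNoetherianRing_comp J P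
  refine ⟨Module.Flat.trans R P (Comp J P), fun p hp => ⟨?_, ?_⟩⟩
  · exact FlatDepth.isNoetherianRing_tensor_essFinite R (Comp J P) p.ResidueField
  intro K _ _ hfin
  letI : Algebra R K := ((algebraMap p.ResidueField K).comp (algebraMap R p.ResidueField)).toAlgebra
  haveI : IsScalarTower R p.ResidueField K := IsScalarTower.of_algebraMap_eq' rfl
  obtain ⟨e⟩ := FlatDepth.fiberTensor_equiv (B := Comp J P) p K
  suffices IsRegularRing (K ⊗[R] Comp J P) from IsRegularRing.of_ringEquiv e.symm
  have hker : ∀ x, algebraMap R K x = 0 ↔ x ∈ p := fun x => by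
    rw [IsScalarTower.algebraMap_apply R p.ResidueField K, map_eq_zero_iff _ (algebraMap p.ResidueField K).injective,
      Ideal.algebraMap_residueField_eq_zero]
  rcases eq_or_ne p ⊥ with rfl | hp0
  · haveI : FaithfulSMul R K := (faithfulSMul_iff_algebraMap_injective R K).2
      ((injective_iff_map_eq_zero _).2 fun x hx => by simpa using (hker x).1 hx)
    haveI : FaithfulSMul R (⊥ : Ideal R).ResidueField := (faithfulSMul_iff_algebraMap_injective R _).2
      ((injective_iff_map_eq_zero _).2 fun x hx => by simpa using Ideal.algebraMap_residueField_eq_zero.1 hx)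
    letI := FractionRing.liftAlgebra R K
    letI := FractionRing.liftAlgebra R (⊥ : Ideal R).ResidueField
    haveI : IsScalarTower (FractionRing R) (⊥ : Ideal R).ResidueField K := by
      refine IsScalarTower.of_algebraMap_eq' (IsLocalization.ringHom_ext (nonZeroDivisors R) ?_)
      rw [RingHom.comp_assoc, ← IsScalarTower.algebraMap_eq, ← IsScalarTower.algebraMap_eq,
        ← IsScalarTower.algebraMap_eq]
    haveI : Module.Finite (FractionRing R) (⊥ : Ideal R).ResidueField := by
      refine Module.Finite.of_surjective (Algebra.linearMap (FractionRing R) _) fun z => ?_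
      obtain ⟨a, b, hb, rfl⟩ := IsFractionRing.div_surjective (R ⧸ (⊥ : Ideal R)) z
      obtain ⟨a, rfl⟩ := Ideal.Quotient.mk_surjective a
      obtain ⟨b, rfl⟩ := Ideal.Quotient.mk_surjective b
      refine ⟨algebraMap R _ a / algebraMap R _ b, ?_⟩
      rw [Algebra.linearMap_apply, map_div₀, ← IsScalarTower.algebraMap_apply, ← IsScalarTower.algebraMap_apply]
      rfl
    haveI : FiniteDimensional (FractionRing R) K :=
      Module.Finite.trans (⊥ : Ideal R).ResidueField K
    exact regular_generic_tensor J hJ hdim n K
  · refine regular_tensor_comp_of_kills J n K fun j hj => (hker j).2 ?_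
    haveI : Ring.KrullDimLE 1 R := (Ring.krullDimLE_iff (n := 1)).2 (by exact_mod_cast hdim)
    rw [maximal_eq_radical J hJ hdim p (hp.isMaximal_of_ne_bot hp0)]
    exact Ideal.le_radical hj

end Groth.Agent.RigPts
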