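/-
Faithfully flat descent of rig-flatness.
-/
import Groth.Agent.RigPts.RigFlatComp

set_option autoImplicit false
set_option linter.style.haveILetI false
set_option backward.isDefEq.respectTransparency false

universe u

open scoped TensorProduct

noncomputable section

namespace Groth.Agent.RigPts

theorem exists_sub_mem_pow_compLoc {A : Type u} [CommRing A] [IsNoetherianRing A] (I : Ideal A) (f : A) (n : ℕ)
    (x : CompLoc I f) :
    ∃ s : Localization.Away f, x - algebraMap (Localization.Away f) (CompLoc I f) s ∈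
      ((I.map (algebraMap A (Localization.Away f))) ^ n).map (algebraMap (Localization.Away f) (CompLoc I f)) := by
  obtain ⟨s, hs⟩ := Submodule.Quotient.mk_surjective _
    (AdicCompletion.eval (I.map (algebraMap A (Localization.Away f))) (Localization.Away f) n x)
  refine ⟨s, ?_⟩
  have h2 : x - algebraMap (Localization.Away f) (CompLoc I f) s ∈
      LinearMap.ker (AdicCompletion.eval (I.map (algebraMap A (Localization.Away f))) (Localization.Away f) n) := by
    rw [LinearMap.mem_ker, map_sub, sub_eq_zero, ← hs]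
    rfl
  rw [← AdicCompletion.pow_smul_top_eq_ker_eval (Ideal.FG.map (IsNoetherian.noetherian I) _),
    Ideal.smul_top_eq_map, Submodule.restrictScalars_mem] at h2
  exact h2

theorem flat_of_map_surjective' {A A' : Type u} [CommRing A] [CommRing A'] [Algebra A A'] [IsNoetherianRing A']
    (p : Ideal A) {L : Type u} [CommRing L] [IsNoetherianRing L] [Algebra A L] [Algebra A' L]
    [IsScalarTower A A' L] [Module.Flat A L]
    (hjac : (p.map (algebraMap A A')).map (algebraMap A' L) ≤ Ideal.jacobson (⊥ : Ideal L))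
    (hsur : ∀ n, ∀ y : A', ∃ a : A, y - algebraMap A A' a ∈ (p ^ (n + 1)).map (algebraMap A A')) :
    Module.Flat A' L := by
  refine TopFin.flat_of_trunc (R := A') (I := p.map (algebraMap A A')) TopFin.good_of_isNoetherianRing.2
    (B := L) TopFin.good_of_isNoetherianRing.2 hjac L fun n => ?_
  have hpow : ((p.map (algebraMap A A')) ^ (n + 1)).map (algebraMap A' A') = (p ^ (n + 1)).map (algebraMap A A') := by
    rw [Algebra.algebraMap_self, Ideal.map_id, Ideal.map_pow]
  haveI := flat_quotient_tensor (A' := A') (p ^ (n + 1)) (hsur n) L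
  unfold AdicRing.trunc
  rw [hpow]
  infer_instance

theorem flat_away_completion {B : Type u} [CommRing B] [IsNoetherianRing B] (J : Ideal B) (g : B) :
    Module.Flat B (CompLoc J g) := by
  haveI : Module.Flat (Localization.Away g) (CompLoc J g) := inferInstanceAs (Module.Flat _ (AdicCompletion _ _))
  haveI : Module.Flat B (Localization.Away g) := IsLocalization.flat _ (Submonoid.powers g)
  exact Module.Flat.trans B (Localization.Away g) (CompLoc J g)

/-- The completed localisation of a flat map is flat. -/
theorem flat_compLoc_of_flat {A : Type u} [CommRing A] [IsNoetherianRing A] (I : Ideal A)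
    {B : Type u} [CommRing B] [Algebra A B] [IsNoetherianRing B] [Module.Flat A B] (f : A) {J : Ideal B}
    (hJ : J = I.map (algebraMap A B)) {g : B} (ψ : CompLoc I f →ₐ[A] CompLoc J g) : ψ.toRingHom.Flat := by
  haveI := isNoetherianRing_compLoc I f
  haveI := isNoetherianRing_compLoc J g
  haveI hcX := isAdicComplete_compLoc J g
  let S := Localization.Away f
  let X := CompLoc J g
  haveI := flat_away_completion J g
  haveI : Module.Flat A X := Module.Flat.trans A B X
  letI : Algebra (CompLoc I f) X := ψ.toRingHom.toAlgebra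
  letI : Algebra S X := (ψ.toRingHom.comp (algebraMap S (CompLoc I f))).toAlgebra
  haveI : IsScalarTower S (CompLoc I f) X := IsScalarTower.of_algebraMap_eq fun _ => rfl
  haveI : IsScalarTower A S X := IsScalarTower.of_algebraMap_eq fun a =>
    (ψ.commutes a).symm.trans (congrArg ψ.toRingHom (IsScalarTower.algebraMap_apply A S (CompLoc I f) a))
  haveI : Module.Flat S X := (Module.flat_iff_of_isLocalization S (Submonoid.powers f) X).2 inferInstance
  refine flat_of_map_surjective' (I.map (algebraMap A S)) ?_ fun n y => exists_sub_mem_pow_compLoc I f (n + 1) y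
  have e : ((I.map (algebraMap A S)).map (algebraMap S (CompLoc I f))).map (algebraMap (CompLoc I f) X) =
      J.map (algebraMap B X) := by
    rw [map_map_compLoc I f]
    exact ((map_ideal_algHom I ψ).trans (map_map_tower I).symm).trans (congrArg (Ideal.map _) hJ.symm)
  exact e.le.trans (IsAdicComplete.le_jacobson_bot _)

theorem rigFlat_of_flat {A : Type u} [CommRing A] [IsNoetherianRing A] (I : Ideal A)
    (B : Type u) [CommRing B] [Algebra A B] [IsNoetherianRing B] [Module.Flat A B] : RigFlat I B := by
  intro f ψ hψ qf _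
  have hc : ∀ a, ψ (algebraMap A (CompLoc I f) a) =
      algebraMap A (CompLoc (I.map (algebraMap A B)) (algebraMap A B f)) a := fun a => Eq.trans
    (algebraMap_compLoc_map I f ψ hψ a)
    (Eq.symm (IsScalarTower.algebraMap_apply A B (CompLoc (I.map (algebraMap A B)) (algebraMap A B f)) a))
  exact RingHom.Flat.comp (flat_compLoc_of_flat I f rfl
    ({ toRingHom := ψ, commutes' := hc } : CompLoc I f →ₐ[A] CompLoc (I.map (algebraMap A B)) (algebraMap A B f)))
    (RingHom.flat_algebraMap_iff.2 (IsLocalization.flat _ qf.asIdeal.primeCompl))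

/-- A point of the completed localisation over a given one, along a faithfully flat map. -/
theorem exists_prime_over_compLoc {B : Type u} [CommRing B] [IsNoetherianRing B] (J : Ideal B) (g : B)
    {B' : Type u} [CommRing B'] [Algebra B B'] [IsNoetherianRing B'] [Module.FaithfullyFlat B B']
    {J' : Ideal B'} (hJ : J' = J.map (algebraMap B B')) {g' : B'} (hg : g' = algebraMap B B' g)
    (ψ : CompLoc J g →ₐ[B] CompLoc J' g') (m : Ideal (CompLoc J g)) [m.IsMaximal]
    (hIm : J.map (algebraMap B (CompLoc J g)) ≤ m) :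
    ∃ Q : PrimeSpectrum (CompLoc J' g'),
      (J.map (algebraMap B (CompLoc J g))).map ψ.toRingHom ≤ Q.asIdeal ∧ Q.asIdeal.comap ψ.toRingHom = m := by
  let n : PrimeSpectrum B := ⟨m.comap (algebraMap B (CompLoc J g)), Ideal.comap_isPrime _ _⟩
  have hgn : g ∉ n.asIdeal := fun h =>
    Ideal.IsPrime.ne_top inferInstance (Ideal.eq_top_of_isUnit_mem m h (isUnit_compLoc J g))
  obtain ⟨n', hn'⟩ := PrimeSpectrum.comap_surjective_of_faithfullyFlat (A := B) (B := B') n
  let K := n'.asIdeal.ResidueField
  have hKzero : J'.map (algebraMap B' K) = ⊥ := by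
    rw [Ideal.map_eq_bot_iff_le_ker, Ideal.ker_algebraMap_residueField, hJ, Ideal.map_le_iff_le_comap]
    intro x hx
    show x ∈ (PrimeSpectrum.comap (algebraMap B B') n').asIdeal
    rw [hn']
    exact hIm (Ideal.mem_map_of_mem _ hx)
  haveI : IsAdicComplete (J'.map (algebraMap B' K)) K := by rw [hKzero]; infer_instance
  have hgK : IsUnit (algebraMap B' K g') := by
    refine isUnit_iff_ne_zero.2 fun h => hgn ?_
    rw [← RingHom.mem_ker, Ideal.ker_algebraMap_residueField, hg] at h
    rw [← hn']
    exact h
  obtain ⟨χ⟩ : Nonempty (CompLoc J' g' →ₐ[B'] K) := ⟨CompLoc.lift J' hgK⟩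
  haveI : (RingHom.ker χ.toRingHom).IsPrime := RingHom.ker_isPrime _
  refine ⟨⟨RingHom.ker χ.toRingHom, this⟩, ?_, ?_⟩
  · rw [map_ideal_algHom J ψ, ← map_map_tower (B := B') J, ← hJ, Ideal.map_le_iff_le_comap]
    intro x hx
    rw [Ideal.mem_comap, RingHom.mem_ker]
    exact (χ.commutes x).trans ((Submodule.mem_bot K).1 (hKzero.le (Ideal.mem_map_of_mem _ hx)))
  · refine (Ideal.IsMaximal.eq_of_le inferInstance
      (Ideal.IsPrime.ne_top (Ideal.comap_isPrime ψ.toRingHom _)) fun x hx => ?_).symm
    obtain ⟨s, hs⟩ := exists_sub_mem_compLoc J g x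
    obtain ⟨a, b, hab⟩ := IsLocalization.Away.surj g s
    have hker : (J.map (algebraMap B (CompLoc J g))) ≤ (RingHom.ker χ.toRingHom).comap ψ.toRingHom := by
      rw [Ideal.map_le_iff_le_comap]
      intro y hy
      rw [Ideal.mem_comap, Ideal.mem_comap, RingHom.mem_ker]
      show χ (ψ (algebraMap B _ y)) = 0
      rw [ψ.commutes, IsScalarTower.algebraMap_apply B B' (CompLoc J' g'), χ.commutes]
      exact (Submodule.mem_bot K).1 (hKzero.le (Ideal.mem_map_of_mem _ (hJ ▸ Ideal.mem_map_of_mem _ hy)))
    have hsm : algebraMap (Localization.Away g) (CompLoc J g) s ∈ m := by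
      have := add_mem (hIm hs) hx
      rwa [sub_add_cancel] at this
    have hbm : b ∈ n.asIdeal := by
      show algebraMap B (CompLoc J g) b ∈ m
      rw [IsScalarTower.algebraMap_apply B (Localization.Away g) (CompLoc J g), ← hab, map_mul]
      exact m.mul_mem_right _ hsm
    have hb0 : χ (ψ (algebraMap B (CompLoc J g) b)) = 0 := by
      rw [ψ.commutes, IsScalarTower.algebraMap_apply B B' (CompLoc J' g'), χ.commutes, ← RingHom.mem_ker,
        Ideal.ker_algebraMap_residueField]
      rw [← hn'] at hbm
      exact hbm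
    have hs0 : χ (ψ (algebraMap (Localization.Away g) (CompLoc J g) s)) = 0 := by
      rw [IsScalarTower.algebraMap_apply B (Localization.Away g) (CompLoc J g), ← hab, map_mul, map_mul, map_mul,
        mul_eq_zero] at hb0
      exact hb0.resolve_right (IsUnit.ne_zero
        ((((IsLocalization.Away.algebraMap_pow_isUnit g a).map _).map ψ).map χ))
    have h := hker hs
    rw [Ideal.mem_comap, RingHom.mem_ker, map_sub, map_sub] at h
    rw [Ideal.mem_comap, RingHom.mem_ker]
    exact neg_eq_zero.1 ((zero_sub _).symm.trans ((congrArg (· - χ (ψ x)) hs0.symm).trans h))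

theorem flat_at_point_descend {A X Y : Type u} [CommRing A] [CommRing X] [CommRing Y]
    (ψ : A →+* X) (χ : X →+* Y) (hχ : χ.Flat) {q : PrimeSpectrum X} {q' : PrimeSpectrum Y}
    (hqq : PrimeSpectrum.comap χ q' = q)
    (h : ((algebraMap Y (Localization.AtPrime q'.asIdeal)).comp (χ.comp ψ)).Flat) :
    ((algebraMap X (Localization.AtPrime q.asIdeal)).comp ψ).Flat :=
  flat_descend_atPrime ψ χ hχ q'.asIdeal q.asIdeal (congrArg PrimeSpectrum.asIdeal hqq).symm h

theorem exists_rigClosed_over {B : Type u} [CommRing B] [IsNoetherianRing B] (J : Ideal B) (g : B)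
    {B' : Type u} [CommRing B'] [Algebra B B'] [IsNoetherianRing B'] [Module.FaithfullyFlat B B']
    {J' : Ideal B'} (hJ : J' = J.map (algebraMap B B')) {g' : B'} (hg : g' = algebraMap B B' g)
    (χ : CompLoc J g →ₐ[B] CompLoc J' g') {q : PrimeSpectrum (CompLoc J g)}
    (hq : RigClosed (J.map (algebraMap B (CompLoc J g))) q) :
    ∃ q' : PrimeSpectrum (CompLoc J' g'),
      RigClosed (J'.map (algebraMap B' (CompLoc J' g'))) q' ∧ PrimeSpectrum.comap χ.toRingHom q' = q := by
  haveI := isNoetherianRing_compLoc J g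
  haveI := isAdicComplete_compLoc J g
  haveI := isNoetherianRing_compLoc J' g'
  haveI hc' := isAdicComplete_compLoc J' g'
  letI : Algebra (CompLoc J g) (CompLoc J' g') := χ.toRingHom.toAlgebra
  haveI : Module.Flat (CompLoc J g) (CompLoc J' g') := flat_compLoc_of_flat J g hJ χ
  have e : (J.map (algebraMap B (CompLoc J g))).map (algebraMap (CompLoc J g) (CompLoc J' g')) =
      J'.map (algebraMap B' (CompLoc J' g')) :=
    ((map_ideal_algHom J χ).trans (map_map_tower J).symm).trans (congrArg (Ideal.map _) hJ.symm)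
  haveI : IsAdicComplete ((J.map (algebraMap B (CompLoc J g))).map (algebraMap (CompLoc J g) (CompLoc J' g')))
      (CompLoc J' g') := e.symm ▸ hc'
  have hq0 : RigClosed ((J.map (algebraMap B (CompLoc J g))).map (algebraMap (CompLoc J g) (CompLoc J g))) q := by
    rwa [Algebra.algebraMap_self, Ideal.map_id]
  haveI : IsAdicComplete ((J.map (algebraMap B (CompLoc J g))).map (algebraMap (CompLoc J g) (CompLoc J g)))
      (CompLoc J g) := by rwa [Algebra.algebraMap_self, Ideal.map_id]
  obtain ⟨m, hm, hqm, hIm, -⟩ := exists_maximal hq0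
  rw [Algebra.algebraMap_self, Ideal.map_id] at hIm
  obtain ⟨Q, hQ, hQm⟩ := exists_prime_over_compLoc J g hJ hg χ m hIm
  obtain ⟨q', hq', hqq⟩ := (exists_rigClosed_over_iff (J.map (algebraMap B (CompLoc J g)))
    (B := CompLoc J' g') q hq).1 ⟨Q, hQ, hqm.trans hQm.ge, show (Q.asIdeal.comap χ.toRingHom).IsMaximal from hQm ▸ hm⟩
  exact ⟨q', e ▸ hq', hqq⟩

theorem rigFlat_descend {A : Type u} [CommRing A] [IsNoetherianRing A] (I : Ideal A)
    {B : Type u} [CommRing B] [Algebra A B] [IsNoetherianRing B]
    {B' : Type u} [CommRing B'] [Algebra A B'] [Algebra B B'] [IsScalarTower A B B'] [IsNoetherianRing B']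
    [Module.FaithfullyFlat B B'] (h : RigFlat I B') : RigFlat I B := by
  intro f ψ hψ qf hqf
  let IB := I.map (algebraMap A B)
  let X := CompLoc IB (algebraMap A B f)
  let Y := CompLoc (I.map (algebraMap A B')) (algebraMap A B' f)
  haveI hcY := isAdicComplete_compLoc (I.map (algebraMap A B')) (algebraMap A B' f)
  have hIB' : IB.map (algebraMap B B') = I.map (algebraMap A B') := map_map_tower I
  have hgB : algebraMap A B' f = algebraMap B B' (algebraMap A B f) := IsScalarTower.algebraMap_apply A B B' f
  have eY : (I.map (algebraMap A B')).map (algebraMap B' Y) = IB.map (algebraMap B Y) :=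
    (congrArg (Ideal.map _) hIB'.symm).trans (map_map_tower IB)
  haveI : IsAdicComplete (IB.map (algebraMap B Y)) Y := eY ▸ hcY
  obtain ⟨χ⟩ : Nonempty (X →ₐ[B] Y) := by
    refine ⟨CompLoc.lift IB ?_⟩
    have h1 := isUnit_compLoc (I.map (algebraMap A B')) (algebraMap A B' f)
    have e1 : algebraMap B' Y (algebraMap A B' f) = algebraMap B Y (algebraMap A B f) :=
      (congrArg (algebraMap B' Y) hgB).trans (IsScalarTower.algebraMap_apply B B' Y (algebraMap A B f)).symm
    exact e1 ▸ h1
  have hqf' : RigClosed (IB.map (algebraMap B X)) qf := (map_map_compLoc IB (algebraMap A B f)) ▸ hqf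
  obtain ⟨q', hq', hqq⟩ := exists_rigClosed_over IB (algebraMap A B f) hIB'.symm hgB χ hqf'
  have hψA := algebraMap_compLoc_map I f ψ hψ
  have h2 := h f (χ.toRingHom.comp ψ) (compat_of_comp_algebraMap I f (I.map (algebraMap A B')) _ fun a => by
      show χ (ψ (algebraMap A _ a)) = _
      exact ((congrArg χ (hψA a)).trans (χ.commutes _)).trans ((IsScalarTower.algebraMap_apply B B' Y _).trans
        (congrArg (algebraMap B' Y) (IsScalarTower.algebraMap_apply A B B' a).symm))) q'
    ((map_map_compLoc (I.map (algebraMap A B')) (algebraMap A B' f)).symm ▸ hq')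
  exact flat_at_point_descend ψ χ.toRingHom (flat_compLoc_of_flat IB (algebraMap A B f) hIB'.symm χ) hqq h2

end Groth.Agent.RigPts
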