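/-
Rig-flatness is stable under completed base change.
-/
import Groth.Agent.RigPts.BaseChange
import Groth.Agent.RigPts.RigFlatDescent

set_option autoImplicit false
set_option linter.style.haveILetI false
set_option backward.isDefEq.respectTransparency false

universe u

open scoped TensorProduct

noncomputable section

namespace Groth.Agent.RigPts

variable {A : Type u} [CommRing A] (I : Ideal A) (B : Type u) [CommRing B] [Algebra A B]
  (C : Type u) [CommRing C] [Algebra A C]

local notation:max "CompTensor" I:max B:max C:max =>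
  AdicCompletion (Ideal.map (algebraMap C (TensorProduct A C B)) (Ideal.map (algebraMap A C) I)) (TensorProduct A C B)

/-- The map `B → C ⊗̂_A B`. -/
def inB : B →+* CompTensor I B C :=
  (algebraMap (C ⊗[A] B) (CompTensor I B C)).comp
    (Algebra.TensorProduct.includeRight : B →ₐ[A] C ⊗[A] B).toRingHom

theorem inB_algebraMap (a : A) : inB I B C (algebraMap A B a) = algebraMap A (CompTensor I B C) a := by
  rw [IsScalarTower.algebraMap_apply A (C ⊗[A] B) (CompTensor I B C)]
  exact congrArg (algebraMap (C ⊗[A] B) (CompTensor I B C))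
    ((Algebra.TensorProduct.includeRight : B →ₐ[A] C ⊗[A] B).commutes a)

variable [IsNoetherianRing C]

theorem isAdicComplete_compTensor :
    IsAdicComplete (I.map (algebraMap A (CompTensor I B C))) (CompTensor I B C) :=
  (map_map_tower I : (I.map (algebraMap A C)).map (algebraMap C (CompTensor I B C)) =
    I.map (algebraMap A (CompTensor I B C))) ▸ isAdicComplete_comp (I.map (algebraMap A C)) (C ⊗[A] B)

theorem finiteType_compTensor (hB : Algebra.FiniteType A (B ⧸ I.map (algebraMap A B)))
    (hC : Algebra.FiniteType A (C ⧸ I.map (algebraMap A C))) :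
    Algebra.FiniteType A (CompTensor I B C ⧸ I.map (algebraMap A (CompTensor I B C))) := by
  let D := CompTensor I B C
  let J := I.map (algebraMap A D)
  let TD : (C ⊗[A] B) →ₐ[A] D := IsScalarTower.toAlgHom A _ D
  let fC : (C ⧸ I.map (algebraMap A C)) →ₐ[A] D ⧸ J :=
    Ideal.quotientMapₐ J (TD.comp Algebra.TensorProduct.includeLeft) (Ideal.map_le_iff_le_comap.2 fun x hx => by
      show (TD.comp Algebra.TensorProduct.includeLeft) (algebraMap A C x) ∈ J
      rw [AlgHom.commutes]
      exact Ideal.mem_map_of_mem _ hx)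
  let fB : (B ⧸ I.map (algebraMap A B)) →ₐ[A] D ⧸ J :=
    Ideal.quotientMapₐ J (TD.comp Algebra.TensorProduct.includeRight) (Ideal.map_le_iff_le_comap.2 fun x hx => by
      show (TD.comp Algebra.TensorProduct.includeRight) (algebraMap A B x) ∈ J
      rw [AlgHom.commutes]
      exact Ideal.mem_map_of_mem _ hx)
  let U := (C ⧸ I.map (algebraMap A C)) ⊗[A] (B ⧸ I.map (algebraMap A B))
  let F : U →ₐ[A] D ⧸ J := Algebra.TensorProduct.lift fC fB fun _ _ => Commute.all _ _
  haveI := hB
  haveI := hC
  haveI : Algebra.FiniteType A U :=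
    Algebra.FiniteType.trans (R := A) (S := C ⧸ I.map (algebraMap A C)) (A := U) hC inferInstance
  refine Algebra.FiniteType.of_surjective F fun z => ?_
  obtain ⟨x, rfl⟩ := Ideal.Quotient.mk_surjective z
  obtain ⟨s, hs⟩ := exists_sub_mem_comp (I.map (algebraMap A C)) (C ⊗[A] B) x
  have hJ : (I.map (algebraMap A C)).map (algebraMap C D) = J := map_map_tower I
  rw [hJ] at hs
  rw [← Ideal.Quotient.eq.2 hs]
  clear hs
  induction s using TensorProduct.induction_on with
  | zero => exact ⟨0, by rw [map_zero, map_zero, map_zero]⟩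
  | add a b ha hb =>
    obtain ⟨p, hp⟩ := ha
    obtain ⟨r, hr⟩ := hb
    exact ⟨p + r, by rw [map_add, hp, hr, map_add, map_add]⟩
  | tmul c b =>
    refine ⟨Ideal.Quotient.mk _ c ⊗ₜ Ideal.Quotient.mk _ b, ?_⟩
    show fC (Ideal.Quotient.mk _ c) * fB (Ideal.Quotient.mk _ b) = _
    show Ideal.Quotient.mk J (TD (c ⊗ₜ 1)) * Ideal.Quotient.mk J (TD (1 ⊗ₜ b)) = Ideal.Quotient.mk J (TD (c ⊗ₜ b))
    rw [← map_mul, ← map_mul, Algebra.TensorProduct.tmul_mul_tmul, mul_one, one_mul]

theorem isNoetherianRing_compTensor [IsNoetherianRing A] (hB : Algebra.FiniteType A (B ⧸ I.map (algebraMap A B)))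
    (hC : Algebra.FiniteType A (C ⧸ I.map (algebraMap A C))) : IsNoetherianRing (CompTensor I B C) := by
  haveI := isAdicComplete_compTensor I B C
  exact S8800.result A I _ (finiteType_compTensor I B C hB hC)

variable {B C}

omit [IsNoetherianRing C] in
theorem exists_lift_compTensor {S : Type u} [CommRing S] [Algebra A S] [IsAdicComplete (I.map (algebraMap A S)) S]
    (g1 : C →ₐ[A] S) (g2 : B →ₐ[A] S) :
    ∃ G : CompTensor I B C →+* S, (∀ c, G (algebraMap C _ c) = g1 c) ∧ ∀ b, G (inB I B C b) = g2 b := by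
  letI : Algebra C S := g1.toRingHom.toAlgebra
  haveI : IsScalarTower A C S := IsScalarTower.of_algebraMap_eq fun a => (g1.commutes a).symm
  haveI : IsAdicComplete ((I.map (algebraMap A C)).map (algebraMap C S)) S :=
    (map_map_tower I : (I.map (algebraMap A C)).map (algebraMap C S) = I.map (algebraMap A S)).symm ▸
      ‹IsAdicComplete (I.map (algebraMap A S)) S›
  let gT : C ⊗[A] B →ₐ[C] S := Algebra.TensorProduct.lift (Algebra.ofId C S) g2 fun _ _ => Commute.all _ _
  refine ⟨(AdicRingLib.completionLift (I.map (algebraMap A C)) gT).toRingHom, fun c => ?_, fun b => ?_⟩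
  · exact AlgHom.commutes _ c
  · refine (AdicRingLib.completionLift_of (I.map (algebraMap A C)) gT _).trans ?_
    show gT ((1 : C) ⊗ₜ b) = g2 b
    rw [Algebra.TensorProduct.lift_tmul, map_one, one_mul]

theorem ringHom_ext_compTensor {S : Type u} [CommRing S] [Algebra A S] [IsHausdorff (I.map (algebraMap A S)) S]
    (G G' : CompTensor I B C →+* S) (hG : ∀ a, G (algebraMap A _ a) = algebraMap A S a)
    (hc : ∀ c, G (algebraMap C _ c) = G' (algebraMap C _ c)) (hb : ∀ b, G (inB I B C b) = G' (inB I B C b)) :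
    G = G' := by
  letI : Algebra C S := (G.comp (algebraMap C (CompTensor I B C))).toAlgebra
  haveI : IsScalarTower A C S := IsScalarTower.of_algebraMap_eq fun a =>
    (hG a).symm.trans (congrArg G (IsScalarTower.algebraMap_apply A C (CompTensor I B C) a))
  haveI : IsHausdorff ((I.map (algebraMap A C)).map (algebraMap C S)) S :=
    (map_map_tower I : (I.map (algebraMap A C)).map (algebraMap C S) = I.map (algebraMap A S)).symm ▸
      ‹IsHausdorff (I.map (algebraMap A S)) S›
  let f1 : CompTensor I B C →ₐ[C] S := { toRingHom := G, commutes' := fun _ => rfl }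
  let f2 : CompTensor I B C →ₐ[C] S := { toRingHom := G', commutes' := fun c => (hc c).symm }
  have h := AdicRingLib.completion_algHom_ext (S := C ⊗[A] B) (B := S) (I.map (algebraMap A C))
    (IsNoetherian.noetherian _) (f₁ := f1) (f₂ := f2) fun x => by
      show G (algebraMap (C ⊗[A] B) _ x) = G' (algebraMap (C ⊗[A] B) _ x)
      induction x using TensorProduct.induction_on with
      | zero => simp
      | add a b ha hb => rw [map_add, map_add, map_add, ha, hb]
      | tmul c b =>
        have e : algebraMap (C ⊗[A] B) (CompTensor I B C) (c ⊗ₜ b) =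
            algebraMap C (CompTensor I B C) c * inB I B C b := by
          rw [IsScalarTower.algebraMap_apply C (C ⊗[A] B) (CompTensor I B C)]
          show _ = algebraMap (C ⊗[A] B) _ _ * algebraMap (C ⊗[A] B) _ ((1 : C) ⊗ₜ b)
          rw [← map_mul]
          simp [Algebra.TensorProduct.algebraMap_apply, Algebra.TensorProduct.tmul_mul_tmul]
        rw [e, map_mul, map_mul, hc, hb]
  exact RingHom.ext fun x => AlgHom.congr_fun h x

theorem finite_comap {X E Z : Type u} [CommRing X] [IsNoetherianRing X] [CommRing E] [CommRing Z] (j : X →+* E)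
    (θ : E →+* Z) (q : Ideal Z) (h : ((Ideal.Quotient.mk q).comp (θ.comp j)).Finite) :
    ((Ideal.Quotient.mk (q.comap θ)).comp j).Finite := by
  letI : Algebra X E := j.toAlgebra
  letI : Algebra X Z := (θ.comp j).toAlgebra
  haveI : Module.Finite X (Z ⧸ q) := RingHom.finite_algebraMap.1 h
  let θA : E →ₐ[X] Z := { toRingHom := θ, commutes' := fun _ => rfl }
  have h2 : Module.Finite X (E ⧸ q.comap θ) :=
    Module.Finite.of_injective (Ideal.quotientMapₐ (R₁ := X) q θA le_rfl).toLinearMap Ideal.quotientMap_injective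
  exact RingHom.finite_algebraMap.2 h2

omit [IsNoetherianRing C] in
theorem CompLoc.ringHom_ext_of_commutes [IsNoetherianRing A] {f : A} {S : Type u} [CommRing S] [Algebra A S]
    [IsHausdorff (I.map (algebraMap A S)) S] (g₁ g₂ : CompLoc I f →+* S)
    (h₁ : ∀ a, g₁ (algebraMap A _ a) = algebraMap A S a) (h₂ : ∀ a, g₂ (algebraMap A _ a) = algebraMap A S a) :
    g₁ = g₂ :=
  CompLoc.ringHom_ext I g₁ g₂ (I.map (algebraMap A S))
    (le_of_eq (congrArg (fun k => I.map k) (RingHom.ext h₁))) fun a => (h₁ a).trans (h₂ a).symm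

omit [IsNoetherianRing C] in
/-- `flat_baseChange_point` in terms of ring maps. -/
theorem flat_baseChange_point_hom {A0 B0 C0 E : Type u} [CommRing A0] [CommRing B0] [CommRing C0] [CommRing E]
    [Algebra A A0] [Algebra A C0] [Algebra A E] [IsNoetherianRing A0] [IsAdicComplete (I.map (algebraMap A A0)) A0]
    [IsNoetherianRing B0] [IsAdicComplete (I.map (algebraMap A C0)) C0]
    [IsNoetherianRing E] [IsAdicComplete (I.map (algebraMap A E)) E]
    (hft : Algebra.FiniteType A (C0 ⧸ I.map (algebraMap A C0)))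
    (a0 : A0 →ₐ[A] C0) (j1 : A0 →+* B0) (j2 : B0 →+* E) (j3 : C0 →+* E)
    (hcomm : j3.comp a0.toRingHom = j2.comp j1) (hj3 : ∀ x, j3 (algebraMap A C0 x) = algebraMap A E x)
    (hlift : ∀ (S : Type u) [CommRing S] [Algebra A S] [IsAdicComplete (I.map (algebraMap A S)) S]
      (g1 : C0 →+* S) (g2 : B0 →+* S), (∀ x, g1 (algebraMap A C0 x) = algebraMap A S x) →
      (∀ x, g2 (j1 (algebraMap A A0 x)) = algebraMap A S x) → ∃ G : E →+* S, G.comp j3 = g1 ∧ G.comp j2 = g2)
    (hext : ∀ (S : Type u) [CommRing S] [Algebra A S] [IsHausdorff (I.map (algebraMap A S)) S] (G G' : E →+* S),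
      (∀ x, G (algebraMap A E x) = algebraMap A S x) → G.comp j3 = G'.comp j3 → G.comp j2 = G'.comp j2 → G = G')
    (q : Ideal E) [q.IsPrime] (hfin : ((Ideal.Quotient.mk q).comp (j2.comp j1)).Finite)
    (hB : ((algebraMap B0 (Localization.AtPrime (q.comap j2))).comp j1).Flat) :
    ((algebraMap E (Localization.AtPrime q)).comp j3).Flat := by
  letI : Algebra A0 B0 := j1.toAlgebra
  letI : Algebra A0 C0 := a0.toRingHom.toAlgebra
  letI : Algebra A0 E := (j2.comp j1).toAlgebra
  letI : Algebra B0 E := j2.toAlgebra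
  letI : Algebra C0 E := j3.toAlgebra
  haveI : IsScalarTower A0 B0 E := IsScalarTower.of_algebraMap_eq fun _ => rfl
  haveI : IsScalarTower A0 C0 E := IsScalarTower.of_algebraMap_eq fun x => (RingHom.congr_fun hcomm x).symm
  haveI : IsScalarTower A A0 C0 := IsScalarTower.of_algebraMap_eq fun x => (a0.commutes x).symm
  haveI : IsScalarTower A A0 E := IsScalarTower.of_algebraMap_eq fun x =>
    ((RingHom.congr_fun hcomm (algebraMap A A0 x)).symm.trans ((congrArg j3 (a0.commutes x)).trans (hj3 x))).symm
  let I0 := I.map (algebraMap A A0)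
  haveI : IsAdicComplete (I0.map (algebraMap A0 C0)) C0 :=
    (map_map_tower I : I0.map (algebraMap A0 C0) = I.map (algebraMap A C0)).symm ▸
      ‹IsAdicComplete (I.map (algebraMap A C0)) C0›
  haveI : IsAdicComplete (I0.map (algebraMap A0 E)) E :=
    (map_map_tower I : I0.map (algebraMap A0 E) = I.map (algebraMap A E)).symm ▸
      ‹IsAdicComplete (I.map (algebraMap A E)) E›
  haveI : Algebra.FiniteType A (C0 ⧸ I0.map (algebraMap A0 C0)) :=
    (map_map_tower I : I0.map (algebraMap A0 C0) = I.map (algebraMap A C0)).symm ▸ hft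
  have hft0 : Algebra.FiniteType A0 (C0 ⧸ I0.map (algebraMap A0 C0)) :=
    Algebra.FiniteType.of_restrictScalars_finiteType A _ _
  refine flat_baseChange_point I0 hft0 ⟨fun S _ _ _ g1 g2 => ?_, fun S _ _ _ G G' hC hB' => ?_⟩ q hfin hB
  · letI : Algebra A S := ((algebraMap A0 S).comp (algebraMap A A0)).toAlgebra
    haveI : IsScalarTower A A0 S := IsScalarTower.of_algebraMap_eq fun _ => rfl
    haveI : IsAdicComplete (I.map (algebraMap A S)) S :=
      (map_map_tower I : I0.map (algebraMap A0 S) = I.map (algebraMap A S)) ▸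
        ‹IsAdicComplete (I0.map (algebraMap A0 S)) S›
    obtain ⟨G, h1, h2⟩ := hlift S g1.toRingHom g2.toRingHom
      (fun x => (congrArg g1 (a0.commutes x).symm).trans (g1.commutes (algebraMap A A0 x)))
      (fun x => g2.commutes (algebraMap A A0 x))
    exact ⟨{ toRingHom := G, commutes' := fun x => (RingHom.congr_fun h2 (j1 x)).trans (g2.commutes x) },
      fun c => RingHom.congr_fun h1 c, fun b => RingHom.congr_fun h2 b⟩
  · letI : Algebra A S := ((algebraMap A0 S).comp (algebraMap A A0)).toAlgebra
    haveI : IsScalarTower A A0 S := IsScalarTower.of_algebraMap_eq fun _ => rfl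
    haveI : IsHausdorff (I.map (algebraMap A S)) S :=
      (map_map_tower I : I0.map (algebraMap A0 S) = I.map (algebraMap A S)) ▸
        ‹IsHausdorff (I0.map (algebraMap A0 S)) S›
    have h := hext S G.toRingHom G'.toRingHom
      (fun x => (congrArg G (IsScalarTower.algebraMap_apply A A0 E x)).trans (G.commutes _))
      (RingHom.ext hC) (RingHom.ext hB')
    exact AlgHom.ext fun x => RingHom.congr_fun h x

theorem exists_lift_point [IsNoetherianRing A] [IsNoetherianRing B] (a : A) (g : C)
    (ψ2 : CompLoc (I.map (algebraMap A B)) (algebraMap A B a) →+*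
      CompLoc ((I.map (algebraMap A C)).map (algebraMap C (CompTensor I B C))) (algebraMap C (CompTensor I B C) g))
    (hψ2 : ∀ b, ψ2 (algebraMap B _ b) = algebraMap (CompTensor I B C) _ (inB I B C b))
    (ψ3 : CompLoc (I.map (algebraMap A C)) g →ₐ[C]
      CompLoc ((I.map (algebraMap A C)).map (algebraMap C (CompTensor I B C))) (algebraMap C (CompTensor I B C) g))
    (S : Type u) [CommRing S] [Algebra A S] [IsAdicComplete (I.map (algebraMap A S)) S]
    (g1 : CompLoc (I.map (algebraMap A C)) g →+* S) (g2 : CompLoc (I.map (algebraMap A B)) (algebraMap A B a) →+* S)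
    (hg1 : ∀ x, g1 (algebraMap A _ x) = algebraMap A S x) (hg2 : ∀ x, g2 (algebraMap A _ x) = algebraMap A S x) :
    ∃ G : CompLoc ((I.map (algebraMap A C)).map (algebraMap C (CompTensor I B C)))
        (algebraMap C (CompTensor I B C) g) →+* S, G.comp ψ3.toRingHom = g1 ∧ G.comp ψ2 = g2 := by
  let k1 : C →ₐ[A] S :=
    { toRingHom := g1.comp (algebraMap C _)
      commutes' := fun x => (congrArg g1 (IsScalarTower.algebraMap_apply A C _ x).symm).trans (hg1 x) }
  let k2 : B →ₐ[A] S :=
    { toRingHom := g2.comp (algebraMap B _)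
      commutes' := fun x => (congrArg g2 (IsScalarTower.algebraMap_apply A B _ x).symm).trans (hg2 x) }
  obtain ⟨G0, hG0C, hG0B⟩ := exists_lift_compTensor I k1 k2
  letI : Algebra (CompTensor I B C) S := G0.toAlgebra
  haveI : IsScalarTower A (CompTensor I B C) S := IsScalarTower.of_algebraMap_eq fun x =>
    ((congrArg G0 (IsScalarTower.algebraMap_apply A C (CompTensor I B C) x)).trans
      ((hG0C _).trans (k1.commutes x))).symm
  have hID : ((I.map (algebraMap A C)).map (algebraMap C (CompTensor I B C))).map (algebraMap (CompTensor I B C) S) =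
      I.map (algebraMap A S) := (congrArg (Ideal.map _) (map_map_tower I)).trans (map_map_tower I)
  haveI : IsAdicComplete (((I.map (algebraMap A C)).map (algebraMap C (CompTensor I B C))).map
      (algebraMap (CompTensor I B C) S)) S := hID.symm ▸ ‹IsAdicComplete (I.map (algebraMap A S)) S›
  have hu : IsUnit (algebraMap (CompTensor I B C) S (algebraMap C (CompTensor I B C) g)) := by
    show IsUnit (G0 (algebraMap C _ g))
    rw [hG0C]
    exact (isUnit_compLoc (I.map (algebraMap A C)) g).map g1
  obtain ⟨G⟩ := (⟨CompLoc.lift _ hu⟩ : Nonempty (CompLoc ((I.map (algebraMap A C)).map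
    (algebraMap C (CompTensor I B C))) (algebraMap C (CompTensor I B C) g) →ₐ[CompTensor I B C] S))
  refine ⟨G.toRingHom, ?_, ?_⟩
  · refine (CompLoc.ringHom_ext (I.map (algebraMap A C)) g1 _ (I.map (algebraMap A S)) ?_ fun c => ?_).symm
    · rw [Ideal.map_map]
      exact le_of_eq (congrArg (fun k => I.map k) (RingHom.ext k1.commutes))
    · exact (hG0C c).symm.trans ((G.commutes _).symm.trans
        (congrArg G ((ψ3.commutes c).trans (IsScalarTower.algebraMap_apply C (CompTensor I B C) _ c)).symm))
  · refine (CompLoc.ringHom_ext (I.map (algebraMap A B)) g2 _ (I.map (algebraMap A S)) ?_ fun b => ?_).symm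
    · rw [Ideal.map_map]
      exact le_of_eq (congrArg (fun k => I.map k) (RingHom.ext k2.commutes))
    · exact (hG0B b).symm.trans ((G.commutes _).symm.trans (congrArg G (hψ2 b).symm))

theorem ringHom_ext_point (a : A) (g : C) [IsNoetherianRing (CompTensor I B C)]
    (ψ2 : CompLoc (I.map (algebraMap A B)) (algebraMap A B a) →+*
      CompLoc ((I.map (algebraMap A C)).map (algebraMap C (CompTensor I B C))) (algebraMap C (CompTensor I B C) g))
    (hψ2 : ∀ b, ψ2 (algebraMap B _ b) = algebraMap (CompTensor I B C) _ (inB I B C b))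
    (ψ3 : CompLoc (I.map (algebraMap A C)) g →ₐ[C]
      CompLoc ((I.map (algebraMap A C)).map (algebraMap C (CompTensor I B C))) (algebraMap C (CompTensor I B C) g))
    (S : Type u) [CommRing S] [Algebra A S] [IsHausdorff (I.map (algebraMap A S)) S]
    (G G' : CompLoc ((I.map (algebraMap A C)).map (algebraMap C (CompTensor I B C)))
      (algebraMap C (CompTensor I B C) g) →+* S)
    (hG : ∀ x, G (algebraMap A _ x) = algebraMap A S x) (h3 : G.comp ψ3.toRingHom = G'.comp ψ3.toRingHom)
    (h2 : G.comp ψ2 = G'.comp ψ2) : G = G' := by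
  let D := CompTensor I B C
  let ID := (I.map (algebraMap A C)).map (algebraMap C D)
  let E := CompLoc ID (algebraMap C D g)
  have hA : ∀ x, G (algebraMap D E (algebraMap A D x)) = algebraMap A S x := fun x =>
    (congrArg G (IsScalarTower.algebraMap_apply A D E x).symm).trans (hG x)
  have hD : G.comp (algebraMap D E) = G'.comp (algebraMap D E) := by
    refine ringHom_ext_compTensor I _ _ hA (fun c => ?_) fun b => ?_
    · have e : ψ3 (algebraMap C _ c) = algebraMap D E (algebraMap C D c) :=
        (ψ3.commutes c).trans (IsScalarTower.algebraMap_apply C D E c)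
      exact (congrArg G e).symm.trans ((RingHom.congr_fun h3 _).trans (congrArg G' e))
    · exact (congrArg G (hψ2 b)).symm.trans ((RingHom.congr_fun h2 _).trans (congrArg G' (hψ2 b)))
  have hJ : ID.map (G.comp (algebraMap D E)) ≤ I.map (algebraMap A S) := by
    exact le_of_eq ((congrArg (Ideal.map (G.comp (algebraMap D E)))
      (map_map_tower I : ID = I.map (algebraMap A D))).trans
      ((Ideal.map_map _ _).trans (congrArg (fun k => I.map k) (RingHom.ext hA))))
  exact CompLoc.ringHom_ext ID G G' (I.map (algebraMap A S)) hJ fun d => RingHom.congr_fun hD d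

theorem flat_at_point_bc [IsNoetherianRing A] [IsAdicComplete I A] [IsNoetherianRing B]
    (hftB : Algebra.FiniteType A (B ⧸ I.map (algebraMap A B)))
    (hftC : Algebra.FiniteType A (C ⧸ I.map (algebraMap A C))) (hAB : RigFlat I B) (a : A) (g : C)
    {Z : Type u} [CommRing Z] [IsNoetherianRing Z] [Algebra A Z] [IsAdicComplete (I.map (algebraMap A Z)) Z]
    (qZ : PrimeSpectrum Z) (hqZ : RigClosed (I.map (algebraMap A Z)) qZ)
    (hfin : ∀ ψ : CompLoc I a →ₐ[A] Z, ((Ideal.Quotient.mk qZ.asIdeal).comp ψ.toRingHom).Finite)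
    (θ : CompLoc ((I.map (algebraMap A C)).map (algebraMap C (CompTensor I B C)))
      (algebraMap C (CompTensor I B C) g) →ₐ[A] Z)
    (a0 : CompLoc I a →ₐ[A] CompLoc (I.map (algebraMap A C)) g)
    (ψ1 : CompLoc I a →ₐ[A] CompLoc (I.map (algebraMap A B)) (algebraMap A B a))
    (ψ2 : CompLoc (I.map (algebraMap A B)) (algebraMap A B a) →+*
      CompLoc ((I.map (algebraMap A C)).map (algebraMap C (CompTensor I B C))) (algebraMap C (CompTensor I B C) g))
    (hψ2 : ∀ b, ψ2 (algebraMap B _ b) = algebraMap (CompTensor I B C) _ (inB I B C b))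
    (ψ3 : CompLoc (I.map (algebraMap A C)) g →ₐ[C]
      CompLoc ((I.map (algebraMap A C)).map (algebraMap C (CompTensor I B C))) (algebraMap C (CompTensor I B C) g)) :
    ((algebraMap _ (Localization.AtPrime (qZ.asIdeal.comap θ.toRingHom))).comp ψ3.toRingHom).Flat := by
  let IB := I.map (algebraMap A B)
  let IC := I.map (algebraMap A C)
  let D := CompTensor I B C
  let ID := IC.map (algebraMap C D)
  let E := CompLoc ID (algebraMap C D g)
  let B0 := CompLoc IB (algebraMap A B a)
  haveI := isNoetherianRing_compTensor I B C hftB hftC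
  haveI := isNoetherianRing_compLoc I a
  haveI := isAdicComplete_compLoc I a
  haveI := isNoetherianRing_compLoc IB (algebraMap A B a)
  haveI hcB := isAdicComplete_compLoc IB (algebraMap A B a)
  haveI hcC := isAdicComplete_compLoc IC g
  haveI := isNoetherianRing_compLoc ID (algebraMap C D g)
  haveI hcE := isAdicComplete_compLoc ID (algebraMap C D g)
  haveI : IsAdicComplete (I.map (algebraMap A E)) E :=
    ((congrArg (Ideal.map _) (map_map_tower I : ID = I.map (algebraMap A D))).trans (map_map_tower I) :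
      ID.map (algebraMap D E) = I.map (algebraMap A E)) ▸ hcE
  haveI : IsAdicComplete (I.map (algebraMap A (CompLoc IC g))) (CompLoc IC g) :=
    (map_map_tower I : IC.map (algebraMap C (CompLoc IC g)) = I.map (algebraMap A (CompLoc IC g))) ▸ hcC
  have hψ2A : ∀ x, ψ2 (algebraMap A B0 x) = algebraMap A E x := fun x =>
    ((congrArg ψ2 (IsScalarTower.algebraMap_apply A B B0 x)).trans (hψ2 _)).trans
      ((congrArg (algebraMap D E) (inB_algebraMap I B C x)).trans (IsScalarTower.algebraMap_apply A D E x).symm)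
  have hψ3A : ∀ x, ψ3 (algebraMap A _ x) = algebraMap A E x := fun x =>
    ((congrArg ψ3 (IsScalarTower.algebraMap_apply A C _ x)).trans (ψ3.commutes _)).trans
      (IsScalarTower.algebraMap_apply A C E x).symm
  have hψE : ∀ x, (ψ2.comp ψ1.toRingHom) (algebraMap A _ x) = algebraMap A E x := fun x =>
    (congrArg ψ2 (ψ1.commutes x)).trans (hψ2A x)
  have hcomm : ψ3.toRingHom.comp a0.toRingHom = ψ2.comp ψ1.toRingHom :=
    CompLoc.ringHom_ext_of_commutes I _ _ (fun x => (congrArg ψ3 (a0.commutes x)).trans (hψ3A x)) hψE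
  have hfinE : ((Ideal.Quotient.mk qZ.asIdeal).comp (θ.toRingHom.comp (ψ2.comp ψ1.toRingHom))).Finite :=
    hfin { toRingHom := θ.toRingHom.comp (ψ2.comp ψ1.toRingHom),
           commutes' := fun x => (congrArg θ (hψE x)).trans (θ.commutes x) }
  have hI2 : (IB.map (algebraMap B B0)).map (θ.toRingHom.comp ψ2) = I.map (algebraMap A Z) := by
    refine (congrArg (Ideal.map (θ.toRingHom.comp ψ2))
      (map_map_tower I : IB.map (algebraMap B B0) = I.map (algebraMap A B0))).trans
      ((Ideal.map_map _ _).trans (congrArg (fun k => I.map k) (RingHom.ext fun x => ?_)))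
    exact (congrArg θ (hψ2A x)).trans (θ.commutes x)
  have hfin2 : ((Ideal.Quotient.mk qZ.asIdeal).comp (θ.toRingHom.comp ψ2)).Finite :=
    RingHom.Finite.of_comp_finite (f := ψ1.toRingHom) hfinE
  have hqB := rigClosed_comap_of_finite' _ _ (θ.toRingHom.comp ψ2) hI2 hqZ hfin2
  have h1 := hAB a ψ1.toRingHom (compat_of_comp_algebraMap I a IB ψ1.toRingHom fun x =>
    (ψ1.commutes x).trans (IsScalarTower.algebraMap_apply A B B0 x)) _ ((map_map_compLoc IB _).symm ▸ hqB)
  haveI : (qZ.asIdeal.comap θ.toRingHom).IsPrime := Ideal.comap_isPrime θ.toRingHom qZ.asIdeal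
  exact flat_baseChange_point_hom (A0 := CompLoc I a) I
    ((map_map_tower I : IC.map (algebraMap C (CompLoc IC g)) = I.map (algebraMap A (CompLoc IC g))) ▸
      finiteType_quotient_map IC hftC (finiteType_compLoc_quotient IC g))
    a0 ψ1.toRingHom ψ2 ψ3.toRingHom hcomm hψ3A
    (fun S _ _ _ g1 g2 hg1 hg2 => exists_lift_point I a g ψ2 hψ2 ψ3 S g1 g2 hg1
      fun x => (congrArg g2 (ψ1.commutes x)).symm.trans (hg2 x))
    (fun S _ _ _ G G' hG h3 h2 => ringHom_ext_point I a g ψ2 hψ2 ψ3 S G G' hG h3 h2)
    _ (finite_comap (ψ2.comp ψ1.toRingHom) θ.toRingHom qZ.asIdeal hfinE) h1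

omit [IsNoetherianRing C] in
theorem isUnit_prod_tower {D X Z : Type u} [CommRing D] [CommRing X] [CommRing Z] [Algebra A D] [Algebra A X]
    [Algebra D X] [Algebra D Z] [Algebra X Z] [Algebra A Z] [IsScalarTower A D X] [IsScalarTower D X Z]
    (x : D) (a : A) (hX : IsUnit (algebraMap D X x)) (hZ : IsUnit (algebraMap X Z (algebraMap A X a))) :
    IsUnit (algebraMap D Z (x * algebraMap A D a)) := by
  rw [map_mul, IsScalarTower.algebraMap_apply D X Z, IsScalarTower.algebraMap_apply D X Z,
    ← IsScalarTower.algebraMap_apply A D X]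
  exact (hX.map _).mul hZ

theorem exists_hom_of_inB {E : Type u} [CommRing E] [Algebra A E] [Algebra (CompTensor I B C) E]
    [IsScalarTower A (CompTensor I B C) E] [IsAdicComplete (I.map (algebraMap A E)) E] (a : A)
    (hu : IsUnit (algebraMap (CompTensor I B C) E (algebraMap A (CompTensor I B C) a))) :
    ∃ ψ : CompLoc (I.map (algebraMap A B)) (algebraMap A B a) →+* E,
      ∀ b, ψ (algebraMap B _ b) = algebraMap (CompTensor I B C) E (inB I B C b) := by
  letI : Algebra B E := ((algebraMap (CompTensor I B C) E).comp (inB I B C)).toAlgebra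
  haveI : IsScalarTower A B E := IsScalarTower.of_algebraMap_eq fun x =>
    ((congrArg (algebraMap (CompTensor I B C) E) (inB_algebraMap I B C x)).trans
      (IsScalarTower.algebraMap_apply A (CompTensor I B C) E x).symm).symm
  haveI : IsAdicComplete ((I.map (algebraMap A B)).map (algebraMap B E)) E :=
    (map_map_tower I : (I.map (algebraMap A B)).map (algebraMap B E) = I.map (algebraMap A E)).symm ▸
      ‹IsAdicComplete (I.map (algebraMap A E)) E›
  have hu' : IsUnit (algebraMap B E (algebraMap A B a)) := by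
    show IsUnit (algebraMap (CompTensor I B C) E (inB I B C (algebraMap A B a)))
    rw [inB_algebraMap]
    exact hu
  exact ⟨(CompLoc.lift (I.map (algebraMap A B)) hu').toRingHom,
    fun b => AlgHom.commutes (CompLoc.lift (I.map (algebraMap A B)) hu') b⟩

omit [IsNoetherianRing C] in
theorem isUnit_left_of_mul {R X : Type u} [CommRing R] [CommRing X] [Algebra R X] (x y : R)
    (h : IsUnit (algebraMap R X (x * y))) : IsUnit (algebraMap R X x) := by
  rw [map_mul] at h
  exact isUnit_of_mul_isUnit_left h

omit [IsNoetherianRing C] in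
theorem isUnit_right_of_mul {R X : Type u} [CommRing R] [CommRing X] [Algebra A R] [Algebra R X] [Algebra A X]
    [IsScalarTower A R X] (x : R) (a : A) (h : IsUnit (algebraMap R X (x * algebraMap A R a))) :
    IsUnit (algebraMap A X a) := by
  rw [map_mul, ← IsScalarTower.algebraMap_apply] at h
  exact isUnit_of_mul_isUnit_right h

omit [IsNoetherianRing C] in
theorem flat_of_refinement {R X E C0 Z : Type u} [CommRing R] [CommRing X] [CommRing E] [CommRing C0] [CommRing Z]
    {ψ : R →+* X} {φ : R →+* C0} {ψ3 : C0 →+* E} {χ : X →+* E} {θ : E →+* Z} {ι : X →+* Z} (hχ : χ.Flat) (hφ : φ.Flat)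
    (hcomm : ψ3.comp φ = χ.comp ψ) (hθ : θ.comp χ = ι) (qZ : Ideal Z) [qZ.IsPrime] (q : Ideal X) [q.IsPrime]
    (hq : qZ.comap ι = q) (h5 : ((algebraMap E (Localization.AtPrime (qZ.comap θ))).comp ψ3).Flat) :
    ((algebraMap X (Localization.AtPrime q)).comp ψ).Flat := by
  refine flat_descend_atPrime ψ χ hχ (qZ.comap θ) q ?_ (flat_of_comm hcomm (hφ.comp h5))
  rw [Ideal.comap_comap, hθ, hq]

theorem exists_maps_C [IsNoetherianRing A] [IsNoetherianRing (CompTensor I B C)] (a : A) (h : C)
    (ψ : CompLoc (I.map (algebraMap A C)) h →+*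
      CompLoc ((I.map (algebraMap A C)).map (algebraMap C (CompTensor I B C))) (algebraMap C (CompTensor I B C) h))
    (hψ : ψ.comp (algebraMap (Localization.Away h) (CompLoc (I.map (algebraMap A C)) h)) =
      (algebraMap (Localization.Away (algebraMap C (CompTensor I B C) h))
        (CompLoc ((I.map (algebraMap A C)).map (algebraMap C (CompTensor I B C)))
          (algebraMap C (CompTensor I B C) h))).comp (Localization.awayMap (algebraMap C (CompTensor I B C)) h)) :
    ∃ (φ : CompLoc (I.map (algebraMap A C)) h →ₐ[C] CompLoc (I.map (algebraMap A C)) (h * algebraMap A C a))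
      (ψ3 : CompLoc (I.map (algebraMap A C)) (h * algebraMap A C a) →ₐ[C]
        CompLoc ((I.map (algebraMap A C)).map (algebraMap C (CompTensor I B C)))
          (algebraMap C (CompTensor I B C) (h * algebraMap A C a)))
      (χ : CompLoc ((I.map (algebraMap A C)).map (algebraMap C (CompTensor I B C))) (algebraMap C (CompTensor I B C) h)
        →ₐ[CompTensor I B C] CompLoc ((I.map (algebraMap A C)).map (algebraMap C (CompTensor I B C)))
          (algebraMap C (CompTensor I B C) (h * algebraMap A C a))),
      φ.toRingHom.Flat ∧ χ.toRingHom.Flat ∧ ψ3.toRingHom.comp φ.toRingHom = χ.toRingHom.comp ψ := by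
  let IC := I.map (algebraMap A C)
  let D := CompTensor I B C
  let ID := IC.map (algebraMap C D)
  let g := h * algebraMap A C a
  let C0 := CompLoc IC g
  let E := CompLoc ID (algebraMap C D g)
  haveI hcC0 := isAdicComplete_compLoc IC g
  haveI hcE := isAdicComplete_compLoc ID (algebraMap C D g)
  have hEC : ID.map (algebraMap D E) = IC.map (algebraMap C E) := map_map_tower IC
  haveI : IsAdicComplete (IC.map (algebraMap C E)) E := (congrArg (fun J => IsAdicComplete J E) hEC).mp hcE
  have hgD : algebraMap C D g = algebraMap C D h * algebraMap C D (algebraMap A C a) := map_mul _ _ _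
  obtain ⟨φ⟩ : Nonempty (CompLoc IC h →ₐ[C] C0) :=
    ⟨CompLoc.lift IC (isUnit_left_of_mul (X := C0) h (algebraMap A C a) (isUnit_compLoc IC g))⟩
  have huD : IsUnit (algebraMap D E (algebraMap C D h * algebraMap C D (algebraMap A C a))) :=
    (congrArg (fun y => IsUnit (algebraMap D E y)) hgD).mp (isUnit_compLoc ID (algebraMap C D g))
  obtain ⟨χ⟩ : Nonempty (CompLoc ID (algebraMap C D h) →ₐ[D] E) :=
    ⟨CompLoc.lift ID (isUnit_left_of_mul (X := E) _ _ huD)⟩
  obtain ⟨ψ3⟩ : Nonempty (C0 →ₐ[C] E) :=
    ⟨CompLoc.lift IC (isUnit_algebraMap_of_tower (isUnit_compLoc ID (algebraMap C D g)))⟩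
  refine ⟨φ, ψ3, χ, flat_compLoc_hom IC h (algebraMap A C a) rfl rfl φ,
    flat_compLoc_hom ID (algebraMap C D h) (algebraMap C D (algebraMap A C a)) rfl hgD χ, ?_⟩
  refine CompLoc.ringHom_ext_of_commutes (A := C) IC _ _ (fun x => AlgHom.commutes (ψ3.comp φ) x) fun x => ?_
  exact ((congrArg χ (algebraMap_compLoc_map IC h ψ hψ x)).trans (χ.commutes _)).trans
    (IsScalarTower.algebraMap_apply C D E x).symm

theorem exists_maps_bc [IsNoetherianRing A] [IsNoetherianRing B] [IsNoetherianRing (CompTensor I B C)] (a : A) (h : C) :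
    ∃ (_ : CompLoc I a →ₐ[A] CompLoc (I.map (algebraMap A C)) (h * algebraMap A C a))
      (_ : CompLoc I a →ₐ[A] CompLoc (I.map (algebraMap A B)) (algebraMap A B a))
      (ψ2 : CompLoc (I.map (algebraMap A B)) (algebraMap A B a) →+*
        CompLoc ((I.map (algebraMap A C)).map (algebraMap C (CompTensor I B C)))
          (algebraMap C (CompTensor I B C) (h * algebraMap A C a))),
      ∀ b, ψ2 (algebraMap B _ b) = algebraMap (CompTensor I B C) _ (inB I B C b) := by
  let IC := I.map (algebraMap A C)
  let IB := I.map (algebraMap A B)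
  let D := CompTensor I B C
  let ID := IC.map (algebraMap C D)
  let g := h * algebraMap A C a
  let C0 := CompLoc IC g
  let B0 := CompLoc IB (algebraMap A B a)
  let E := CompLoc ID (algebraMap C D g)
  haveI hcC0 := isAdicComplete_compLoc IC g
  haveI : IsAdicComplete (I.map (algebraMap A C0)) C0 :=
    (congrArg (fun J => IsAdicComplete J C0) (map_map_tower I)).mp hcC0
  haveI hcB0 := isAdicComplete_compLoc IB (algebraMap A B a)
  haveI : IsAdicComplete (I.map (algebraMap A B0)) B0 :=
    (congrArg (fun J => IsAdicComplete J B0) (map_map_tower I)).mp hcB0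
  haveI hcE := isAdicComplete_compLoc ID (algebraMap C D g)
  have hIDA : ID = I.map (algebraMap A D) := map_map_tower I
  have hEA : ID.map (algebraMap D E) = I.map (algebraMap A E) :=
    (congrArg (Ideal.map _) hIDA).trans (map_map_tower I)
  haveI : IsAdicComplete (I.map (algebraMap A E)) E := (congrArg (fun J => IsAdicComplete J E) hEA).mp hcE
  obtain ⟨a0⟩ : Nonempty (CompLoc I a →ₐ[A] C0) :=
    ⟨CompLoc.lift I (isUnit_right_of_mul (X := C0) h a (isUnit_compLoc IC g))⟩
  obtain ⟨ψ1⟩ : Nonempty (CompLoc I a →ₐ[A] B0) :=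
    ⟨CompLoc.lift I (isUnit_algebraMap_of_tower (isUnit_compLoc IB (algebraMap A B a)))⟩
  have hgD : algebraMap C D g = algebraMap C D h * algebraMap C D (algebraMap A C a) := map_mul _ _ _
  have huE : IsUnit (algebraMap D E (algebraMap A D a)) := by
    have h1 : IsUnit (algebraMap D E (algebraMap C D h * algebraMap C D (algebraMap A C a))) :=
      (congrArg (fun y => IsUnit (algebraMap D E y)) hgD).mp (isUnit_compLoc ID (algebraMap C D g))
    exact (congrArg (fun y => IsUnit (algebraMap D E y)) (IsScalarTower.algebraMap_apply A C D a)).mpr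
      (isUnit_of_mul_isUnit_right ((congrArg IsUnit (map_mul (algebraMap D E) _ _)).mp h1))
  exact ⟨a0, ψ1, exists_hom_of_inB (E := E) I a huE⟩

theorem exists_hom_of_isUnit {D X Z : Type u} [CommRing D] [CommRing X] [CommRing Z] [Algebra A D] [Algebra A X]
    [Algebra A Z] [Algebra D X] [Algebra D Z] [Algebra X Z] [IsScalarTower A D X] [IsScalarTower D X Z] (J : Ideal D)
    [IsAdicComplete (J.map (algebraMap D Z)) Z] (d : D) (a : A) {e : D} (he : e = d * algebraMap A D a)
    (hX : IsUnit (algebraMap D X d)) (hZ : IsUnit (algebraMap X Z (algebraMap A X a))) :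
    Nonempty (CompLoc J e →ₐ[D] Z) := by
  subst he
  exact ⟨CompLoc.lift J (isUnit_prod_tower d a hX hZ)⟩

theorem rigFlat_baseChange [IsNoetherianRing A] [IsAdicComplete I A] [IsNoetherianRing B]
    (hftB : Algebra.FiniteType A (B ⧸ I.map (algebraMap A B)))
    (hftC : Algebra.FiniteType A (C ⧸ I.map (algebraMap A C))) (hAB : RigFlat I B) :
    RigFlat (I.map (algebraMap A C)) (CompTensor I B C) := by
  intro h ψ hψ q hq0
  let IC := I.map (algebraMap A C)
  let D := CompTensor I B C
  let ID := IC.map (algebraMap C D)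
  haveI := isNoetherianRing_compTensor I B C hftB hftC
  have hIDA : ID = I.map (algebraMap A D) := map_map_tower I
  let X := CompLoc ID (algebraMap C D h)
  haveI := isNoetherianRing_compLoc ID (algebraMap C D h)
  haveI hcX := isAdicComplete_compLoc ID (algebraMap C D h)
  have hXA : ID.map (algebraMap D X) = I.map (algebraMap A X) :=
    (congrArg (Ideal.map _) hIDA).trans (map_map_tower I)
  haveI : IsAdicComplete (I.map (algebraMap A X)) X := (congrArg (fun J => IsAdicComplete J X) hXA).mp hcX
  have hq : RigClosed (I.map (algebraMap A X)) q :=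
    (congrArg (fun J => RigClosed J q) ((map_map_compLoc _ _).trans hXA)).mp hq0
  have hftD : Algebra.FiniteType A (D ⧸ ID) := hIDA.symm ▸ finiteType_compTensor I B C hftB hftC
  have hft : Algebra.FiniteType A (X ⧸ I.map (algebraMap A X)) :=
    hXA ▸ finiteType_quotient_map ID hftD (finiteType_compLoc_quotient ID _)
  obtain ⟨a, hu, hZA, qZ, hqZ, hqZe, hfin⟩ := exists_finite_point I hft hq
  let Z := CompLoc (I.map (algebraMap A X)) (algebraMap A X a)
  haveI := isNoetherianRing_compLoc (I.map (algebraMap A X)) (algebraMap A X a)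
  haveI := hZA
  have hZD : ID.map (algebraMap D Z) = I.map (algebraMap A Z) :=
    (congrArg (Ideal.map _) hIDA).trans (map_map_tower I)
  haveI : IsAdicComplete (ID.map (algebraMap D Z)) Z := (congrArg (fun J => IsAdicComplete J Z) hZD).mpr hZA
  have hgD : algebraMap C D (h * algebraMap A C a) = algebraMap C D h * algebraMap A D a :=
    (map_mul _ _ _).trans (congrArg (algebraMap C D h * ·) (IsScalarTower.algebraMap_apply A C D a).symm)
  obtain ⟨θ⟩ : Nonempty (CompLoc ID (algebraMap C D (h * algebraMap A C a)) →ₐ[D] Z) :=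
    exists_hom_of_isUnit (X := X) ID (algebraMap C D h) a hgD (isUnit_compLoc ID (algebraMap C D h))
      (isUnit_compLoc (I.map (algebraMap A X)) (algebraMap A X a))
  obtain ⟨a0, ψ1, ψ2, hψ2⟩ := exists_maps_bc (B := B) I a h
  obtain ⟨φ, ψ3, χ, hφ, hχ, hcomm⟩ := exists_maps_C I a h ψ hψ
  have h5 := flat_at_point_bc I hftB hftC hAB a (h * algebraMap A C a) qZ hqZ hfin (θ.restrictScalars A) a0 ψ1 ψ2 hψ2 ψ3
  haveI := q.isPrime
  have e1 : θ.toRingHom.comp χ.toRingHom = algebraMap X Z := by
    haveI : IsHausdorff (ID.map (algebraMap D Z)) Z :=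
      (inferInstance : IsAdicComplete (ID.map (algebraMap D Z)) Z).toIsHausdorff
    have := CompLoc.algHom_ext ID (θ.comp χ) (IsScalarTower.toAlgHom D X Z)
    exact RingHom.ext fun x => AlgHom.congr_fun this x
  haveI := qZ.isPrime
  exact flat_of_refinement hχ hφ hcomm e1 qZ.asIdeal q.asIdeal (congrArg PrimeSpectrum.asIdeal hqZe) h5

end Groth.Agent.RigPts
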