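/-
Rig-flatness along maps with etale reduction.
-/
import Groth.Agent.RigPts.RigFlatDescent
import Groth.Agent.RigPts.EtaleFibre
import Groth.Agent.FibFlat.Noetherian

set_option autoImplicit false
set_option linter.style.haveILetI false
set_option backward.isDefEq.respectTransparency false

universe u

open scoped TensorProduct

noncomputable section

namespace Groth.Agent.RigPts

theorem flat_of_field_quotient {R S T : Type u} [CommRing R] [CommRing S] [CommRing T]
    [IsLocalRing R] [IsLocalRing S] [IsLocalRing T] [IsNoetherianRing S] [IsNoetherianRing T]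
    [Algebra R S] [Algebra S T] [Algebra R T] [IsScalarTower R S T]
    [IsLocalHom (algebraMap R S)] [IsLocalHom (algebraMap S T)] [Module.Flat R T]
    (hmax : (IsLocalRing.maximalIdeal R).map (algebraMap R S) = IsLocalRing.maximalIdeal S) : Module.Flat S T := by
  refine FibFlat.flat_of_fibre_local (R := R) ?_
  rw [hmax]
  letI := Ideal.Quotient.field (IsLocalRing.maximalIdeal S)
  infer_instance

/-- If `S` is unramified at a prime over `R`, flatness over `R` gives flatness over `S`. -/
theorem flat_atPrime_of_map_eq {R S T : Type u} [CommRing R] [CommRing S] [CommRing T] [IsNoetherianRing S]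
    [IsNoetherianRing T] [Algebra R S] [Algebra S T] [Algebra R T] [IsScalarTower R S T] (q : Ideal T) [q.IsPrime]
    (hmax : (((q.comap (algebraMap S T)).comap (algebraMap R S)).map (algebraMap R S)).map
        (algebraMap S (Localization.AtPrime (q.comap (algebraMap S T)))) =
      IsLocalRing.maximalIdeal (Localization.AtPrime (q.comap (algebraMap S T))))
    [Module.Flat R (Localization.AtPrime q)] : Module.Flat S (Localization.AtPrime q) := by
  let r := q.comap (algebraMap S T)
  let p := r.comap (algebraMap R S)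
  haveI : q.LiesOver r := ⟨rfl⟩
  haveI : r.LiesOver p := ⟨rfl⟩
  haveI : q.LiesOver p := ⟨by
    show (q.comap (algebraMap S T)).comap (algebraMap R S) = q.comap (algebraMap R T)
    rw [Ideal.comap_comap, ← IsScalarTower.algebraMap_eq]⟩
  let R' := Localization.AtPrime p
  let S' := Localization.AtPrime r
  let T' := Localization.AtPrime q
  letI : Algebra R' S' := Localization.AtPrime.algebraOfLiesOver p r
  letI : Algebra S' T' := Localization.AtPrime.algebraOfLiesOver r q
  letI : Algebra R' T' := Localization.AtPrime.algebraOfLiesOver p q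
  have : IsScalarTower R' S' T' := .of_algebraMap_eq' (by
    apply IsLocalization.ringHom_ext p.primeCompl
    ext a
    simp only [RingHom.comp_apply, ← IsScalarTower.algebraMap_apply R R',
      ← IsScalarTower.algebraMap_apply R S', ← IsScalarTower.algebraMap_apply R T'])
  have : IsLocalHom (algebraMap R' S') := Localization.isLocalHom_localRingHom _ _ _ (r.over_def p)
  have : IsLocalHom (algebraMap S' T') := Localization.isLocalHom_localRingHom _ _ _ (q.over_def r)
  have : IsNoetherianRing S' := IsLocalization.isNoetherianRing r.primeCompl S' inferInstance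
  have : IsNoetherianRing T' := IsLocalization.isNoetherianRing q.primeCompl T' inferInstance
  have : Module.Flat R' T' := (Module.flat_iff_of_isLocalization R' p.primeCompl _).2 inferInstance
  have hm : (IsLocalRing.maximalIdeal R').map (algebraMap R' S') = IsLocalRing.maximalIdeal S' := by
    rw [← Localization.AtPrime.map_eq_maximalIdeal (I := p), Ideal.map_map, ← IsScalarTower.algebraMap_eq,
      IsScalarTower.algebraMap_eq R S S', ← Ideal.map_map]
    exact hmax
  haveI := flat_of_field_quotient (R := R') (S := S') (T := T') hm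
  exact (Module.flat_iff_of_isLocalization S' r.primeCompl T').1 inferInstance

theorem finite_of_eq {X Y Z : Type u} [CommRing X] [CommRing Y] [CommRing Z] {f g : X →+* Y} (k : Y →+* Z)
    (h : f = g) (hfin : (k.comp f).Finite) : (k.comp g).Finite := h ▸ hfin

theorem unramified_quotient_compLoc {A : Type u} [CommRing A] (I : Ideal A)
    {A' : Type u} [CommRing A'] [Algebra A A'] [IsNoetherianRing A']
    [Algebra.FormallyUnramified A (A' ⧸ I.map (algebraMap A A'))] (g : A') :
    Algebra.FormallyUnramified A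
      (CompLoc (I.map (algebraMap A A')) g ⧸
        (I.map (algebraMap A A')).map (algebraMap A' (CompLoc (I.map (algebraMap A A')) g))) := by
  let J := I.map (algebraMap A A')
  let X := CompLoc J g
  let Q := X ⧸ J.map (algebraMap A' X)
  haveI : Algebra.FormallyUnramified A' (Localization.Away g) :=
    Algebra.FormallyUnramified.of_isLocalization (Submonoid.powers g)
  haveI : Algebra.FormallyUnramified A' Q := Algebra.FormallyUnramified.of_surjective
    ((Ideal.Quotient.mkₐ A' (J.map (algebraMap A' X))).comp (IsScalarTower.toAlgHom A' (Localization.Away g) X))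
    fun z => by
      obtain ⟨x, rfl⟩ := Ideal.Quotient.mk_surjective z
      obtain ⟨s, hs⟩ := exists_sub_mem_compLoc J g x
      exact ⟨s, Ideal.Quotient.eq.2 hs⟩
  letI : Algebra (A' ⧸ J) Q := (Ideal.quotientMap (J.map (algebraMap A' X)) (algebraMap A' X) Ideal.le_comap_map).toAlgebra
  haveI : IsScalarTower A' (A' ⧸ J) Q := IsScalarTower.of_algebraMap_eq fun _ => rfl
  haveI : IsScalarTower A (A' ⧸ J) Q := IsScalarTower.of_algebraMap_eq fun a =>
    congrArg (Ideal.Quotient.mk _) (IsScalarTower.algebraMap_apply A A' X a)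
  haveI : Algebra.FormallyUnramified (A' ⧸ J) Q := Algebra.FormallyUnramified.of_restrictScalars A' _ _
  exact Algebra.FormallyUnramified.comp A (A' ⧸ J) Q

/-- Flatness of `A'_{g} → B'_{g}` at a point with residue finite over some `A_{h}`. -/
theorem flat_at_point_etale {A : Type u} [CommRing A] [IsNoetherianRing A] (I : Ideal A) [IsAdicComplete I A]
    {B : Type u} [CommRing B] [Algebra A B] [IsNoetherianRing B]
    {A' : Type u} [CommRing A'] [Algebra A A'] [IsNoetherianRing A']
    (hftA' : Algebra.FiniteType A (A' ⧸ I.map (algebraMap A A')))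
    [Algebra.FormallyUnramified A (A' ⧸ I.map (algebraMap A A'))]
    {B' : Type u} [CommRing B'] [Algebra A B'] [Algebra B B'] [Algebra A' B'] [IsScalarTower A B B']
    [IsScalarTower A A' B'] [IsNoetherianRing B'] [Module.Flat B B']
    (hAB : RigFlat I B) (h : A) (g : A')
    {D : Type u} [CommRing D] [IsNoetherianRing D] [Algebra A D] [IsAdicComplete (I.map (algebraMap A D)) D]
    (qD : PrimeSpectrum D) (hqD : RigClosed (I.map (algebraMap A D)) qD)
    (hfin : ∀ ψ : CompLoc I h →ₐ[A] D, ((Ideal.Quotient.mk qD.asIdeal).comp ψ.toRingHom).Finite)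
    (θ : CompLoc ((I.map (algebraMap A A')).map (algebraMap A' B')) (algebraMap A' B' g) →ₐ[A] D)
    (a : CompLoc I h →ₐ[A] CompLoc (I.map (algebraMap A A')) g)
    (ψ1 : CompLoc I h →ₐ[A] CompLoc (I.map (algebraMap A B)) (algebraMap A B h))
    (ψ2 : CompLoc (I.map (algebraMap A B)) (algebraMap A B h) →ₐ[B]
      CompLoc ((I.map (algebraMap A A')).map (algebraMap A' B')) (algebraMap A' B' g))
    (ψ3 : CompLoc (I.map (algebraMap A A')) g →ₐ[A'] CompLoc ((I.map (algebraMap A A')).map (algebraMap A' B'))
      (algebraMap A' B' g))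
    (hcomm : ψ3.toRingHom.comp a.toRingHom = ψ2.toRingHom.comp ψ1.toRingHom) :
    ((algebraMap _ (Localization.AtPrime (qD.asIdeal.comap θ.toRingHom))).comp ψ3.toRingHom).Flat := by
  let IB := I.map (algebraMap A B)
  let IA' := I.map (algebraMap A A')
  let JB := IA'.map (algebraMap A' B')
  let R0 := CompLoc I h
  let S0 := CompLoc IA' g
  let Bh := CompLoc IB (algebraMap A B h)
  let Y := CompLoc JB (algebraMap A' B' g)
  haveI := isNoetherianRing_compLoc I h
  haveI := isAdicComplete_compLoc I h
  haveI := isNoetherianRing_compLoc IA' g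
  haveI hcS := isAdicComplete_compLoc IA' g
  haveI := isNoetherianRing_compLoc IB (algebraMap A B h)
  haveI hcBh := isAdicComplete_compLoc IB (algebraMap A B h)
  haveI := isNoetherianRing_compLoc JB (algebraMap A' B' g)
  have hJB : JB = IB.map (algebraMap B B') := (map_map_tower I).trans (map_map_tower I).symm
  have hBhA : IB.map (algebraMap B Bh) = I.map (algebraMap A Bh) := map_map_tower I
  -- `A_{h} → (B_{h})_{q}` flat
  let θ2 : Bh →+* D := θ.toRingHom.comp ψ2.toRingHom
  have hθψ : ∀ x, θ2 (ψ1 (algebraMap A R0 x)) = algebraMap A D x := fun x => by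
    show θ (ψ2 (ψ1 (algebraMap A R0 x))) = _
    rw [ψ1.commutes, IsScalarTower.algebraMap_apply A B Bh, ψ2.commutes, IsScalarTower.algebraMap_apply B B' Y,
      ← IsScalarTower.algebraMap_apply A B B', ← IsScalarTower.algebraMap_apply A B' Y, θ.commutes]
  let ψR : R0 →ₐ[A] D := { toRingHom := θ2.comp ψ1.toRingHom, commutes' := hθψ }
  have hfinR : ((Ideal.Quotient.mk qD.asIdeal).comp (θ2.comp ψ1.toRingHom)).Finite := hfin ψR
  have hfin2 : ((Ideal.Quotient.mk qD.asIdeal).comp θ2).Finite :=
    RingHom.Finite.of_comp_finite (f := ψ1.toRingHom) hfinR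
  have hI2 : (IB.map (algebraMap B Bh)).map θ2 = I.map (algebraMap A D) := by
    refine (congrArg (Ideal.map θ2) hBhA).trans ((Ideal.map_map _ _).trans (congrArg (fun k => I.map k)
      (RingHom.ext fun x => ?_)))
    show θ2 (algebraMap A Bh x) = _
    rw [← hθψ x, ψ1.commutes]
  have hqB := rigClosed_comap_of_finite' _ _ θ2 hI2 hqD hfin2
  have h1 := hAB h ψ1.toRingHom (compat_of_comp_algebraMap I h IB ψ1.toRingHom fun x =>
    (ψ1.commutes x).trans (IsScalarTower.algebraMap_apply A B Bh x)) _ ((map_map_compLoc IB _).symm ▸ hqB)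
  have h2 : ((algebraMap Y (Localization.AtPrime (qD.asIdeal.comap θ.toRingHom))).comp ψ2.toRingHom).Flat :=
    RingHom.Flat.comp (flat_compLoc_of_flat IB (algebraMap A B h) hJB ψ2)
      (RingHom.flat_algebraMap_iff.2 (IsLocalization.flat _ (qD.asIdeal.comap θ.toRingHom).primeCompl))
  have h3 : ((algebraMap Y (Localization.AtPrime (qD.asIdeal.comap θ.toRingHom))).comp
      (ψ2.toRingHom.comp ψ1.toRingHom)).Flat :=
    flat_comp_atPrime ψ1.toRingHom ψ2.toRingHom (qD.asIdeal.comap θ.toRingHom) h1 h2
  rw [← hcomm] at h3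
  -- unramifiedness of `A_{h} → A'_{g}`
  letI : Algebra R0 S0 := a.toRingHom.toAlgebra
  haveI : IsScalarTower A R0 S0 := IsScalarTower.of_algebraMap_eq fun x => (a.commutes x).symm
  letI : Algebra S0 Y := ψ3.toRingHom.toAlgebra
  letI : Algebra R0 Y := (ψ3.toRingHom.comp a.toRingHom).toAlgebra
  haveI : IsScalarTower R0 S0 Y := IsScalarTower.of_algebraMap_eq fun _ => rfl
  have hI' : (I.map (algebraMap A R0)).map (algebraMap R0 S0) = IA'.map (algebraMap A' S0) :=
    (map_map_tower I).trans (map_map_tower I).symm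
  haveI : IsAdicComplete ((I.map (algebraMap A R0)).map (algebraMap R0 S0)) S0 := hI'.symm ▸ hcS
  haveI : Algebra.FiniteType A (S0 ⧸ (I.map (algebraMap A R0)).map (algebraMap R0 S0)) :=
    hI'.symm ▸ finiteType_quotient_map IA' hftA' (finiteType_compLoc_quotient IA' g)
  haveI : Algebra.FormallyUnramified A (S0 ⧸ (I.map (algebraMap A R0)).map (algebraMap R0 S0)) :=
    hI'.symm ▸ unramified_quotient_compLoc I g
  haveI : Algebra.FiniteType R0 (S0 ⧸ (I.map (algebraMap A R0)).map (algebraMap R0 S0)) :=
    Algebra.FiniteType.of_restrictScalars_finiteType A _ _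
  haveI : Algebra.FormallyUnramified R0 (S0 ⧸ (I.map (algebraMap A R0)).map (algebraMap R0 S0)) :=
    Algebra.FormallyUnramified.of_restrictScalars A _ _
  let θ3 : R0 →+* D := θ.toRingHom.comp (ψ3.toRingHom.comp a.toRingHom)
  have hI3 : (I.map (algebraMap A R0)).map θ3 = I.map (algebraMap A D) := by
    refine (Ideal.map_map _ _).trans (congrArg (fun k => I.map k) (RingHom.ext fun x => ?_))
    show θ (ψ3.toRingHom.comp a.toRingHom (algebraMap A R0 x)) = _
    rw [hcomm]
    exact hθψ x
  have hfin3 : ((Ideal.Quotient.mk qD.asIdeal).comp θ3).Finite :=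
    finite_of_eq _ (show θ2.comp ψ1.toRingHom = θ3 by
      show (θ.toRingHom.comp ψ2.toRingHom).comp ψ1.toRingHom = θ.toRingHom.comp (ψ3.toRingHom.comp a.toRingHom)
      rw [RingHom.comp_assoc, hcomm]) hfinR
  have hp := rigClosed_comap_of_finite' _ _ θ3 hI3 hqD hfin3
  have hmax := map_comap_eq_maximal (I.map (algebraMap A R0))
    ⟨(qD.asIdeal.comap θ.toRingHom).comap (algebraMap S0 Y), inferInstance⟩ hp
  haveI : Module.Flat R0 (Localization.AtPrime (qD.asIdeal.comap θ.toRingHom)) := by
    rw [← RingHom.flat_algebraMap_iff, IsScalarTower.algebraMap_eq R0 Y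
      (Localization.AtPrime (qD.asIdeal.comap θ.toRingHom))]
    exact h3
  haveI := flat_atPrime_of_map_eq (R := R0) (S := S0) (qD.asIdeal.comap θ.toRingHom) hmax
  have := (RingHom.flat_algebraMap_iff (R := S0) (S := Localization.AtPrime (qD.asIdeal.comap θ.toRingHom))).2
    inferInstance
  rwa [IsScalarTower.algebraMap_eq S0 Y] at this

theorem rigFlat_etale {A : Type u} [CommRing A] [IsNoetherianRing A] (I : Ideal A) [IsAdicComplete I A]
    {B : Type u} [CommRing B] [Algebra A B] [IsNoetherianRing B]
    {A' : Type u} [CommRing A'] [Algebra A A'] [IsNoetherianRing A']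
    [IsAdicComplete (I.map (algebraMap A A')) A']
    (hftA' : Algebra.FiniteType A (A' ⧸ I.map (algebraMap A A')))
    [Algebra.FormallyUnramified A (A' ⧸ I.map (algebraMap A A'))]
    {B' : Type u} [CommRing B'] [Algebra A B'] [Algebra B B'] [Algebra A' B'] [IsScalarTower A B B']
    [IsScalarTower A A' B'] [IsNoetherianRing B'] [Module.Flat B B']
    (hftB' : Algebra.FiniteType A' (B' ⧸ I.map (algebraMap A B')))
    (hAB : RigFlat I B) : RigFlat (I.map (algebraMap A A')) B' := by
  intro f ψ hψ q hq0
  let IA' := I.map (algebraMap A A')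
  let IB := I.map (algebraMap A B)
  let JB := IA'.map (algebraMap A' B')
  have hJB : JB = I.map (algebraMap A B') := map_map_tower I
  let X := CompLoc JB (algebraMap A' B' f)
  haveI := isNoetherianRing_compLoc JB (algebraMap A' B' f)
  haveI hcX := isAdicComplete_compLoc JB (algebraMap A' B' f)
  have hXA : JB.map (algebraMap B' X) = I.map (algebraMap A X) :=
    (congrArg (Ideal.map _) hJB).trans (map_map_tower I)
  haveI : IsAdicComplete (I.map (algebraMap A X)) X := hXA ▸ hcX
  have hq : RigClosed (I.map (algebraMap A X)) q := ((map_map_compLoc _ _).trans hXA) ▸ hq0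
  have hftJB : Algebra.FiniteType A' (B' ⧸ JB) := hJB.symm ▸ hftB'
  have hftAB' : Algebra.FiniteType A (B' ⧸ JB) := finiteType_quotient_map IA' hftA' hftJB
  have hft : Algebra.FiniteType A (X ⧸ I.map (algebraMap A X)) :=
    hXA ▸ finiteType_quotient_map JB hftAB' (finiteType_compLoc_quotient JB _)
  obtain ⟨h, hu, hDA, qD, hqD, hqDe, hfin⟩ := exists_finite_point I hft hq
  let D := CompLoc (I.map (algebraMap A X)) (algebraMap A X h)
  haveI := isNoetherianRing_compLoc (I.map (algebraMap A X)) (algebraMap A X h)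
  haveI := hDA
  let g := f * algebraMap A A' h
  have hgB : algebraMap A' B' g = algebraMap A' B' f * algebraMap A B' h := by
    rw [map_mul, ← IsScalarTower.algebraMap_apply]
  let Y := CompLoc JB (algebraMap A' B' g)
  haveI hcY := isAdicComplete_compLoc JB (algebraMap A' B' g)
  have hDB : JB.map (algebraMap B' D) = I.map (algebraMap A D) :=
    (congrArg (Ideal.map _) hJB).trans (map_map_tower I)
  haveI : IsAdicComplete (JB.map (algebraMap B' D)) D := hDB.symm ▸ hDA
  obtain ⟨θ⟩ : Nonempty (Y →ₐ[B'] D) := by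
    refine ⟨CompLoc.lift JB ?_⟩
    have h1 : IsUnit (algebraMap B' D (algebraMap A' B' f)) :=
      isUnit_algebraMap_of_tower (B := X) ((isUnit_compLoc JB (algebraMap A' B' f)).map (algebraMap X D))
    have h2 : IsUnit (algebraMap B' D (algebraMap A B' h)) :=
      (IsScalarTower.algebraMap_apply A B' D h) ▸
        (isUnit_algebraMap_of_tower (isUnit_compLoc _ (algebraMap A X h)) : IsUnit (algebraMap A D h))
    exact (congrArg (algebraMap B' D) hgB).symm ▸ ((map_mul (algebraMap B' D) _ _).symm ▸ h1.mul h2)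
  -- the rings over `g`
  let S0 := CompLoc IA' g
  haveI hcS := isAdicComplete_compLoc IA' g
  haveI : IsAdicComplete (I.map (algebraMap A S0)) S0 :=
    (map_map_tower I : IA'.map (algebraMap A' S0) = I.map (algebraMap A S0)) ▸ hcS
  haveI : IsAdicComplete (IA'.map (algebraMap A' Y)) Y :=
    (map_map_tower IA' : JB.map (algebraMap B' Y) = IA'.map (algebraMap A' Y)) ▸ hcY
  have hYA : JB.map (algebraMap B' Y) = I.map (algebraMap A Y) :=
    (congrArg (Ideal.map _) hJB).trans (map_map_tower I)
  have hYB : JB.map (algebraMap B' Y) = IB.map (algebraMap B Y) := hYA.trans (map_map_tower I).symm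
  haveI : IsAdicComplete (IB.map (algebraMap B Y)) Y := hYB ▸ hcY
  haveI : IsAdicComplete (I.map (algebraMap A Y)) Y := hYA ▸ hcY
  let Bh := CompLoc IB (algebraMap A B h)
  haveI hcBh := isAdicComplete_compLoc IB (algebraMap A B h)
  haveI : IsAdicComplete (I.map (algebraMap A Bh)) Bh :=
    (map_map_tower I : IB.map (algebraMap B Bh) = I.map (algebraMap A Bh)) ▸ hcBh
  obtain ⟨a⟩ : Nonempty (CompLoc I h →ₐ[A] S0) := by
    refine ⟨CompLoc.lift I (isUnit_algebraMap_of_tower (B := A')
      (isUnit_of_mul_isUnit_right (x := algebraMap A' S0 f) ?_))⟩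
    rw [← map_mul]
    exact isUnit_compLoc IA' g
  obtain ⟨ψ1⟩ : Nonempty (CompLoc I h →ₐ[A] Bh) :=
    ⟨CompLoc.lift I (isUnit_algebraMap_of_tower (isUnit_compLoc IB (algebraMap A B h)))⟩
  have hgY : IsUnit (algebraMap B' Y (algebraMap A' B' f) * algebraMap B' Y (algebraMap A B' h)) := by
    rw [← map_mul, ← hgB]
    exact isUnit_compLoc JB (algebraMap A' B' g)
  obtain ⟨ψ2⟩ : Nonempty (Bh →ₐ[B] Y) :=
    ⟨CompLoc.lift IB (isUnit_algebraMap_of_tower (B := B')
      ((IsScalarTower.algebraMap_apply A B B' h) ▸ isUnit_of_mul_isUnit_right hgY))⟩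
  obtain ⟨ψ3⟩ : Nonempty (S0 →ₐ[A'] Y) :=
    ⟨CompLoc.lift IA' (isUnit_algebraMap_of_tower (isUnit_compLoc JB (algebraMap A' B' g)))⟩
  have hcomm : ψ3.toRingHom.comp a.toRingHom = ψ2.toRingHom.comp ψ1.toRingHom := by
    have := CompLoc.algHom_ext I ((ψ3.restrictScalars A).comp a) ((ψ2.restrictScalars A).comp ψ1)
    exact RingHom.ext fun x => AlgHom.congr_fun this x
  have h5 := flat_at_point_etale I hftA' hAB h g qD hqD hfin (θ.restrictScalars A) a ψ1 ψ2 ψ3 hcomm
  -- descend
  haveI := isNoetherianRing_compLoc IA' f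
  haveI := isAdicComplete_compLoc IA' f
  obtain ⟨φ⟩ : Nonempty (CompLoc IA' f →ₐ[A'] S0) := by
    refine ⟨CompLoc.lift IA' (isUnit_of_mul_isUnit_left (y := algebraMap A' S0 (algebraMap A A' h)) ?_)⟩
    rw [← map_mul]
    exact isUnit_compLoc IA' g
  obtain ⟨χ⟩ : Nonempty (X →ₐ[B'] Y) := ⟨CompLoc.lift JB (isUnit_of_mul_isUnit_left hgY)⟩
  have hχ : χ.toRingHom.Flat := flat_compLoc_hom JB (algebraMap A' B' f) (algebraMap A B' h) rfl hgB χ
  have h4 := (flat_compLoc_hom IA' f (algebraMap A A' h) rfl rfl φ).comp h5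
  have hψA := algebraMap_compLoc_map IA' f ψ hψ
  have hcomm2 : ψ3.toRingHom.comp φ.toRingHom = χ.toRingHom.comp ψ := by
    refine CompLoc.ringHom_ext IA' _ _ (IA'.map (algebraMap A' Y)) ?_ fun x => ?_
    · exact (congrArg (fun k => IA'.map k) (RingHom.ext fun x => AlgHom.commutes (ψ3.comp φ) x)).le
    · exact (AlgHom.commutes (ψ3.comp φ) x).trans
        (((congrArg χ (hψA x)).trans (χ.commutes _)).trans (IsScalarTower.algebraMap_apply A' B' Y x).symm).symm
  haveI := q.isPrime
  refine flat_descend_atPrime ψ χ.toRingHom hχ (qD.asIdeal.comap (θ.restrictScalars A).toRingHom) q.asIdeal ?_ ?_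
  · haveI : IsHausdorff (JB.map (algebraMap B' D)) D := hDB.symm ▸ hDA.toIsHausdorff
    have e1 : θ.toRingHom.comp χ.toRingHom = algebraMap X D := by
      have := CompLoc.algHom_ext JB (θ.comp χ) (IsScalarTower.toAlgHom B' X D)
      exact RingHom.ext fun x => AlgHom.congr_fun this x
    have h6 : qD.asIdeal.comap (θ.toRingHom.comp χ.toRingHom) = q.asIdeal :=
      (congrArg (fun k => qD.asIdeal.comap k) e1).trans (congrArg PrimeSpectrum.asIdeal hqDe)
    exact h6.symm.trans (Ideal.comap_comap (I := qD.asIdeal) χ.toRingHom θ.toRingHom).symm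
  · exact flat_of_comm hcomm2 h4

end Groth.Agent.RigPts
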