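/-
Approximation over a henselian pair `(A, t)` with bounded `t`-torsion of solutions of systems which are
smooth away from `V(t)`.
-/
import Groth.Agent.RigPts.LiftPres
import Groth.Agent.RigPts.LiftAway
import Mathlib.RingTheory.FinitePresentation
import Mathlib.RingTheory.Smooth.Basic

set_option autoImplicit false
set_option linter.style.haveILetI false
set_option backward.isDefEq.respectTransparency false

universe u

open MvPolynomial

noncomputable section

namespace Groth.Agent.RigPts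

variable {A : Type u} [CommRing A] {n : ℕ}

/-- The relation `t ^ c * f ≡ ∑ ∂ᵢ f * gᵢ mod J ^ 2` passes to the ideal. -/
theorem rel_of_span {r : ℕ} (f : Fin r → MvPolynomial (Fin n) A) (g : Fin n → MvPolynomial (Fin n) A)
    (hg : ∀ i, g i ∈ Ideal.span (Set.range f)) (s : MvPolynomial (Fin n) A)
    (hrel : ∀ k, s * f k - ∑ i, pderiv i (f k) * g i ∈ Ideal.span (Set.range f) ^ 2) :
    ∀ p ∈ Ideal.span (Set.range f), s * p - ∑ i, pderiv i p * g i ∈ Ideal.span (Set.range f) ^ 2 := by
  intro p hp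
  refine (Submodule.span_induction (p := fun p _ => p ∈ Ideal.span (Set.range f) ∧
    s * p - ∑ i, pderiv i p * g i ∈ Ideal.span (Set.range f) ^ 2) ?_ ?_ ?_ ?_ hp).2
  · rintro _ ⟨k, rfl⟩
    exact ⟨Ideal.subset_span ⟨k, rfl⟩, hrel k⟩
  · exact ⟨zero_mem _, by simp⟩
  · rintro a b _ _ ⟨ha, ha'⟩ ⟨hb, hb'⟩
    refine ⟨add_mem ha hb, ?_⟩
    have h := add_mem ha' hb'
    convert h using 1
    simp only [map_add, add_mul, Finset.sum_add_distrib]
    ring
  · rintro c a _ ⟨ha, ha'⟩
    refine ⟨Ideal.mul_mem_left _ c ha, ?_⟩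
    have hsum : (∑ i, pderiv i c * g i) * a ∈ Ideal.span (Set.range f) ^ 2 := by
      rw [sq]
      exact Ideal.mul_mem_mul (Ideal.sum_mem _ fun i _ => Ideal.mul_mem_left _ _ (hg i)) ha
    have h := sub_mem (Ideal.mul_mem_left _ c ha') hsum
    convert h using 1
    rw [smul_eq_mul, Finset.sum_mul, mul_sub, Finset.mul_sum, sub_sub, ← Finset.sum_add_distrib]
    refine congrArg₂ (· - ·) (by ring) (Finset.sum_congr rfl fun i _ => ?_)
    rw [pderiv_mul]
    ring

theorem pderiv_mem_of_sq {J : Ideal (MvPolynomial (Fin n) A)} (k : Fin n) {p : MvPolynomial (Fin n) A}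
    (hp : p ∈ J ^ 2) : pderiv k p ∈ J := by
  rw [sq] at hp
  refine Submodule.mul_induction_on (C := fun p => pderiv k p ∈ J) hp (fun a ha b hb => ?_)
    (fun a b ha hb => by rw [map_add]; exact add_mem ha hb)
  rw [pderiv_mul]
  exact add_mem (Ideal.mul_mem_left _ _ hb) (Ideal.mul_mem_right _ _ ha)

/-- The Newton lemma for a smooth system. -/
theorem smooth_newton (t : A) [HenselianRing A (Ideal.span {t})] (N₀ : ℕ)
    (hbd : ∀ a : A, (∃ m : ℕ, t ^ m * a = 0) → t ^ N₀ * a = 0) {r : ℕ} (f : Fin r → MvPolynomial (Fin n) A)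
    (g : Fin n → MvPolynomial (Fin n) A) (hg : ∀ i, g i ∈ Ideal.span (Set.range f)) (c : ℕ)
    (hrel : ∀ k, C (t ^ c) * f k - ∑ i, pderiv i (f k) * g i ∈ Ideal.span (Set.range f) ^ 2)
    (a : ℕ) (ha : 2 * c + 1 ≤ a) (haN : N₀ ≤ a) (x₀ : Fin n → A)
    (hx₀ : ∀ k, eval x₀ (f k) ∈ Ideal.span {t ^ (a + c)}) :
    ∃ x : Fin n → A, (∀ i, x i - x₀ i ∈ Ideal.span {t ^ a}) ∧ ∀ k, eval x (f k) = 0 := by
  classical
  let J := Ideal.span (Set.range f)
  have hJmem : ∀ p ∈ J, eval x₀ p ∈ Ideal.span {t ^ (a + c)} := fun p hp => by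
    have hle : J ≤ (Ideal.span {t ^ (a + c)}).comap (eval x₀) := Ideal.span_le.2 (by
      rintro _ ⟨k, rfl⟩
      exact hx₀ k)
    exact hle hp
  choose u hu using fun i => Ideal.mem_span_singleton'.1 (hJmem (g i) (hg i))
  let Q : Fin n → Fin n → MvPolynomial (Fin n) A := fun i j =>
    (if i = j then C (t ^ c) else 0) - pderiv j (g i)
  -- expansion of the square system
  have hR : ∀ i, ∃ R : MvPolynomial (Fin n) A,
      aeval (fun j => C (x₀ j) + C (t ^ a) * X j) (g i) +
          ∑ j, aeval (fun j => C (x₀ j) + C (t ^ a) * X j) (Q i j) * (C (t ^ a) * X j) =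
        C (eval x₀ (g i)) + C (t ^ (a + c)) * X i + C (t ^ (2 * a)) * R := by
    intro i
    let S := MvPolynomial (Fin n) A
    let p : Fin n → S := fun j => C (x₀ j)
    let q : Fin n → S := fun j => C (x₀ j) + C (t ^ a) * X j
    have he : ∀ e : MvPolynomial (Fin n) A, eval p (map (algebraMap A S) e) = C (eval x₀ e) := fun e =>
      (map_eval (algebraMap A S) x₀ e).symm
    have haev : ∀ e : MvPolynomial (Fin n) A, aeval q e = eval q (map (algebraMap A S) e) := fun e => by
      rw [eval_map]; rfl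
    let T : Ideal S := Ideal.span {C (t ^ a)}
    have hq : ∀ j, q j - p j ∈ T := fun j => by
      simp only [q, p, add_sub_cancel_left]
      exact Ideal.mul_mem_right _ _ (Ideal.mem_span_singleton_self _)
    have h1 : aeval q (g i) - C (eval x₀ (g i)) - ∑ j, C (eval x₀ (pderiv j (g i))) * (C (t ^ a) * X j) ∈ T ^ 2 := by
      have ht := taylor_mem (map (algebraMap A S) (g i)) p (fun j => C (t ^ a) * X j)
      have hle : Ideal.span (Set.range fun j : Fin n => (C (t ^ a) * X j : S)) ≤ T := Ideal.span_le.2 (by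
        rintro _ ⟨j, rfl⟩
        exact Ideal.mul_mem_right _ _ (Ideal.mem_span_singleton_self _))
      have ht' := Ideal.pow_right_mono hle 2 ht
      rw [he, Finset.sum_congr rfl (fun j _ => by rw [pderiv_map, he])] at ht'
      rw [haev]
      exact ht'
    have h2 : ∀ j, (aeval q (Q i j) - C (eval x₀ (Q i j))) * (C (t ^ a) * X j) ∈ T ^ 2 := fun j => by
      rw [sq]
      refine Ideal.mul_mem_mul ?_ (Ideal.mul_mem_right _ _ (Ideal.mem_span_singleton_self _))
      rw [haev, ← he]
      exact Hensel.eval_sub_eval_mem _ hq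
    have h3 := add_mem h1 (Ideal.sum_mem _ (t := Finset.univ) fun j _ => h2 j)
    rw [show T ^ 2 = Ideal.span {(C (t ^ (2 * a)) : S)} by
      rw [Ideal.span_singleton_pow, ← map_pow, ← pow_mul, mul_comm a 2], Ideal.mem_span_singleton'] at h3
    obtain ⟨R, hR⟩ := h3
    refine ⟨R, ?_⟩
    have hlin : (∑ j, C (eval x₀ (pderiv j (g i))) * (C (t ^ a) * X j)) + (∑ j, C (eval x₀ (Q i j)) * (C (t ^ a) * X j)) =
        (C (t ^ (a + c)) * X i : S) := by
      rw [← Finset.sum_add_distrib, Finset.sum_eq_single i]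
      · simp only [Q, if_pos, map_sub, eval_C, pow_add, map_mul]
        ring
      · intro b _ hb
        simp only [Q, if_neg hb.symm, map_sub, map_zero]
        ring
      · simp
    simp only [sub_mul, Finset.sum_sub_distrib] at hR
    linear_combination -hR + hlin
  choose R hR using hR
  let F : Fin n → MvPolynomial (Fin n) A := fun i => C (u i) + X i + C (t ^ (a - c)) * R i
  let y₀ : Fin n → A := fun i => -u i
  have hmem : t ^ (a - c) ∈ Ideal.span {t} :=
    Ideal.pow_mem_of_mem _ (Ideal.mem_span_singleton_self t) _ (by omega)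
  have hquot : Ideal.Quotient.mk (Ideal.span {t}) (t ^ (a - c)) = 0 := Ideal.Quotient.eq_zero_iff_mem.2 hmem
  have hF : ∀ i, eval y₀ (F i) ∈ Ideal.span {t} := fun i => by
    rw [← Ideal.Quotient.eq_zero_iff_mem]
    simp only [F, map_add, map_mul, eval_C, eval_X, hquot, zero_mul, add_zero]
    simp [y₀]
  have hdet : IsUnit (Ideal.Quotient.mk (Ideal.span {t}) (eval y₀ (Hensel.jacDet F))) := by
    have hone : ((Ideal.Quotient.mk (Ideal.span {t})).comp (eval y₀)).mapMatrix
        (Matrix.of fun i j => pderiv i (F j)) = 1 := by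
      refine Matrix.ext fun i j => ?_
      simp only [RingHom.mapMatrix_apply, Matrix.map_apply, Matrix.of_apply, RingHom.comp_apply, F, map_add,
        pderiv_C, pderiv_C_mul, pderiv_X, map_mul, eval_C, map_zero, hquot, zero_mul, add_zero, zero_add]
      rcases eq_or_ne i j with rfl | hij
      · simp
      · simp [Matrix.one_apply_ne hij, Pi.single_eq_of_ne hij, Pi.single_eq_of_ne hij.symm]
    rw [Hensel.jacDet, ← RingHom.comp_apply, RingHom.map_det, hone, Matrix.det_one]
    exact isUnit_one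
  obtain ⟨z, ⟨hz, -⟩, -⟩ := Hensel.existsUnique_root_system F y₀ hF hdet
  let x : Fin n → A := fun j => x₀ j + t ^ a * z j
  have hcomp : ∀ p, eval z (aeval (fun j => C (x₀ j) + C (t ^ a) * X j) p) = eval x p := fun p => by
    have h2 := congrArg (fun φ : MvPolynomial (Fin n) A →ₐ[A] A => φ p)
      (comp_aeval (R := A) (f := fun j => C (x₀ j) + C (t ^ a) * X j) (aeval z))
    simp only [AlgHom.comp_apply] at h2
    rw [← aeval_eq_eval, ← aeval_eq_eval]
    refine h2.trans ?_
    have e : (fun j => aeval z (C (x₀ j) + C (t ^ a) * X j)) = x := funext fun j => by simp [x]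
    rw [e]
  have hG : ∀ i, eval x (g i) + ∑ j, eval x (Q i j) * (t ^ a * z j) = 0 := fun i => by
    have h1 := congrArg (eval z) (hR i)
    simp only [map_add, map_sum, map_mul, hcomp, eval_C, eval_X] at h1
    rw [h1]
    have h2 := congrArg (fun w => t ^ (a + c) * w) (hz i)
    simp only [F, map_add, map_mul, eval_C, eval_X, mul_zero] at h2
    rw [← h2, ← hu i, show 2 * a = (a + c) + (a - c) by omega, pow_add]
    ring
  have hxx : ∀ i, x i - x₀ i ∈ Ideal.span {t ^ a} := fun i => by
    simp only [x, add_sub_cancel_left]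
    exact Ideal.mul_mem_right _ _ (Ideal.mem_span_singleton_self _)
  -- the ideal of values
  let L : Ideal A := Ideal.span (Set.range fun k => eval x (f k))
  have hJL : ∀ p ∈ J, eval x p ∈ L := fun p hp => by
    have hle : J ≤ L.comap (eval x) := Ideal.span_le.2 (by
      rintro _ ⟨k, rfl⟩
      exact Ideal.subset_span ⟨k, rfl⟩)
    exact hle hp
  have hL2 : ∀ p ∈ J ^ 2, eval x p ∈ L * L := fun p hp => by
    have hle : J.map (eval x) ≤ L := Ideal.map_le_iff_le_comap.2 fun q hq => hJL q hq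
    have h := Ideal.mem_map_of_mem (eval x) hp
    rw [Ideal.map_pow, sq] at h
    exact Ideal.mul_mono hle hle h
  have hLt : L ≤ Ideal.span {t ^ a} := Ideal.span_le.2 (by
    rintro _ ⟨k, rfl⟩
    have h := add_mem (Hensel.eval_sub_eval_mem (f k) hxx)
      (Ideal.span_singleton_le_span_singleton.2 (pow_dvd_pow t (Nat.le_add_right a c)) (hx₀ k))
    rwa [sub_add_cancel] at h)
  have hrel' := rel_of_span f g hg (C (t ^ c)) hrel
  let H : Ideal A := L * Ideal.span {t ^ a}
  have hLLH : L * L ≤ H := Ideal.mul_mono le_rfl hLt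
  have hgH : ∀ i, t ^ c * eval x (g i) ∈ H := fun i => by
    have h1 := hL2 _ (hrel' (g i) (hg i))
    simp only [map_sub, map_mul, eval_C, map_sum] at h1
    have h2 : (∑ j, eval x (pderiv j (g i)) * eval x (g j)) ∈ H := by
      have e : (∑ j, eval x (pderiv j (g i)) * eval x (g j)) =
          -∑ l, (∑ j, eval x (pderiv j (g i)) * eval x (Q j l)) * (t ^ a * z l) := by
        rw [← sub_eq_zero, sub_neg_eq_add]
        simp only [Finset.sum_mul]
        rw [Finset.sum_comm, ← Finset.sum_add_distrib]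
        refine Finset.sum_eq_zero fun j _ => ?_
        simp only [mul_assoc, ← Finset.mul_sum, ← mul_add, hG j, mul_zero]
      rw [e]
      refine neg_mem (Ideal.sum_mem _ fun l _ => Ideal.mul_mem_mul ?_
        (Ideal.mul_mem_right _ _ (Ideal.mem_span_singleton_self _)))
      have h3 := pderiv_mem_of_sq l (hrel' (g i) (hg i))
      have h4 : (∑ j, pderiv l (pderiv j (g i)) * g j) ∈ J :=
        Ideal.sum_mem _ fun j _ => Ideal.mul_mem_left _ _ (hg j)
      rw [map_sub, pderiv_C_mul, map_sum] at h3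
      simp only [pderiv_mul, Finset.sum_add_distrib] at h3
      have h5 := hJL _ (add_mem h3 h4)
      convert h5 using 1
      simp only [Q, map_sub, map_add, map_sum, map_mul, eval_C, mul_sub, Finset.sum_sub_distrib, apply_ite (eval x),
        map_zero, mul_ite, mul_zero, Finset.sum_ite_eq', Finset.mem_univ, if_true]
      ring
    have h6 := add_mem (hLLH h1) h2
    rwa [sub_add_cancel] at h6
  have hL' : Ideal.span {t ^ (2 * c)} * L = ⊥ := by
    refine Submodule.eq_bot_of_le_smul_of_le_jacobson_bot (Ideal.span {t ^ (a - 2 * c)}) _ ?_ ?_ ?_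
    · exact Ideal.FG.mul ⟨{t ^ (2 * c)}, by simp⟩ (Submodule.fg_span (Set.finite_range _))
    · rw [smul_eq_mul, ← mul_assoc, Ideal.span_singleton_mul_span_singleton, ← pow_add, Nat.sub_add_cancel (by omega),
        mul_comm (Ideal.span {t ^ a}) L, Ideal.span_singleton_mul_le_iff]
      intro p hp
      refine (Submodule.span_le (p := Submodule.comap (LinearMap.mulLeft A (t ^ (2 * c))) H)).2 ?_ hp
      rintro _ ⟨k, rfl⟩
      show t ^ (2 * c) * eval x (f k) ∈ H
      have h1 := hL2 _ (hrel k)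
      simp only [map_sub, map_mul, eval_C, map_sum] at h1
      have h2 : (∑ i, eval x (pderiv i (f k)) * (t ^ c * eval x (g i))) ∈ H :=
        Ideal.sum_mem _ fun i _ => Ideal.mul_mem_left _ _ (hgH i)
      have h3 := add_mem (Ideal.mul_mem_left _ (t ^ c) (hLLH h1)) h2
      convert h3 using 1
      rw [mul_sub, Finset.mul_sum, two_mul, pow_add]
      simp only [mul_left_comm (eval x (pderiv _ (f k))) (t ^ c)]
      ring
    · refine (Ideal.span_le.2 ?_)
      rw [Set.singleton_subset_iff]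
      exact HenselianRing.jac (Ideal.pow_mem_of_mem _ (Ideal.mem_span_singleton_self t) _ (by omega))
  refine ⟨x, hxx, fun k => ?_⟩
  have hk : eval x (f k) ∈ L := Ideal.subset_span ⟨k, rfl⟩
  have h0 := Ideal.mul_mem_mul (Ideal.mem_span_singleton_self (t ^ (2 * c))) hk
  rw [hL', Ideal.mem_bot] at h0
  obtain ⟨w, hw⟩ := Ideal.mem_span_singleton'.1 (hLt hk)
  have h1 := hbd w ⟨2 * c + a, by rw [pow_add, mul_assoc, mul_comm (t ^ a) w, hw, h0]⟩
  rw [← hw, ← Nat.sub_add_cancel haN, pow_add]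
  calc w * (t ^ (a - N₀) * t ^ N₀) = t ^ (a - N₀) * (t ^ N₀ * w) := by ring
    _ = 0 := by rw [h1, mul_zero]

/-- Equations for an algebra which is smooth after inverting `t`. -/
theorem exists_smooth_system (t : A) {B : Type u} [CommRing B] [Algebra A B] (π : MvPolynomial (Fin n) A →ₐ[A] B)
    (hπ : Function.Surjective π) [Algebra.FormallySmooth A (Aw B t)] [Algebra.FinitePresentation A (Aw B t)] :
    ∃ (r : ℕ) (f : Fin r → MvPolynomial (Fin n) A) (g : Fin n → MvPolynomial (Fin n) A) (c : ℕ),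
      (∀ k, π (f k) = 0) ∧ (∀ i, g i ∈ Ideal.span (Set.range f)) ∧
      (∀ k, C (t ^ c) * f k - ∑ i, pderiv i (f k) * g i ∈ Ideal.span (Set.range f) ^ 2) ∧
      ∀ p, π p = 0 → ∃ m : ℕ, C (t ^ m) * p ∈ Ideal.span (Set.range f) := by
  classical
  let P := MvPolynomial (Fin n) A
  let τ : P := algebraMap A P t
  let Pt := Aw P t
  haveI : Algebra.FinitePresentation P Pt := IsLocalization.Away.finitePresentation τ
  haveI : Algebra.FinitePresentation A Pt := Algebra.FinitePresentation.trans A P Pt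
  let πt := awMap π t
  have hπts : Function.Surjective πt := awMap_surjective π hπ t
  obtain ⟨s, hs⟩ := Algebra.FinitePresentation.ker_fG_of_surjective πt hπts
  have hkt : RingHom.ker πt = (RingHom.ker π).map (algebraMap P Pt) := ker_awMap π t
  have hnum : ∀ z ∈ RingHom.ker πt, ∃ p : P, π p = 0 ∧ ∃ k : ℕ, z * algebraMap P Pt (τ ^ k) = algebraMap P Pt p := by
    intro z hz
    rw [hkt] at hz
    obtain ⟨⟨⟨p, hp⟩, ⟨_, k, rfl⟩⟩, h⟩ := (IsLocalization.mem_map_algebraMap_iff (Submonoid.powers τ) Pt).1 hz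
    exact ⟨p, hp, k, h⟩
  choose num hnum0 kk hkk using fun z : (s : Set Pt) =>
    hnum z (hs ▸ Submodule.subset_span z.2)
  let e := Fintype.equivFin (s : Set Pt)
  let f : Fin (Fintype.card (s : Set Pt)) → P := fun k => num (e.symm k)
  let J₁ : Ideal P := Ideal.span (Set.range f)
  have hJ₁ : J₁.map (algebraMap P Pt) = RingHom.ker πt := by
    refine le_antisymm ?_ ?_
    · rw [hkt]
      refine Ideal.map_mono (Ideal.span_le.2 ?_)
      rintro _ ⟨k, rfl⟩
      exact hnum0 _
    · rw [show RingHom.ker πt = Ideal.span (s : Set Pt) from hs.symm, Ideal.span_le]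
      intro z hz
      refine (Ideal.mul_unit_mem_iff_mem _ (IsLocalization.map_units Pt
        (⟨_, kk ⟨z, hz⟩, rfl⟩ : Submonoid.powers τ))).1 ?_
      show z * algebraMap P Pt (τ ^ kk ⟨z, hz⟩) ∈ _
      rw [show z * algebraMap P Pt (τ ^ kk ⟨z, hz⟩) = algebraMap P Pt (num ⟨z, hz⟩) from hkk ⟨z, hz⟩]
      exact Ideal.mem_map_of_mem _ (Ideal.subset_span ⟨e ⟨z, hz⟩, by simp [f]⟩)
  -- the section modulo the square
  let K : Ideal Pt := (J₁ ^ 2).map (algebraMap P Pt)
  have hKker : K ≤ RingHom.ker πt := hJ₁ ▸ Ideal.map_mono (Ideal.pow_le_self two_ne_zero)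
  let q : (Pt ⧸ K) →ₐ[A] Aw B t := Ideal.Quotient.liftₐ K πt hKker
  have hqs : Function.Surjective q := fun b => by
    obtain ⟨y, rfl⟩ := hπts b
    exact ⟨Ideal.Quotient.mk K y, rfl⟩
  have hqk : RingHom.ker q * RingHom.ker q = ⊥ := by
    have e1 : RingHom.ker q = (J₁.map (algebraMap P Pt)).map (Ideal.Quotient.mk K) := by
      rw [hJ₁]
      refine le_antisymm (fun y hy => ?_) (Ideal.map_le_iff_le_comap.2 fun y hy => hy)
      obtain ⟨z, rfl⟩ := Ideal.Quotient.mk_surjective y
      exact Ideal.mem_map_of_mem _ hy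
    rw [e1, ← Ideal.map_mul, ← Ideal.map_mul, ← sq, Ideal.map_eq_bot_iff_le_ker, Ideal.mk_ker]
  have hnil : IsNilpotent (RingHom.ker (q : (Pt ⧸ K) →+* Aw B t)) := ⟨2, by
    rw [Submodule.pow_succ, Submodule.pow_one]; exact hqk⟩
  let sec := Algebra.FormallySmooth.liftOfSurjective (AlgHom.id A (Aw B t)) q hqs hnil
  have hsec : ∀ b, q (sec b) = b := fun b =>
    Algebra.FormallySmooth.liftOfSurjective_apply (AlgHom.id A (Aw B t)) q hqs hnil b
  let ev : P →ₐ[A] Pt ⧸ K := (Ideal.Quotient.mkₐ A K).comp (IsScalarTower.toAlgHom A P Pt)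
  let w : Fin n → Pt ⧸ K := fun i => ev (X i) - sec (algebraMap B (Aw B t) (π (X i)))
  have hqev : ∀ p, q (ev p) = algebraMap B (Aw B t) (π p) := fun p => awMap_apply π t p
  have hw : ∀ i, w i ∈ RingHom.ker q := fun i => by
    rw [RingHom.mem_ker, map_sub, hsec, hqev, sub_self]
  have hder : ∀ p, π p = 0 → ev p = ∑ i, ev (pderiv i p) * w i := by
    intro p hp
    have e1 : ∀ p, sec (algebraMap B (Aw B t) (π p)) = aeval (fun i => sec (algebraMap B (Aw B t) (π (X i)))) p :=
      fun p => DFunLike.congr_fun (algHom_ext (fun i => (aeval_X (fun i => sec (algebraMap B (Aw B t) (π (X i)))) i).symm) :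
        (sec.comp ((toAw B t).comp π)) = aeval fun i => sec (algebraMap B (Aw B t) (π (X i)))) p
    have e2 : ∀ p, ev p = aeval (fun i => ev (X i)) p :=
      fun p => DFunLike.congr_fun (algHom_ext (fun i => (aeval_X (fun i => ev (X i)) i).symm) :
        ev = aeval fun i => ev (X i)) p
    have h0 : aeval (fun i => sec (algebraMap B (Aw B t) (π (X i)))) p = 0 := by rw [← e1, hp, map_zero, map_zero]
    have ht := aeval_add_of_sq_zero p (fun i => ev (X i)) (fun i => sec (algebraMap B (Aw B t) (π (X i))))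
      (RingHom.ker q) hqk (fun i => by rw [← neg_sub]; exact neg_mem (hw i))
    rw [h0, ← e2] at ht
    have h1 : (∑ i, ev (pderiv i p) * w i) = -∑ i, aeval (fun i => ev (X i)) (pderiv i p) *
        (sec (algebraMap B (Aw B t) (π (X i))) - ev (X i)) := by
      rw [← Finset.sum_neg_distrib]
      refine Finset.sum_congr rfl fun i _ => ?_
      rw [← e2]
      ring
    rw [h1]
    exact eq_neg_of_add_eq_zero_left ht.symm
  -- numerators
  have hgex : ∀ i, ∃ p ∈ J₁, ∃ k : ℕ, w i * ev (τ ^ k) = ev p := by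
    intro i
    obtain ⟨y, hy⟩ := Ideal.Quotient.mk_surjective (w i)
    have hy' : y ∈ J₁.map (algebraMap P Pt) := by
      rw [hJ₁, RingHom.mem_ker]
      have := hw i
      rw [← hy] at this
      exact this
    obtain ⟨⟨⟨p, hp⟩, ⟨_, k, rfl⟩⟩, h⟩ := (IsLocalization.mem_map_algebraMap_iff (Submonoid.powers τ) Pt).1 hy'
    refine ⟨p, hp, k, ?_⟩
    rw [← hy]
    exact ((map_mul (Ideal.Quotient.mk K) y _).symm.trans (congrArg _ h) : _)
  choose p hp kp hkp using hgex
  let E := Finset.univ.sup kp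
  let g₀ : Fin n → P := fun i => τ ^ (E - kp i) * p i
  have hg₀ : ∀ i, ev (g₀ i) = w i * ev (τ ^ E) := fun i => by
    rw [map_mul, ← hkp, mul_left_comm, ← map_mul, ← pow_add,
      Nat.sub_add_cancel (Finset.le_sup (f := kp) (Finset.mem_univ i))]
  have hrel : ∀ k, ∃ m : ℕ, τ ^ m * (τ ^ E * f k - ∑ i, pderiv i (f k) * g₀ i) ∈ J₁ ^ 2 := by
    intro k
    have h1 : ev (τ ^ E * f k - ∑ i, pderiv i (f k) * g₀ i) = 0 := by
      rw [map_sub, map_mul, map_sum, hder (f k) (hnum0 _), Finset.mul_sum, sub_eq_zero]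
      refine Finset.sum_congr rfl fun i _ => ?_
      rw [map_mul, hg₀]
      ring
    obtain ⟨_, ⟨m, rfl⟩, hm⟩ := (IsLocalization.algebraMap_mem_map_algebraMap_iff (Submonoid.powers τ) Pt (J₁ ^ 2) _).1
      (Ideal.Quotient.eq_zero_iff_mem.1 h1)
    exact ⟨m, hm⟩
  choose m hm using hrel
  let M := Finset.univ.sup m
  refine ⟨_, f, fun i => τ ^ M * g₀ i, M + E, fun k => hnum0 _,
    fun i => Ideal.mul_mem_left _ _ (Ideal.mul_mem_left _ _ (hp i)), fun k => ?_, fun p hp' => ?_⟩
  · have h1 := Ideal.mul_mem_left _ (τ ^ (M - m k)) (hm k)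
    rw [← mul_assoc, ← pow_add, Nat.sub_add_cancel (Finset.le_sup (f := m) (Finset.mem_univ k))] at h1
    convert h1 using 1
    rw [mul_sub, Finset.mul_sum, pow_add, map_mul, show (C : A →+* P) = algebraMap A P from rfl, map_pow, map_pow]
    refine congrArg₂ (· - ·) (by ring) (Finset.sum_congr rfl fun i _ => by ring)
  · have h1 : algebraMap P Pt p ∈ J₁.map (algebraMap P Pt) := by
      rw [hJ₁, RingHom.mem_ker, awMap_apply, hp', map_zero]
    obtain ⟨_, ⟨m', rfl⟩, hm'⟩ := (IsLocalization.algebraMap_mem_map_algebraMap_iff (Submonoid.powers τ) Pt J₁ p).1 h1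
    refine ⟨m', ?_⟩
    rw [map_pow]
    exact hm'

end Groth.Agent.RigPts
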